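import Mathlib
import Cfsg.Prelude.Def_Local
import Cfsg.Agent.H459.Rad

/-!
# The `AA` problem: definitions and tools for the families (helper460, S3833, S3834, S3840)

`PE p g`: the order of `g` is a power of `p`.  `PA p x` (`x` an automorphism of `K`): all products `x * x^g`, `g` inner, have
order a power of `p`.  `Core K`: for `p` odd there is no automorphism `x` of order `p` of `K` with `PA p x` and
`H459.Rad.RC x`.
-/

set_option autoImplicit false

namespace Cfsg.Agent.H460.AA

open Subgroup Cfsg Cfsg.Agent.H459.Rad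

/-- the order of `g` is a power of `p` -/
def PE (p : ℕ) {G : Type*} [Group G] (g : G) : Prop := ∃ k : ℕ, orderOf g = p ^ k

/-- all products `x * g x g⁻¹`, `g` inner, have `p`-power order -/
def PA (p : ℕ) {K : Type*} [Group K] (x : MulAut K) : Prop :=
  ∀ g : K, PE p (x * (MulAut.conj g * x * (MulAut.conj g)⁻¹))

/-- the statement needed for each non-abelian simple group -/
def Core (K : Type*) [Group K] : Prop :=
  ∀ (p : ℕ) [Fact p.Prime], p ≠ 2 → ∀ x : MulAut K, orderOf x = p → RC x → PA p x → False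

section PE

variable {p : ℕ} {G H : Type*} [Group G] [Group H]

theorem PE.map [hp : Fact p.Prime] {g : G} (h : PE p g) (f : G →* H) : PE p (f g) := by
  obtain ⟨k, hk⟩ := h
  have h1 : orderOf (f g) ∣ p ^ k := hk ▸ orderOf_map_dvd f g
  obtain ⟨j, -, hj⟩ := (Nat.dvd_prime_pow hp.out).1 h1
  exact ⟨j, hj⟩

theorem PE.of_injective {g : G} {f : G →* H} (hf : Function.Injective f) (h : PE p (f g)) : PE p g := by
  obtain ⟨k, hk⟩ := h
  exact ⟨k, by rw [← hk, orderOf_injective f hf]⟩

theorem PE.coe {S : Subgroup G} {g : S} : PE p (g : G) ↔ PE p g := by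
  unfold PE
  rw [Subgroup.orderOf_coe]

theorem PE.one : PE p (1 : G) := ⟨0, by simp⟩

theorem PE.pow [hp : Fact p.Prime] {g : G} (h : PE p g) (n : ℕ) : PE p (g ^ n) := by
  obtain ⟨k, hk⟩ := h
  have h1 : orderOf (g ^ n) ∣ p ^ k := hk ▸ orderOf_pow_dvd n
  obtain ⟨j, -, hj⟩ := (Nat.dvd_prime_pow hp.out).1 h1
  exact ⟨j, hj⟩

theorem PE.inv {g : G} (h : PE p g) : PE p g⁻¹ := by
  obtain ⟨k, hk⟩ := h
  exact ⟨k, by rw [orderOf_inv, hk]⟩

theorem PE.conj {g : G} (h : PE p g) (a : G) : PE p (a * g * a⁻¹) := by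
  obtain ⟨k, hk⟩ := h
  exact ⟨k, by rw [← hk]; exact orderOf_injective (MulAut.conj a).toMonoidHom (MulAut.conj a).injective g⟩

theorem PE.of_orderOf [hp : Fact p.Prime] {g : G} (h : orderOf g ∣ p) : PE p g := by
  rcases (Nat.dvd_prime hp.out).1 h with h | h
  · exact ⟨0, by simpa using h⟩
  · exact ⟨1, by simpa using h⟩

theorem PE.pow_eq_one_iff {g : G} [hp : Fact p.Prime] : PE p g ↔ ∃ k, g ^ p ^ k = 1 := by
  constructor
  · rintro ⟨k, hk⟩; exact ⟨k, hk ▸ pow_orderOf_eq_one g⟩
  · rintro ⟨k, hk⟩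
    obtain ⟨j, -, hj⟩ := (Nat.dvd_prime_pow hp.out).1 (orderOf_dvd_of_pow_eq_one hk)
    exact ⟨j, hj⟩

/-- a `p`-element of order prime to `p` is trivial -/
theorem PE.eq_one {g : G} (h : PE p g) (h2 : ¬ p ∣ orderOf g) : g = 1 := by
  obtain ⟨k, hk⟩ := h
  rcases Nat.eq_zero_or_pos k with rfl | hk0
  · rw [pow_zero] at hk; exact orderOf_eq_one_iff.1 hk
  · exact absurd (hk ▸ dvd_pow_self p hk0.ne') h2

end PE

section Core

variable {K L : Type*} [Group K] [Group L]

theorem PA_tr {p : ℕ} (e : K ≃* L) {x : MulAut K} (h : PA p x) : PA p (tr e x) := by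
  intro g
  obtain ⟨k, hk⟩ := h (e.symm g)
  refine ⟨k, ?_⟩
  rw [← hk]
  have h1 : tr e x * (MulAut.conj g * tr e x * (MulAut.conj g)⁻¹) =
      trE e (x * (MulAut.conj (e.symm g) * x * (MulAut.conj (e.symm g))⁻¹)) := by
    have h2 : MulAut.conj g = trE e (MulAut.conj (e.symm g)) := by
      ext l
      change g * l * g⁻¹ = e (e.symm g * e.symm l * (e.symm g)⁻¹)
      simp
    have h3 : tr e x = trE e x := rfl
    rw [h2, h3, ← map_inv, ← map_mul, ← map_mul, ← map_mul]
  rw [h1]
  exact orderOf_injective (trE e).toMonoidHom (trE e).injective _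

/-- `Core` is invariant under isomorphism -/
theorem Core.of_equiv [Finite K] (e : K ≃* L) (h : Core L) : Core K := by
  have : Finite L := Finite.of_equiv K e.toEquiv
  intro p _ hp2 x hx hR hP
  exact h p hp2 (tr e x) (by rw [orderOf_tr, hx]) (hR.tr e) (PA_tr e hP)

variable [Finite K]

/-- an inner automorphism with `RC`: the element lies in the radical of every proper subgroup containing it -/
theorem mem_radIn {a : K} (h : RC (MulAut.conj a)) {H : Subgroup K} (hH : H ≠ ⊤) (ha : a ∈ H) : a ∈ radIn H := by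
  have h0 : ∀ m ∈ H, MulAut.conj a m ∈ H := fun m hm => by
    rw [MulAut.conj_apply]; exact H.mul_mem (H.mul_mem ha hm) (H.inv_mem ha)
  have h1 := h H hH h0
  have h2 : (⟨a, ha⟩ : H) ∈ solvableRadical H := by
    refine mem_rad_of_commutator fun g => ?_
    have h3 := h1 g g.2
    exact mem_radIn_coe.1 (by simpa using h3)
  exact mem_radIn_coe.2 h2

theorem RC_conj {a : K} (h : RC (MulAut.conj a)) (g : K) : RC (MulAut.conj (g * a * g⁻¹)) := by
  have h1 := h.tr (MulAut.conj g)
  have h2 : tr (MulAut.conj g) (MulAut.conj a) = MulAut.conj (g * a * g⁻¹) := by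
    ext l
    rw [tr_apply]
    simp [mul_assoc]
  rwa [h2] at h1

omit [Finite K] in
/-- centreless groups: order and products of inner automorphisms are those of the elements -/
theorem conj_injective (hc : Subgroup.center K = ⊥) : Function.Injective (MulAut.conj : K →* MulAut K) := by
  rw [← MonoidHom.ker_eq_bot_iff, eq_bot_iff, ← hc]
  intro z hz
  rw [mem_center_iff]
  intro l
  have h1 : MulAut.conj z l = l := by rw [MonoidHom.mem_ker.1 hz]; rfl
  rw [MulAut.conj_apply] at h1
  calc l * z = (z * l * z⁻¹) * z := by rw [h1]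
    _ = z * l := by group

omit [Finite K] in
theorem pe_of_PA {p : ℕ} (hc : Subgroup.center K = ⊥) {a : K} (h : PA p (MulAut.conj a)) (g : K) :
    PE p (a * (g * a * g⁻¹)) := by
  refine PE.of_injective (f := MulAut.conj) (conj_injective hc) ?_
  have h1 := h g
  rwa [← map_inv, ← map_mul, ← map_mul, ← map_mul] at h1

/-- **Main tool for inner automorphisms**: some proper subgroup of index prime to `p` whose radical has order prime to
`p`. -/
theorem false_of_index {p : ℕ} [hp : Fact p.Prime] {H : Subgroup K} (hH : H ≠ ⊤) (hi : ¬ p ∣ H.index)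
    (hr : ¬ p ∣ Nat.card (solvableRadical H)) {a : K} (ha : orderOf a = p) (h : RC (MulAut.conj a)) : False := by
  -- a conjugate of `a` lies in `H`
  obtain ⟨g, hg⟩ : ∃ g : K, g * a * g⁻¹ ∈ H := by
    have h1 : IsPGroup p (zpowers a) := IsPGroup.of_card (n := 1) (by rw [Nat.card_zpowers, ha, pow_one])
    -- fixed point on `K ⧸ H`
    have h2 : (MulAction.fixedPoints (zpowers a) (K ⧸ H)).Nonempty := by
      refine h1.nonempty_fixed_point_of_prime_not_dvd_card (α := K ⧸ H) ?_
      exact hi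
    obtain ⟨y, hy⟩ := h2
    obtain ⟨g, rfl⟩ := QuotientGroup.mk_surjective y
    refine ⟨g⁻¹, ?_⟩
    have h3 := hy ⟨a, mem_zpowers a⟩
    have h4 : ((a * g : K) : K ⧸ H) = (g : K ⧸ H) := h3
    rw [QuotientGroup.eq] at h4
    have h5 := H.inv_mem h4
    rw [inv_inv]
    have e : ((a * g)⁻¹ * g)⁻¹ = g⁻¹ * a * g := by group
    rwa [e] at h5
  have h1 := mem_radIn (RC_conj h g) hH hg
  have h2 : orderOf (g * a * g⁻¹) = p := by
    rw [← ha]; exact orderOf_injective (MulAut.conj g).toMonoidHom (MulAut.conj g).injective a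
  have h3 := mem_radIn_coe (x := ⟨_, hg⟩) |>.1 h1
  apply hr
  have h4 : orderOf (⟨⟨_, hg⟩, h3⟩ : solvableRadical H) = p := by
    rw [Subgroup.orderOf_mk, Subgroup.orderOf_mk, h2]
  rw [← h4]
  exact orderOf_dvd_natCard _

/-- the element lies in a proper subgroup without radical -/
theorem false_of_mem {a : K} (ha : a ≠ 1) (h : RC (MulAut.conj a)) {H : Subgroup K} (hH : H ≠ ⊤) (haH : a ∈ H)
    (hr : solvableRadical H = ⊥) : False := by
  have h1 := mem_radIn h hH haH
  unfold radIn at h1
  rw [hr, Subgroup.map_bot, mem_bot] at h1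
  exact ha h1

/-- the element lies in a proper subgroup of which it is not in the radical -/
theorem false_of_not_mem {a : K} (h : RC (MulAut.conj a)) {H : Subgroup K} (hH : H ≠ ⊤) (haH : a ∈ H)
    (hr : (⟨a, haH⟩ : H) ∉ solvableRadical H) : False :=
  hr (mem_radIn_coe.1 (mem_radIn h hH haH))

/-- if all automorphisms of odd prime order are inner it suffices to treat elements -/
theorem core_of_inner (hc : Subgroup.center K = ⊥)
    (hin : ∀ (p : ℕ) [Fact p.Prime], p ≠ 2 → ∀ x : MulAut K, orderOf x = p → ∃ a : K, x = MulAut.conj a)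
    (h : ∀ (p : ℕ) [Fact p.Prime], p ≠ 2 → ∀ a : K, orderOf a = p → RC (MulAut.conj a) →
      (∀ g : K, PE p (a * (g * a * g⁻¹))) → False) : Core K := by
  intro p hp hp2 x hx hR hP
  obtain ⟨a, rfl⟩ := hin p hp2 x hx
  have ha : orderOf a = p := by rw [← hx]; exact (orderOf_injective _ (conj_injective hc) a).symm
  exact h p hp2 a ha hR (pe_of_PA hc hP)

end Core

end Cfsg.Agent.H460.AA
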