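import Cfsg.Agent.H460.Typed
import Cfsg.Agent.H185.TypedTw
import Cfsg.Agent.FixBN.PslGood
import Cfsg.Agent.FixBN.ChevGood

/-!
# `PSL_{n+1}(F)` and the Chevalley groups `D.group K`: `HasFTyped` (after H594/TypedAE of helper594)
-/

set_option autoImplicit false
set_option linter.unusedSectionVars false

namespace Cfsg.Agent.H460.FTypedAE

open Matrix CoxeterSystem Cfsg.Agent.ChevalleyStructure.CoxeterGeom Cfsg.Agent.Tits.Roots Cfsg.Agent.Tits.Core
  Cfsg.Agent.Tits.RootComb Cfsg.Agent.Nodes.Comb Cfsg.Agent.Nodes.Reps Cfsg.Agent.Nodes.BNOf Cfsg.Agent.Nodes.BNOf.RGD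
open Cfsg.Agent.Nodes.RGDLib Cfsg.Agent.FixBN Cfsg.Agent.FixBN.FieldRGD Cfsg.Agent.H460.Typed
open Cfsg.Agent.H185.TypedTw (FNode HasFTyped)
open scoped MatrixGroups

section psl

open Cfsg.Agent.Nodes.RootsA Cfsg.Agent.Nodes.RGDTypeA
open Cfsg.Agent.LieRecognition.BNCox (cA)
open Cfsg.Agent.LieClassical.SLGen
open Cfsg.Agent.TitsThree.KSideA (tv tv_of_ne tv_add tv_zero tv_neg)
open Cfsg.Agent.FixBN.PslGood (key isSolvable_T)

/-- **`PSL_{n+1}(F)`, `n ≥ 1`.** -/
theorem ftyped_psl (F : Type) [Field F] [Finite F] {p : ℕ} [Fact p.Prime] [CharP F p] {n : ℕ} (hn : 1 ≤ n) :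
    HasFTyped p (ProjectiveSpecialLinearGroup (Fin (n + 1)) F) (cA n) (fun _ => Nat.card F) := by
  have : Finite (cA n).Group := finite_W (cA n).toCoxeterSystem (isCartan n)
  have : Finite (ProjectiveSpecialLinearGroup (Fin (n + 1)) F) := Quotient.finite _
  have : Nonempty (Fin n) := ⟨⟨0, by omega⟩⟩
  have R := rgd_psl (F := F) (p := p) (cA n).toCoxeterSystem (isCartan n)
  have hgen := rgd_gen_of_G1 R (G1_psl_eq_top (cA n).toCoxeterSystem (isCartan n))
  have hT : Group.IsSolvable ((T (Fin (n + 1)) F).map (pr n F)) := by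
    have := isSolvable_T (ι := Fin (n + 1)) (F := F)
    exact Group.isSolvable_of_surjective ((pr n F).subgroupMap_surjective (T (Fin (n + 1)) F))
  refine ⟨_, isCartan n, _, _, _, inferInstance, R, hgen, hT, fun i => ?_⟩
  have hab : i.castSucc ≠ i.succ := (Fin.castSucc_lt_succ).ne
  refine ⟨_, NodeRGD.node R hgen i, F, inferInstance, inferInstance, rfl, ⟨?_⟩⟩
  refine fieldNode_of_rgd R hgen i (fun a => pr n F (tv i.castSucc i.succ a)) (fun a c => ?_) (fun y => ?_)
    (fun a ha => ?_) (fun a ha => ?_)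
  · rw [tv_add, map_mul]
  · show y ∈ (X F (sr i)).map (pr n F) ↔ _
    rw [X_sr, Subgroup.mem_map]
    constructor
    · rintro ⟨_, ⟨a, rfl⟩, rfl⟩
      exact ⟨a, rfl⟩
    · rintro ⟨a, rfl⟩
      exact ⟨_, ⟨a, rfl⟩, rfl⟩
  · -- the unipotent elements are not central
    have h1 : tv i.castSucc i.succ a ∈ (pr n F).ker := ha
    rw [ker_pr] at h1
    by_contra hne
    have h3 := Subgroup.mem_center_iff.1 h1 (tv i.succ i.castSucc 1)
    have h4 := congrArg (fun g : SpecialLinearGroup (Fin (n + 1)) F =>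
      (g • (Pi.single i.castSucc 1 : Fin (n + 1) → F)) i.castSucc) h3
    rw [tv_of_ne hab, tv_of_ne hab.symm] at h4
    simp only [mul_smul, transvection_smul] at h4
    simp [hab, hab.symm] at h4
    exact hne h4
  · have hk := key hab ha
    have hns : ns n F i = nn i.castSucc i.succ 1 := rfl
    show (pr n F (tv i.castSucc i.succ (-a⁻¹)) * pr n F (ns n F i))⁻¹ *
      (pr n F (ns n F i) * pr n F (tv i.castSucc i.succ a) * pr n F (ns n F i)) ∈ _
    rw [hns, ← map_mul, ← map_mul, ← map_mul, hk, map_mul _ (_ * _) (_ * _), inv_mul_cancel_left, map_mul]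
    refine mul_mem (T_le_B ⟨_, diag_mem_T hab _, rfl⟩) (U_le_B (mem_U (i := i) ?_))
    exact ⟨_, by rw [X_sr]; exact tv_mem_XX _ _ _, rfl⟩

end psl

section sl

variable {I W Y : Type*} [Fintype I] [DecidableEq I] [Group W] [Group Y] {M : CoxeterMatrix I}
variable {cs : CoxeterSystem M W} {A : I → I → ℤ} {h : IsCartan M A} {p : ℕ} {T : Subgroup Y} {n : I → Y}
  {X : (I → ℤ) → Subgroup Y} [Finite W]

/-- A homomorphism of `SL(2, F)` onto the rank one group of the node `i`, normalised, all characteristics. -/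
theorem fieldNode_of_sl (R : RGD cs h p T n X) (hgen : RGD.B cs h T X ⊔ NN cs R.nsys = ⊤) {i : I} {F : Type}
    [Field F] (φ : SL(2, F) →* Y) (b : F) (hb : b ≠ 0) (hr : ∀ y, y ∈ X (sr i) ↔ ∃ a, φ (uu a) = y)
    (hi : ∀ a, φ (uu a) = 1 → a = 0) (hd : ∀ c hc, φ (dd c hc) ∈ RGD.B cs h T X) (hw : φ (ww b hb) = n i) :
    Nonempty (FieldNode (R.bnPair hgen) (Sup X (Pos cs h)) (n i) (Sup X (PosNe cs h i)) F) := by
  refine ⟨fieldNode_of_rgd R hgen i (fun a => φ (uu (b * a))) (fun a c => ?_) (fun y => ?_) (fun a ha => ?_)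
    (fun a ha => ?_)⟩
  · rw [mul_add, uu_add, map_mul]
  · rw [hr]
    constructor
    · rintro ⟨a, rfl⟩
      exact ⟨b⁻¹ * a, by rw [mul_inv_cancel_left₀ hb]⟩
    · rintro ⟨a, rfl⟩
      exact ⟨_, rfl⟩
  · exact (mul_eq_zero.1 (hi _ ha)).resolve_left hb
  · show (φ (uu (b * -a⁻¹)) * n i)⁻¹ * (n i * φ (uu (b * a)) * n i) ∈ _
    rw [← hw, ← map_mul, ← map_mul, ← map_mul, ← map_inv, ← map_mul, inv_key ha hb, map_mul]
    exact mul_mem (hd _ _) (U_le_B (mem_U ((hr _).2 ⟨_, rfl⟩)))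

end sl

section chev

open Cfsg.Lie Cfsg.Agent.ChevalleyStructure Cfsg.Agent.ChevalleyStructure.Elts
  Cfsg.Agent.ChevalleyStructure.NPerm Cfsg.Agent.ChevalleyStructure.CoxeterGeomTypes Cfsg.Agent.Nodes.RGDChev
open Cfsg.Agent.FixBN.ChevGood (isSolvable_T)

variable {D : ChevalleyDatum} {l : ℕ} {M : CoxeterMatrix (Fin l)}

/-- **The Chevalley groups.** -/
theorem ftyped_chev (hp : IsType D l M) (K : Type) [Field K] [Finite K] (p : ℕ) [CharP K p] :
    HasFTyped p ↥(D.group K) M (fun _ => Nat.card K) := by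
  have hpp : p.Prime := CharP.char_is_prime K p
  have : Fact p.Prime := ⟨hpp⟩
  have : Finite M.Group := finite_W hp M.toCoxeterSystem
  refine ⟨_, hp.isCartan, _, _, _, inferInstance, rgd (K := K) hp M.toCoxeterSystem p,
    gen hp M.toCoxeterSystem p, isSolvable_T K hp, fun i => ?_⟩
  refine ⟨_, NodeRGD.node _ _ i, K, inferInstance, inferInstance, rfl, ?_⟩
  have h := simple_lt hp.inList (lt_rank hp i)
  obtain ⟨φ, hφ, hφ'⟩ := Cfsg.Agent.S1030.result (F := K) D hp.inList (D.simple i) h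
  have hu : ∀ a, φ (uu a) = xG hp.inList (D.simple i) a := fun a => Units.ext ((hφ' (uu a) a).1 rfl)
  have hv : ∀ a, φ (vv a) = xG hp.inList (D.neg (D.simple i)) a := fun a => Units.ext ((hφ' (vv a) a).2 rfl)
  have hw : ∀ b (hb : b ≠ 0), φ (ww b hb) = nG hp.inList (D.simple i) b := by
    intro b hb
    have h1 : ww b hb = uu b * (vv (-b⁻¹) * uu b) := by
      apply Subtype.ext
      show !![0, b; -b⁻¹, 0] = !![1, b; 0, 1] * (!![1, 0; -b⁻¹, 1] * !![1, b; 0, 1])
      rw [Matrix.mul_fin_two, Matrix.mul_fin_two]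
      congr 1
      ext i j
      fin_cases i <;> fin_cases j <;> simp [hb]
    rw [h1, map_mul, map_mul, hu, hv, nG_def]
  have hd : ∀ c (hc : c ≠ 0), φ (dd c hc) = hG hp.inList (D.simple i) c := by
    intro c hc
    have h1 : dd c hc = ww c hc * ww (-1) (neg_ne_zero.2 one_ne_zero) := by
      apply Subtype.ext
      show !![c, 0; 0, c⁻¹] = !![0, c; -c⁻¹, 0] * !![0, -1; -(-1)⁻¹, 0]
      rw [Matrix.mul_fin_two]
      congr 1
      ext i j
      fin_cases i <;> fin_cases j <;> simp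
    rw [h1, map_mul, hw, hw, hG_def]
  have hmem : ∀ g, φ g ∈ D.group K := by
    intro g
    have h1 : φ g ∈ D.rootSubgroup K (D.simple i) ⊔ D.rootSubgroup K (D.neg (D.simple i)) := by
      rw [← hφ]; exact ⟨g, rfl⟩
    rw [← XV_sr hp, ← XV_neg_sr hp] at h1
    exact sup_le (XV_le_group hp _) (XV_le_group hp _) h1
  refine fieldNode_of_sl _ _ (φ.codRestrict (D.group K) hmem) 1 one_ne_zero ?_ ?_ ?_ ?_
  · rintro ⟨y, hy⟩
    rw [Subgroup.mem_subgroupOf, XV_sr hp]
    show y ∈ D.rootSubgroup K (D.simple i) ↔ _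
    rw [mem_rootSubgroup_iff hp.inList]
    constructor
    · rintro ⟨t, rfl⟩
      exact ⟨t, Subtype.ext (hu t)⟩
    · rintro ⟨t, ht⟩
      have h1 : φ (uu t) = y := congrArg Subtype.val ht
      exact ⟨t, by rw [← h1, hu]⟩
  · intro a ha
    have h1 : φ (uu a) = 1 := congrArg Subtype.val ha
    rw [hu] at h1
    have h3 : xG hp.inList (D.simple i) a = xG hp.inList (D.simple i) 0 := by rw [h1, xG_zero]
    exact xG_injective hp.inList h h3
  · intro c hc
    refine T_le_B ?_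
    rw [Subgroup.mem_subgroupOf]
    show φ (dd c hc) ∈ _
    rw [hd]
    exact hG_mem_diagonal hp.inList h hc
  · apply Subtype.ext
    exact hw 1 one_ne_zero

end chev

end Cfsg.Agent.H460.FTypedAE
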