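import Mathlib
import Cfsg.Agent.H459.Reduce
import Cfsg.Agent.H460.AADef

/-!
# Reduction of the `AA` problem to `Core` of the non-abelian simple groups (helper460, S3833, S3834, S3840)
-/

set_option autoImplicit false
set_option linter.unusedSectionVars false

namespace Cfsg.Agent.H460.AA

open Cfsg Subgroup Cfsg.Agent.SignalizersComponents.ComponentExists Cfsg.Agent.H459.Rad
open Cfsg.Agent.SignalizersComponents.Components Cfsg.Agent.H459.Reduce
open scoped commutatorElement

universe u

/-- a non-abelian simple group contains commutators which are not `p`-elements -/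
theorem exists_commutator_not_pe {L : Type*} [Group L] [Finite L] [IsSimpleGroup L] (hL : ¬ Group.IsSolvable L)
    (p : ℕ) [hp : Fact p.Prime] : ∃ u v : L, ¬ PE p (u * v * u⁻¹ * v⁻¹) := by
  by_contra hcon
  push Not at hcon
  -- some prime `s ≠ p` divides the order
  obtain ⟨s, hs, hsp, hsd⟩ : ∃ s : ℕ, s.Prime ∧ s ≠ p ∧ s ∣ Nat.card L := by
    by_contra h
    push Not at h
    have h1 : ∃ k, Nat.card L = p ^ k := by
      refine ⟨_, Nat.eq_prime_pow_of_unique_prime_dvd (Nat.card_pos (α := L)).ne' ?_⟩
      intro d hd hdd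
      by_contra hne
      exact h d hd hne hdd
    obtain ⟨k, hk⟩ := h1
    have h2 : IsPGroup p L := IsPGroup.of_card hk
    have := h2.isNilpotent
    exact hL inferInstance
  haveI : Fact s.Prime := ⟨hs⟩
  obtain ⟨S⟩ : Nonempty (Sylow s L) := inferInstance
  have hN : (normalizer (S : Set L)) ≤ centralizer (S : Set L) := by
    intro n hn
    rw [mem_centralizer_iff]
    intro σ hσ
    have h1 : n * σ * n⁻¹ * σ⁻¹ ∈ (S : Subgroup L) :=
      mul_mem ((mem_normalizer_iff.1 hn σ).1 hσ) (inv_mem hσ)
    have h2 : n * σ * n⁻¹ * σ⁻¹ = 1 := by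
      refine PE.eq_one (p := p) (hcon n σ) ?_
      intro hd
      obtain ⟨k, hk⟩ := (IsPGroup.iff_orderOf.1 S.2) ⟨_, h1⟩
      rw [Subgroup.orderOf_mk] at hk
      rw [hk] at hd
      exact hsp ((Nat.prime_dvd_prime_iff_eq hp.out hs).1 (hp.out.dvd_of_dvd_pow hd)).symm
    calc σ * n = (n * σ * n⁻¹ * σ⁻¹)⁻¹ * n * σ := by group
      _ = n * σ := by rw [h2]; group
  have h1 := MonoidHom.ker_transferSylow_isComplement' S hN
  have h2 := MonoidHom.not_dvd_card_ker_transferSylow S hN
  rcases (MonoidHom.normal_ker (MonoidHom.transferSylow S hN)).eq_bot_or_eq_top with h3 | h3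
  · rw [h3] at h1
    have h4 : (S : Subgroup L) = ⊤ := Subgroup.isComplement'_bot_left.1 h1
    have h5 : IsPGroup s L := by
      have h6 := S.2
      rw [h4] at h6
      exact h6.of_equiv Subgroup.topEquiv
    have := h5.isNilpotent
    exact hL inferInstance
  · rw [h3] at h2
    exact h2 (by rwa [Subgroup.card_top])

section Comp

variable {G : Type u} [Group G] [Finite G]

/-- a component, an element moving it: the `AA` condition fails -/
theorem movedAA {p : ℕ} [Fact p.Prime] (hp2 : p ≠ 2) (hR : solvableRadical G = ⊥) {x : G}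
    (hx : x ^ p = 1) {L : Subgroup G} (hL : IsComponent L) (hm : x ∉ normalizer (L : Set G))
    (h : ∀ g : G, PE p (x * (g * x * g⁻¹))) : False := by
  have hp : p.Prime := Fact.out
  have hns : ¬ Group.IsSolvable L := quasisimple_not_isSolvable hL.2
  have hcen := component_center hR hL
  have hsimp := component_simple hR hL
  obtain ⟨u, v, huv⟩ := exists_commutator_not_pe hns p
  apply huv
  set N := normalizer (L : Set G) with hN
  set ρ : N →* MulAut L := L.normalizerMonoidHom with hρ
  have hLN : L ≤ N := le_normalizer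
  have hinj : Function.Injective (MulAut.conj : L →* MulAut L) := conj_injective hcen
  have hρL : ∀ l : L, ρ ⟨l, hLN l.2⟩ = MulAut.conj l := by
    intro l
    ext y
    rfl
  have hρC : ∀ (y : G) (hy : y ∈ N), (∀ l ∈ L, y * l = l * y) → ρ ⟨y, hy⟩ = 1 := by
    intro y hy hc
    ext l
    change y * l * y⁻¹ = l
    rw [hc l l.2]; group
  have hcN : ∀ y : G, (∀ l ∈ L, y * l = l * y) → y ∈ N := by
    intro y hy
    rw [hN, Subgroup.mem_normalizer_iff]
    intro l
    constructor
    · intro hl
      rw [hy l hl]; simpa using hl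
    · intro hl
      have h1 := hy _ hl
      have h2 : y * l * y⁻¹ = l := by
        have h3 : y * (y * l * y⁻¹) = (y * l * y⁻¹) * y := h1
        have h4 : y * (y * l * y⁻¹) = y * l := by rw [h3]; group
        exact mul_left_cancel h4
      rwa [h2] at hl
  -- powers of `x` not divisible by `p` move `L`
  have hmov : ∀ i : ℤ, ¬ (p : ℤ) ∣ i → cj (x ^ i) L ≠ L := by
    intro i hi h1
    have h2 := mem_normalizer_of_cj h1
    apply hm
    have h3 : IsCoprime i (p : ℤ) := by
      rw [isCoprime_comm]
      exact (Nat.prime_iff_prime_int.1 hp).coprime_iff_not_dvd.2 hi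
    obtain ⟨a, b, hab⟩ := h3
    have h4 : x = (x ^ i) ^ a := by
      have h5 : x ^ (p : ℤ) = 1 := by rw [zpow_natCast]; exact hx
      calc x = x ^ (a * i + b * p) := by rw [hab, zpow_one]
        _ = (x ^ i) ^ a * (x ^ (p : ℤ)) ^ b := by
          rw [zpow_add, mul_comm a i, zpow_mul, mul_comm b, zpow_mul]
        _ = _ := by rw [h5, one_zpow, mul_one]
    rw [h4]
    exact zpow_mem h2 a
  -- the image of `x ^ i l x ^ -i`
  have hmemi : ∀ (i : ℤ) (l : L), x ^ i * l * (x ^ i)⁻¹ ∈ N := by
    intro i l
    by_cases hi : (p : ℤ) ∣ i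
    · obtain ⟨j, rfl⟩ := hi
      have h5 : x ^ ((p : ℤ) * j) = 1 := by rw [zpow_mul, zpow_natCast, hx, one_zpow]
      rw [h5]; simpa using hLN l.2
    · exact hcN _ fun l' hl' => comm_of_cj_ne hL (hmov i hi) (conj_mem_cj l.2) hl'
  have himg : ∀ (i : ℤ) (l : L), ρ ⟨_, hmemi i l⟩ = if (p : ℤ) ∣ i then MulAut.conj l else 1 := by
    intro i l
    by_cases hi : (p : ℤ) ∣ i
    · rw [if_pos hi]
      obtain ⟨j, rfl⟩ := hi
      have h5 : x ^ ((p : ℤ) * j) = 1 := by rw [zpow_mul, zpow_natCast, hx, one_zpow]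
      have h6 : (⟨_, hmemi ((p : ℤ) * j) l⟩ : N) = ⟨l, hLN l.2⟩ := by
        apply Subtype.ext
        change x ^ ((p : ℤ) * j) * l * (x ^ ((p : ℤ) * j))⁻¹ = l
        rw [h5]; simp
      rw [h6, hρL]
    · rw [if_neg hi]
      exact hρC _ _ fun l' hl' => comm_of_cj_ne hL (hmov i hi) (conj_mem_cj l.2) hl'
  -- the product
  set g : G := x⁻¹ * u * x * (x⁻¹ * x⁻¹ * (v : G)⁻¹ * x * x) with hg
  have ht := h g
  set t : G := x * (g * x * g⁻¹) with htdef
  -- `z_j`
  obtain ⟨q, hqd⟩ : ∃ q : ℤ → N, ∀ j, q j = ⟨_, hmemi (2 * j) u⟩ * ⟨_, hmemi (2 * j - 1) v⁻¹⟩ *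
    ⟨_, hmemi (2 * j) v⟩ * ⟨_, hmemi (2 * j + 1) u⁻¹⟩ := ⟨_, fun _ => rfl⟩
  have hqG : ∀ j : ℤ, (q j : G) = x ^ (2 * j) * u * (x ^ (2 * j))⁻¹ * (x ^ (2 * j - 1) * (v : G)⁻¹ * (x ^ (2 * j - 1))⁻¹) *
      (x ^ (2 * j) * v * (x ^ (2 * j))⁻¹) * (x ^ (2 * j + 1) * (u : G)⁻¹ * (x ^ (2 * j + 1))⁻¹) := by
    intro j; rw [hqd]; rfl
  have hq0 : (q 0 : G) = u * (x⁻¹ * (v : G)⁻¹ * x) * v * (x * (u : G)⁻¹ * x⁻¹) := by
    rw [hqG]
    simp only [mul_zero, zpow_zero, zero_sub, zero_add, zpow_neg, zpow_one]
    group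
  have hq : ∀ j : ℤ, (q j : G) = x ^ (2 * j) * (q 0 : G) * (x ^ (2 * j))⁻¹ := by
    intro j
    rw [hqG, hq0, zpow_add, zpow_sub, zpow_one]
    generalize x ^ (2 * j) = y
    group
  have ht0 : t = (q 0 : G) * (x * x) := by
    rw [hq0, htdef, hg]
    group
  have hρq : ∀ j : ℤ, ρ (q j) = (if (p : ℤ) ∣ 2 * j then MulAut.conj u else 1) *
      (if (p : ℤ) ∣ 2 * j - 1 then MulAut.conj v⁻¹ else 1) * (if (p : ℤ) ∣ 2 * j then MulAut.conj v else 1) *
      (if (p : ℤ) ∣ 2 * j + 1 then MulAut.conj u⁻¹ else 1) := by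
    intro j
    rw [hqd, map_mul, map_mul, map_mul, himg, himg, himg, himg]
  -- partial products
  obtain ⟨s, hs0, hss⟩ : ∃ s : ℕ → N, s 0 = 1 ∧ ∀ n : ℕ, s (n + 1) = s n * q n :=
    ⟨fun n => Nat.rec 1 (fun k r => r * q k) n, rfl, fun _ => rfl⟩
  have htn : ∀ n : ℕ, t ^ n = (s n : G) * x ^ (2 * (n : ℤ)) := by
    intro n
    induction n with
    | zero => simp [hs0]
    | succ n ih =>
      rw [pow_succ, ih, hss, Subgroup.coe_mul, hq n, ht0]
      push_cast
      have e : x ^ (2 * ((n : ℤ) + 1)) = x ^ (2 * (n : ℤ)) * (x * x) := by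
        rw [mul_add, zpow_add, mul_one, zpow_ofNat, pow_two]
      rw [e]
      generalize x ^ (2 * (n : ℤ)) = y
      group
  obtain ⟨m, hm'⟩ : Odd p := hp.odd_of_ne_two hp2
  have hm1 : 1 ≤ m := by
    have := hp.two_le
    omega
  have hpz : (p : ℤ) = 2 * m + 1 := by rw [hm']; push_cast; ring
  -- values of the three conditions
  have c0 : ∀ j : ℕ, j < p → ((p : ℤ) ∣ 2 * (j : ℤ) ↔ j = 0) := by
    intro j hj
    constructor
    · rintro ⟨k, hk⟩
      have h1 : (j : ℤ) < p := by exact_mod_cast hj
      have h2 : (0 : ℤ) ≤ j := by positivity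
      have hp0 : (0 : ℤ) < p := by exact_mod_cast hp.pos
      have h3 : k < 2 := by nlinarith
      have h4 : 0 ≤ k := by nlinarith
      interval_cases k
      · have : (j : ℤ) = 0 := by linarith
        exact_mod_cast this
      · exfalso; omega
    · rintro rfl; simp
  have c1 : ∀ j : ℕ, j < p → ((p : ℤ) ∣ 2 * (j : ℤ) - 1 ↔ j = m + 1) := by
    intro j hj
    constructor
    · rintro ⟨k, hk⟩
      have h1 : (j : ℤ) < p := by exact_mod_cast hj
      have h2 : (0 : ℤ) ≤ j := by positivity
      have hp0 : (0 : ℤ) < p := by exact_mod_cast hp.pos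
      have h3 : k < 2 := by nlinarith
      have h4 : -1 < k := by
        have : (3 : ℤ) ≤ p := by omega
        nlinarith
      interval_cases k
      · exfalso; omega
      · omega
    · rintro rfl
      exact ⟨1, by rw [hpz]; push_cast; ring⟩
  have c2 : ∀ j : ℕ, j < p → ((p : ℤ) ∣ 2 * (j : ℤ) + 1 ↔ j = m) := by
    intro j hj
    constructor
    · rintro ⟨k, hk⟩
      have h1 : (j : ℤ) < p := by exact_mod_cast hj
      have h2 : (0 : ℤ) ≤ j := by positivity
      have hp0 : (0 : ℤ) < p := by exact_mod_cast hp.pos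
      have h3 : k < 2 := by nlinarith
      have h4 : 0 < k := by nlinarith
      have : k = 1 := by omega
      subst this
      omega
    · rintro rfl
      exact ⟨1, by rw [hpz]; ring⟩
  have hρs : ∀ n : ℕ, n ≤ p → ρ (s n) = if n = 0 then 1 else if n ≤ m then MulAut.conj (u * v) else
      if n ≤ m + 1 then MulAut.conj (u * v * u⁻¹) else MulAut.conj (u * v * u⁻¹ * v⁻¹) := by
    intro n
    induction n with
    | zero => intro _; simp [hs0]
    | succ n ih =>
      intro hn
      rw [hss, map_mul, ih (by omega), hρq]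
      have e0 := c0 n (by omega)
      have e1 := c1 n (by omega)
      have e2 := c2 n (by omega)
      rw [if_neg (Nat.succ_ne_zero n)]
      by_cases hn0 : n = 0
      · subst hn0
        rw [if_pos rfl, if_pos (e0.2 rfl), if_neg (fun h => by have := e1.1 h; omega), if_pos (e0.2 rfl),
          if_neg (fun h => by have := e2.1 h; omega), if_pos (by omega), one_mul, mul_one, mul_one, ← map_mul]
      rw [if_neg hn0, if_neg (fun h => hn0 (e0.1 h)), if_neg (fun h => hn0 (e0.1 h)), one_mul, mul_one]
      rcases lt_trichotomy n m with h1 | h1 | h1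
      · rw [if_pos (by omega), if_neg (fun h => by have := e1.1 h; omega),
          if_neg (fun h => by have := e2.1 h; omega), if_pos (by omega), mul_one, mul_one]
      · subst h1
        rw [if_pos le_rfl, if_neg (fun h => by have := e1.1 h; omega), if_pos (e2.2 rfl),
          if_neg (by omega), if_pos le_rfl, one_mul, ← map_mul]
      · rw [if_neg (by omega)]
        by_cases h2 : n = m + 1
        · subst h2
          rw [if_pos le_rfl, if_pos (e1.2 rfl), if_neg (fun h => by have := e2.1 h; omega),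
            if_neg (by omega), if_neg (by omega), mul_one, ← map_mul]
        · rw [if_neg (by omega), if_neg (fun h => by have := e1.1 h; omega),
            if_neg (fun h => by have := e2.1 h; omega), if_neg (by omega), if_neg (by omega), mul_one, mul_one]
  have hsp := hρs p le_rfl
  rw [if_neg hp.ne_zero, if_neg (by omega), if_neg (by omega)] at hsp
  have htp : t ^ p = (s p : G) := by
    rw [htn]
    have h5 : x ^ (2 * (p : ℤ)) = 1 := by rw [mul_comm, zpow_mul, zpow_natCast, hx, one_zpow]
    rw [h5, mul_one]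
  have h6 : PE p (s p) := PE.coe.1 (htp ▸ ht.pow p)
  have h7 := h6.map ρ
  rw [hsp] at h7
  exact PE.of_injective (f := MulAut.conj) hinj h7

end Comp

/-- **The reduction.** -/
theorem reduction {p : ℕ} [Fact p.Prime] (hp2 : p ≠ 2)
    (core : ∀ (K : Type u) [Group K] [Finite K] [IsSimpleGroup K] (x : MulAut K), ¬ IsMulCommutative K →
      orderOf x = p → RC x → PA p x → False)
    (G : Type u) [Group G] [Finite G] (x : G) (hx : orderOf x = p) (h : ∀ g : G, PE p (x * (g * x * g⁻¹))) :
    x ∈ solvableRadical G := by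
  induction hn : Nat.card G using Nat.strong_induction_on generalizing G with
  | _ n ih =>
    subst hn
    by_contra hxR
    have hp : p.Prime := Fact.out
    have hR : solvableRadical G = ⊥ := by
      by_contra hne
      have hRn := rad_normal G
      set R := solvableRadical G with hRdef
      have hx1 : QuotientGroup.mk' R x ≠ 1 := fun h1 => hxR ((QuotientGroup.eq_one_iff x).1 h1)
      have hox : orderOf (QuotientGroup.mk' R x) = p := by
        have h1 : orderOf (QuotientGroup.mk' R x) ∣ p := hx ▸ orderOf_map_dvd _ x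
        rcases (Nat.dvd_prime hp).1 h1 with h2 | h2
        · exact absurd (orderOf_eq_one_iff.1 h2) hx1
        · exact h2
      have hcard : Nat.card (G ⧸ R) < Nat.card G := by
        have h3 := Subgroup.card_eq_card_quotient_mul_card_subgroup R
        have h4 : 1 < Nat.card R := (Subgroup.one_lt_card_iff_ne_bot R).mpr hne
        have h5 : 0 < Nat.card (G ⧸ R) := Nat.card_pos
        nlinarith
      have h1 := ih _ hcard (G ⧸ R) (QuotientGroup.mk' R x) hox
        (by
          intro g
          obtain ⟨g, rfl⟩ := QuotientGroup.mk'_surjective R g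
          have h2 := (h g).map (QuotientGroup.mk' R)
          rwa [map_mul, map_mul, map_mul, map_inv] at h2) rfl
      have h2 : solvableRadical (G ⧸ R) = ⊥ := rad_quotient
      rw [h2, mem_bot] at h1
      exact hx1 h1
    have hsub : ∀ H : Subgroup G, H ≠ ⊤ → x ∈ H → x ∈ radIn H := by
      intro H hH hxH
      have hcard : Nat.card H < Nat.card G :=
        lt_of_le_of_ne (Subgroup.card_le_card_group H) fun h => hH (Subgroup.eq_top_of_card_eq H h)
      have h1 := ih _ hcard H ⟨x, hxH⟩ (by rw [Subgroup.orderOf_mk]; exact hx)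
        (fun g => PE.coe.1 (h g)) rfl
      exact mem_radIn_coe.2 h1
    have hx1 : x ≠ 1 := by
      rintro rfl
      rw [orderOf_one] at hx
      exact hp.one_lt.ne hx
    obtain ⟨L, hL, l0, hl0, hne0⟩ := exists_component hR hx1
    by_cases hm : x ∈ normalizer (L : Set G)
    swap
    · exact movedAA hp2 hR (by rw [← hx]; exact pow_orderOf_eq_one x) hL hm h
    have hsimp := component_simple hR hL
    set N := normalizer (L : Set G) with hN
    set ρ : N →* MulAut L := L.normalizerMonoidHom with hρ
    have hLN : L ≤ N := le_normalizer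
    have hρL : ∀ l : L, ρ ⟨l, hLN l.2⟩ = MulAut.conj l := by
      intro l
      ext y
      rfl
    set y : MulAut L := ρ ⟨x, hm⟩ with hy
    have hyl : ∀ l : L, ((y l : L) : G) = x * l * x⁻¹ := fun l => rfl
    refine core L y (quasisimple_not_isMulCommutative hL.2) ?_ ?_ ?_
    · have h1 : orderOf y ∣ p := by
        have h2 : orderOf y ∣ orderOf (⟨x, hm⟩ : N) := orderOf_map_dvd ρ _
        rwa [Subgroup.orderOf_mk, hx] at h2
      rcases (Nat.dvd_prime hp).1 h1 with h2 | h2
      · exfalso
        rw [orderOf_eq_one_iff] at h2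
        apply hne0
        have h3 : ((y ⟨l0, hl0⟩ : L) : G) = l0 := by rw [h2]; rfl
        rw [hyl] at h3
        calc x * l0 = (x * l0 * x⁻¹) * x := by group
          _ = l0 * x := by rw [h3]
      · exact h2
    · -- `RC`
      intro M hM hMx m hm'
      set M' : Subgroup G := M.map L.subtype with hM'
      set H : Subgroup G := M' ⊔ zpowers x with hH
      have hxH : x ∈ H := mem_sup_right (mem_zpowers x)
      have hM'x : ∀ g ∈ M', x * g * x⁻¹ ∈ M' := by
        rintro _ ⟨l, hl, rfl⟩
        exact ⟨y l, hMx l hl, hyl l⟩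
      have hHn : H ≤ normalizer (M' : Set G) := by
        refine sup_le le_normalizer ?_
        rw [zpowers_le]
        refine mem_normalizer_of_cj ?_
        have hle : cj x M' ≤ M' := by
          rintro _ ⟨g, hg, rfl⟩
          exact hM'x g hg
        exact Subgroup.eq_of_le_of_card_ge hle (le_of_eq (Subgroup.card_map_of_injective
          (K := M') (MulAut.conj x).injective).symm)
      have hHt : H ≠ ⊤ := by
        intro hHt
        have hMn : M'.Normal := by
          rw [hHt] at hHn
          exact Subgroup.normalizer_eq_top_iff.1 (top_le_iff.1 hHn)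
        have hMn' : M.Normal := by
          refine ⟨fun n hn g => ?_⟩
          have h1 := hMn.conj_mem _ (show (n : G) ∈ M' from ⟨n, hn, rfl⟩) g
          obtain ⟨n', hn', h2⟩ := h1
          have h3 : n' = g * n * g⁻¹ := Subtype.ext h2
          rwa [← h3]
        rcases hMn'.eq_bot_or_eq_top with h1 | h1
        · have h2 : (⊤ : Subgroup G) = zpowers x := by
            rw [← hHt, hH, hM', h1, Subgroup.map_bot, bot_sup_eq]
          have h3 : Group.IsSolvable G := by
            have h4 : ∀ a b : G, a * b = b * a := by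
              intro a b
              obtain ⟨i, rfl⟩ := mem_zpowers_iff.1 (show a ∈ zpowers x by rw [← h2]; exact mem_top _)
              obtain ⟨j, rfl⟩ := mem_zpowers_iff.1 (show b ∈ zpowers x by rw [← h2]; exact mem_top _)
              rw [← zpow_add, ← zpow_add, add_comm]
            exact Group.isSolvable_of_comm h4
          rw [← rad_eq_top_iff, hR] at h3
          have h4 : x ∈ (⊥ : Subgroup G) := by rw [h3]; exact mem_top _
          exact hx1 (mem_bot.1 h4)
        · exact hM h1
      have hxr := hsub H hHt hxH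
      have hmM' : (m : G) ∈ M' := ⟨m, hm', rfl⟩
      have hM'H : M' ≤ H := le_sup_left
      have h1 : (m : G)⁻¹ * x * m * x⁻¹ ∈ radIn H := by
        have h2 := radIn_conj_mem (inv_mem (hM'H hmM')) hxr
        rw [inv_inv] at h2
        exact mul_mem h2 (inv_mem hxr)
      have h2 : (m : G)⁻¹ * x * m * x⁻¹ ∈ M' := by
        have h3 := mul_mem (inv_mem hmM') (hM'x _ hmM')
        have e : (m : G)⁻¹ * x * m * x⁻¹ = (m : G)⁻¹ * (x * m * x⁻¹) := by group
        rwa [e]
      have h3 := radIn_inf_le hM'H ⟨h1, h2⟩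
      have h4 : (radIn M).map L.subtype = radIn M' := by
        apply le_antisymm
        · refine le_radIn (map_mono (radIn_le M)) ?_ (isSolvable_map (radIn_solvable M) _)
          rintro _ ⟨g, hg, rfl⟩ _ ⟨n, hn, rfl⟩
          exact ⟨g * n * g⁻¹, radIn_conj_mem hg hn, by simp⟩
        · have h5 : radIn M' ≤ L := (radIn_le M').trans (map_subtype_le _)
          have h6 : (radIn M').subgroupOf L ≤ radIn M := by
            refine le_radIn ?_ ?_ ?_
            · intro l hl
              obtain ⟨l', hl', h7⟩ := radIn_le M' (mem_subgroupOf.1 hl)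
              rwa [← Subtype.ext h7]
            · intro g hg n hn
              rw [mem_subgroupOf] at hn ⊢
              exact radIn_conj_mem (M := M') ⟨g, hg, rfl⟩ hn
            · have := radIn_solvable M'
              exact Group.isSolvable_of_surjective (f := (subgroupOfEquivOfLe h5).symm.toMonoidHom)
                (subgroupOfEquivOfLe h5).symm.surjective
          intro z hz
          exact ⟨⟨z, h5 hz⟩, h6 (mem_subgroupOf.2 hz), rfl⟩
      rw [← h4] at h3
      obtain ⟨w, hw, h5⟩ := h3
      have h6 : w = m⁻¹ * y m := by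
        apply Subtype.ext
        rw [show ((w : L) : G) = L.subtype w from rfl, h5]
        push_cast
        rw [hyl]
        group
      rwa [← h6]
    · -- `PA`
      intro g
      have h1 := h (g : G)
      have hgN : (g : G) * x * (g : G)⁻¹ ∈ N := mul_mem (mul_mem (hLN g.2) hm) (inv_mem (hLN g.2))
      have h2 : PE p ((⟨x, hm⟩ : N) * ⟨_, hgN⟩) := PE.coe.1 h1
      have h3 := h2.map ρ
      have h4 : (⟨_, hgN⟩ : N) = ⟨g, hLN g.2⟩ * ⟨x, hm⟩ * ⟨g, hLN g.2⟩⁻¹ := rfl
      rw [map_mul, h4, map_mul, map_mul, map_inv, hρL] at h3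
      exact h3

end Cfsg.Agent.H460.AA
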