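import Cfsg.Agent.H460.AllCore
import Cfsg.Agent.H14.AAFinal
import Cfsg.Agent.S0000

/-!
# `Core` of all non-abelian finite simple groups (helper460)
-/

set_option autoImplicit false

namespace Cfsg.Agent.H460.AADone

open Cfsg Cfsg.Agent.H460.AA

universe u

theorem allCore : Cfsg.Agent.H14.AAFinal.AllCore.{u} := fun _K _ _ _ hna =>
  Fam.core_known hna Cfsg.Agent.S0000.result

end Cfsg.Agent.H460.AADone
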