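import Cfsg.Agent.H460.EngMain
import Cfsg.Agent.H538.MFacts

/-!
# The diagrams of the AA-engine (helper460)
-/

set_option autoImplicit false

namespace Cfsg.Agent.H460.Dgs

open Cfsg.Agent.H460.Engine Cfsg.Agent.H538.MFacts
open Cfsg.Agent.LieRecognition.BNCox (cA cA_apply)
open Cfsg.Agent.Nodes

/-- for at least three nodes the last two conditions are void -/
theorem dg_of_three {l : ℕ} {M : CoxeterMatrix (Fin l)} (h3 : 3 ≤ l)
    (irr : ∀ J : Set (Fin l), J.Nonempty → J ≠ Set.univ → ∃ a ∈ J, ∃ b, b ∉ J ∧ M a b ≠ 2) (hb : Bip M) : Dg M := by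
  have key : ∀ i j : Fin l, ¬ ∀ k, k = i ∨ k = j := by
    intro i j h
    have h4 : (Finset.univ : Finset (Fin l)) ⊆ {i, j} := by
      intro k _
      rcases h k with rfl | rfl <;> simp
    have h5 := (Finset.card_le_card h4).trans Finset.card_le_two
    rw [Finset.card_univ, Fintype.card_fin] at h5
    omega
  exact ⟨by omega, irr, hb, fun ⟨i, j, _, h⟩ => key i j h, fun i j _ h => (key i j h).elim⟩

theorem bip_A (n : ℕ) : Bip (cA n) := by
  refine ⟨fun i => (i : ℕ) % 2 == 0, fun i j hij h => ?_⟩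
  rw [cA_ne_two] at h
  intro he
  beta_reduce at he
  have h1 : ((i : ℕ) % 2 = 0) ↔ ((j : ℕ) % 2 = 0) := by
    rw [← beq_iff_eq (a := (i : ℕ) % 2), ← beq_iff_eq (a := (j : ℕ) % 2), he]
  rcases h with h | h | h
  · exact hij h
  · omega
  · omega

theorem bip_B (n : ℕ) : Bip (CoxeterMatrix.B n) := by
  refine ⟨fun i => (i : ℕ) % 2 == 0, fun i j hij h => ?_⟩
  rw [cB_ne_two] at h
  intro he
  beta_reduce at he
  have h1 : ((i : ℕ) % 2 = 0) ↔ ((j : ℕ) % 2 = 0) := by
    rw [← beq_iff_eq (a := (i : ℕ) % 2), ← beq_iff_eq (a := (j : ℕ) % 2), he]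
  rcases h with h | h | h
  · exact hij h
  · omega
  · omega

theorem bip_D (n : ℕ) (_hn : 1 ≤ n) : Bip (TypeD.M n) := by
  refine ⟨fun i => (if (i : ℕ) = n + 1 then n % 2 else (i : ℕ) % 2) == 0, fun i j hij h => ?_⟩
  rw [cD_ne_two] at h
  intro he
  beta_reduce at he
  have h1 : ((if (i : ℕ) = n + 1 then n % 2 else (i : ℕ) % 2) = 0) ↔
      ((if (j : ℕ) = n + 1 then n % 2 else (j : ℕ) % 2) = 0) := by
    rw [← beq_iff_eq (b := 0), he, beq_iff_eq]
  have hi := i.2
  have hj := j.2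
  rcases h with h | h | h
  · exact hij h
  · unfold TypeD.Adj at h
    split_ifs at h1 <;> omega
  · unfold TypeD.Adj at h
    split_ifs at h1 <;> omega

theorem dg_A (n : ℕ) (hn : 3 ≤ n) : Dg (cA n) := dg_of_three hn (irr_A n) (bip_A n)

theorem dg_B (n : ℕ) (hn : 2 ≤ n) : Dg (CoxeterMatrix.B n) := by
  rcases hn.eq_or_lt with rfl | hn
  · refine ⟨le_rfl, irr_B 2, bip_B 2, ?_, ?_⟩
    · rintro ⟨i, j, h, -⟩
      fin_cases i <;> fin_cases j <;> exact absurd h (by decide)
    · intro i j hij _ h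
      fin_cases i <;> fin_cases j <;> first | exact absurd rfl hij | exact absurd h (by decide)
  · exact dg_of_three hn (irr_B n) (bip_B n)

theorem dg_D (n : ℕ) (hn : 1 ≤ n) : Dg (TypeD.M n) := dg_of_three (by omega) (irr_D n hn) (bip_D n hn)

theorem dg_E6 : Dg CoxeterMatrix.E₆ :=
  dg_of_three (by norm_num) irr_E6 ⟨![true, false, false, true, false, true], fun i => by fin_cases i <;> decide⟩

theorem dg_E7 : Dg CoxeterMatrix.E₇ :=
  dg_of_three (by norm_num) irr_E7 ⟨![true, false, false, true, false, true, false], fun i => by fin_cases i <;> decide⟩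

theorem dg_E8 : Dg CoxeterMatrix.E₈ :=
  dg_of_three (by norm_num) irr_E8 ⟨![true, false, false, true, false, true, false, true], fun i => by fin_cases i <;> decide⟩

theorem dg_F4 : Dg CoxeterMatrix.F₄ :=
  dg_of_three (by norm_num) irr_F4 ⟨![true, false, true, false], fun i => by fin_cases i <;> decide⟩

theorem dg_G2 : Dg CoxeterMatrix.G₂ := by
  refine ⟨le_rfl, irr_G2, ⟨![true, false], fun i => by fin_cases i <;> decide⟩, ?_, ?_⟩
  · rintro ⟨i, j, h, -⟩
    fin_cases i <;> fin_cases j <;> exact absurd h (by decide)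
  · intro i j hij _ h
    fin_cases i <;> fin_cases j <;> first | exact absurd rfl hij | exact absurd h (by decide)

end Cfsg.Agent.H460.Dgs
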