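import Mathlib
import Cfsg.Agent.H460.AADef

/-!
# Lemma 1: products of two `K`-conjugates (helper460)

`K` a finite `r'`-subgroup of `G` normalised by `f`, all `f * (k f k⁻¹)`, `k ∈ K`, `r`-elements. Then
* `comm_of_sq` : elements of `K` commuting with `f ^ 2` commute with `f`;
* `NN` : `{f⁻¹ * (k f k⁻¹)}` is a subgroup of `K`, normalised by `K`;
* `eq_one_of_comm` : no non-trivial element of it commutes with `f`.
-/

set_option autoImplicit false
set_option linter.unusedSectionVars false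

namespace Cfsg.Agent.H460.Lem1

open Subgroup Cfsg.Agent.H460.AA

variable {G : Type*} [Group G]

/-- two `r`-elements in the same coset of a normalised `r'`-subgroup `K` are conjugate under `K` -/
theorem exists_conj {K : Subgroup G} [Finite K] {r : ℕ} [hr : Fact r.Prime] (hK : ¬ r ∣ Nat.card K) {g x : G}
    (hg : ∀ k ∈ K, g * k * g⁻¹ ∈ K) (hgr : PE r g) (hxr : PE r x) (hx : g⁻¹ * x ∈ K) :
    ∃ k ∈ K, x = k * g * k⁻¹ := by
  classical
  obtain ⟨m, hm⟩ := hgr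
  obtain ⟨n, hn⟩ := hxr
  have hgpos : 0 < orderOf g := by rw [hm]; exact pow_pos hr.out.pos _
  have hgN : g ∈ normalizer (K : Set G) := by
    rw [mem_normalizer_iff]
    have h1 : ∀ j : ℕ, ∀ k ∈ K, g ^ j * k * (g ^ j)⁻¹ ∈ K := by
      intro j
      induction j with
      | zero => intro k hk; simpa using hk
      | succ j ih =>
        intro k hk
        have h2 := hg _ (ih k hk)
        have e : g ^ (j + 1) * k * (g ^ (j + 1))⁻¹ = g * (g ^ j * k * (g ^ j)⁻¹) * g⁻¹ := by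
          rw [pow_succ']; group
        rwa [e]
    intro k
    refine ⟨hg k, fun hk => ?_⟩
    have h3 := h1 (orderOf g - 1) _ hk
    have h4 : g ^ (orderOf g - 1) = g⁻¹ := by
      rw [eq_inv_iff_mul_eq_one, ← pow_succ, Nat.sub_add_cancel hgpos, pow_orderOf_eq_one]
    rw [h4] at h3
    have e : g⁻¹ * (g * k * g⁻¹) * g⁻¹⁻¹ = k := by group
    rwa [e] at h3
  -- the group `H = K ⟨g⟩`
  set H : Subgroup G := K ⊔ zpowers g with hH
  have hgH : g ∈ H := mem_sup_right (mem_zpowers g)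
  have hKH : K ≤ H := le_sup_left
  have hxH : x ∈ H := by
    have e : x = g * (g⁻¹ * x) := by group
    rw [e]; exact mul_mem hgH (hKH hx)
  have hzN : zpowers g ≤ normalizer (K : Set G) := by rwa [zpowers_le]
  have hmem : ∀ h ∈ H, ∃ k ∈ K, ∃ i : ℤ, h = k * g ^ i := by
    intro h hh
    have h1 : h ∈ ((K ⊔ zpowers g : Subgroup G) : Set G) := hh
    rw [Subgroup.coe_mul_of_right_le_normalizer_left _ _ hzN, Set.mem_mul] at h1
    obtain ⟨k, hk, z, hz, rfl⟩ := h1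
    obtain ⟨i, rfl⟩ := mem_zpowers_iff.1 hz
    exact ⟨k, hk, i, rfl⟩
  have hfinH : Finite H := by
    have : Finite (zpowers g) := by
      have h3 : IsOfFinOrder g := orderOf_pos_iff.1 hgpos
      exact (finite_zpowers.2 h3).to_subtype
    have h2 : Set.Finite ((H : Subgroup G) : Set G) := by
      rw [hH, Subgroup.coe_mul_of_right_le_normalizer_left _ _ hzN]
      exact Set.Finite.mul (Set.toFinite _) (Set.toFinite _)
    exact h2.to_subtype
  -- `r`-elements meet `K` trivially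
  have hdis : ∀ y : G, PE r y → y ∈ K → y = 1 := by
    intro y hy hyK
    refine hy.eq_one fun hd => hK (hd.trans ?_)
    have := orderOf_dvd_natCard (⟨y, hyK⟩ : K)
    rwa [Subgroup.orderOf_mk] at this
  have hpz : ∀ y : G, PE r y → IsPGroup r (zpowers y) := by
    rintro y ⟨j, hj⟩
    exact IsPGroup.of_card (n := j) (by rw [Nat.card_zpowers, hj])
  -- cosets: `H / K`
  have hxg : ∀ i : ℤ, (g ^ i)⁻¹ * x ^ i ∈ K := by
    have key : ∀ i : ℕ, (g ^ i)⁻¹ * x ^ i ∈ K := by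
      intro i
      induction i with
      | zero => simp
      | succ i ih =>
        have e : (g ^ (i + 1))⁻¹ * x ^ (i + 1) = (g⁻¹ * ((g ^ i)⁻¹ * x ^ i) * g) * (g⁻¹ * x) := by
          rw [pow_succ, pow_succ]
          have : (g ^ i * g)⁻¹ = g⁻¹ * (g ^ i)⁻¹ := by group
          rw [this]; group
        rw [e]
        refine mul_mem ?_ hx
        have h5 := (mem_normalizer_iff.1 (inv_mem hgN) ((g ^ i)⁻¹ * x ^ i)).1 ih
        simpa using h5
    intro i
    obtain ⟨j, rfl | rfl⟩ := i.eq_nat_or_neg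
    · simpa using key j
    · have h5 := key j
      have e : (g ^ (-(j : ℤ)))⁻¹ * x ^ (-(j : ℤ)) = g ^ j * ((g ^ j)⁻¹ * x ^ j)⁻¹ * (g ^ j)⁻¹ := by
        rw [zpow_neg, zpow_neg, zpow_natCast, zpow_natCast]; group
      rw [e]
      exact (mem_normalizer_iff.1 (pow_mem hgN j) _).1 (inv_mem h5)
  -- Sylow subgroups
  have hsyl : ∀ y : G, PE r y → y ∈ H → (∀ h ∈ H, ∃ k ∈ K, ∃ i : ℤ, h = k * y ^ i) →
      ∃ P : Sylow r H, (P : Subgroup H).map H.subtype = zpowers y := by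
    intro y hy hyH hcov
    set Z : Subgroup H := (zpowers y).subgroupOf H with hZ
    have hZp : IsPGroup r Z := (hpz y hy).comap_subtype
    obtain ⟨P, hP⟩ := hZp.exists_le_sylow
    refine ⟨P, ?_⟩
    have hPZ : (P : Subgroup H) = Z := by
      refine le_antisymm ?_ hP
      intro w hw
      obtain ⟨k, hk, i, h1⟩ := hcov w w.2
      have hyi : (⟨y ^ i, zpow_mem hyH i⟩ : H) ∈ (P : Subgroup H) := hP (by
        rw [hZ, mem_subgroupOf]; exact zpow_mem (mem_zpowers y) i)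
      have h2 : w * (⟨y ^ i, zpow_mem hyH i⟩ : H)⁻¹ ∈ (P : Subgroup H) := mul_mem hw (inv_mem hyi)
      have h3 : ((w * (⟨y ^ i, zpow_mem hyH i⟩ : H)⁻¹ : H) : G) = k := by
        change (w : G) * (y ^ i)⁻¹ = k
        rw [h1]; group
      have h4 : PE r ((w * (⟨y ^ i, zpow_mem hyH i⟩ : H)⁻¹ : H) : G) := by
        obtain ⟨j, hj⟩ := (IsPGroup.iff_orderOf.1 P.2) ⟨_, h2⟩
        rw [Subgroup.orderOf_mk] at hj
        exact PE.coe.2 ⟨j, hj⟩
      have h5 := hdis _ h4 (by rw [h3]; exact hk)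
      rw [h3] at h5
      rw [hZ, mem_subgroupOf, h1, h5, one_mul]
      exact zpow_mem (mem_zpowers y) i
    rw [hPZ, hZ, subgroupOf_map_subtype]
    exact inf_eq_left.2 (by rw [zpowers_le]; exact hyH)
  obtain ⟨P, hP⟩ := hsyl g ⟨m, hm⟩ hgH hmem
  obtain ⟨Q, hQ⟩ := hsyl x ⟨n, hn⟩ hxH (by
    intro h hh
    obtain ⟨k, hk, i, rfl⟩ := hmem h hh
    refine ⟨k * (g ^ i * ((g ^ i)⁻¹ * x ^ i)⁻¹ * (g ^ i)⁻¹), mul_mem hk ?_, i, by group⟩
    exact (mem_normalizer_iff.1 (zpow_mem hgN i) _).1 (inv_mem (hxg i)))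
  obtain ⟨h, hh⟩ := MulAction.exists_smul_eq H P Q
  have h1 : (h : G) * g * (h : G)⁻¹ ∈ zpowers x := by
    rw [← hQ, ← hh]
    have h2 : (⟨g, hgH⟩ : H) ∈ (P : Subgroup H) := by
      have h3 : g ∈ (P : Subgroup H).map H.subtype := by rw [hP]; exact mem_zpowers g
      obtain ⟨w, hw, h4⟩ := h3
      have : w = ⟨g, hgH⟩ := Subtype.ext h4
      rwa [← this]
    refine ⟨h * ⟨g, hgH⟩ * h⁻¹, ?_, rfl⟩
    rw [Sylow.smul_def, SetLike.mem_coe]
    exact Subgroup.smul_mem_pointwise_smul _ (MulAut.conj h) _ h2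
  obtain ⟨k, hk, i, hi⟩ := hmem h h.2
  refine ⟨k, hk, ?_⟩
  have h2 : k * g * k⁻¹ ∈ zpowers x := by
    have e : (h : G) * g * (h : G)⁻¹ = k * g * k⁻¹ := by
      rw [hi]; group
    rwa [← e]
  obtain ⟨j, hj⟩ := mem_zpowers_iff.1 h2
  -- `x ^ j = k g k⁻¹` is congruent to `x` modulo `K`
  have h3 : x⁻¹ * x ^ j ∈ K := by
    rw [hj]
    have e : x⁻¹ * (k * g * k⁻¹) = (g⁻¹ * x)⁻¹ * (g⁻¹ * k * g) * k⁻¹ := by group
    rw [e]
    refine mul_mem (mul_mem (inv_mem hx) ?_) (inv_mem hk)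
    have h5 := (mem_normalizer_iff.1 (inv_mem hgN) k).1 hk
    simpa using h5
  have h4 : x⁻¹ * x ^ j = 1 := by
    refine hdis _ ?_ h3
    have h5 : x⁻¹ * x ^ j ∈ zpowers x := mul_mem (inv_mem (mem_zpowers x)) (zpow_mem (mem_zpowers x) j)
    obtain ⟨l, hl⟩ := (IsPGroup.iff_orderOf.1 (hpz x ⟨n, hn⟩)) ⟨_, h5⟩
    rw [Subgroup.orderOf_mk] at hl
    exact ⟨l, hl⟩
  rw [← hj]
  exact (inv_mul_eq_one.1 h4)

section Main

variable {K : Subgroup G} [Finite K] {r : ℕ} [hr : Fact r.Prime] (hK : ¬ r ∣ Nat.card K) {f : G}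
  (hf : ∀ k, f * k * f⁻¹ ∈ K ↔ k ∈ K) (hP : ∀ k ∈ K, PE r (f * (k * f * k⁻¹)))

/-- the class of `f` under `K` -/
def AA (K : Subgroup G) (f : G) : Set G := {a | ∃ k ∈ K, a = k * f * k⁻¹}

theorem AA_finite : (AA K f).Finite := by
  have : AA K f = Set.range fun k : K => (k : G) * f * (k : G)⁻¹ := by
    ext a
    constructor
    · rintro ⟨k, hk, rfl⟩; exact ⟨⟨k, hk⟩, rfl⟩
    · rintro ⟨k, rfl⟩; exact ⟨k, k.2, rfl⟩
  rw [this]
  exact Set.finite_range _

theorem self_mem : f ∈ AA K f := ⟨1, K.one_mem, by simp⟩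

theorem conj_mem {a k : G} (hk : k ∈ K) (ha : a ∈ AA K f) : k * a * k⁻¹ ∈ AA K f := by
  obtain ⟨l, hl, rfl⟩ := ha
  exact ⟨k * l, mul_mem hk hl, by group⟩

include hf in
theorem conj_f {a : G} (ha : a ∈ AA K f) : f * a * f⁻¹ ∈ AA K f := by
  obtain ⟨l, hl, rfl⟩ := ha
  exact ⟨f * l * f⁻¹, (hf l).2 hl, by group⟩

include hf in
theorem conj_f' {a : G} (ha : a ∈ AA K f) : f⁻¹ * a * f ∈ AA K f := by
  obtain ⟨l, hl, rfl⟩ := ha
  refine ⟨f⁻¹ * l * f, ?_, by group⟩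
  rw [← hf]
  have e : f * (f⁻¹ * l * f) * f⁻¹ = l := by group
  rwa [e]

include hK hf hP in
/-- `f A ⊆ B` where `B` is the class of `f ^ 2` -/
theorem mul_mem_sq {a : G} (ha : a ∈ AA K f) : f * a ∈ AA K (f * f) := by
  obtain ⟨k, hk, rfl⟩ := ha
  have h1 : PE r (f * f) := by
    have := hP 1 K.one_mem
    simpa using this
  have h2 := hP k hk
  obtain ⟨l, hl, e⟩ := exists_conj (K := K) (g := f * f) (x := f * (k * f * k⁻¹)) hK (by
    intro k hk
    have := (hf _).2 ((hf k).2 hk)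
    have e : f * f * k * (f * f)⁻¹ = f * (f * k * f⁻¹) * f⁻¹ := by group
    rwa [e]) h1 h2 (by
    have e : (f * f)⁻¹ * (f * (k * f * k⁻¹)) = (f⁻¹ * k * f) * k⁻¹ := by group
    rw [e]
    refine mul_mem ?_ (inv_mem hk)
    rw [← hf]
    have e : f * (f⁻¹ * k * f) * f⁻¹ = k := by group
    rwa [e])
  exact ⟨l, hl, e⟩

include hK hf hP in
/-- squaring is a bijection from `A` to `B`, and `f A = B` -/
theorem main : Set.InjOn (fun a : G => a * a) (AA K f) ∧ (fun a : G => f * a) '' (AA K f) = AA K (f * f) := by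
  classical
  have hA := AA_finite (K := K) (f := f)
  have hB := AA_finite (K := K) (f := f * f)
  have h1 : (fun a : G => f * a) '' (AA K f) ⊆ AA K (f * f) := by
    rintro _ ⟨a, ha, rfl⟩
    exact mul_mem_sq hK hf hP ha
  have h2 : (fun a : G => a * a) '' (AA K f) = AA K (f * f) := by
    ext b
    constructor
    · rintro ⟨_, ⟨k, hk, rfl⟩, rfl⟩
      exact ⟨k, hk, by group⟩
    · rintro ⟨k, hk, rfl⟩
      exact ⟨_, ⟨k, hk, rfl⟩, by group⟩
  have c1 : ((fun a : G => f * a) '' (AA K f)).ncard = (AA K f).ncard :=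
    Set.ncard_image_of_injective _ (mul_right_injective f)
  have c2 : (AA K (f * f)).ncard ≤ (AA K f).ncard := by
    rw [← h2]; exact Set.ncard_image_le hA
  have h3 : (fun a : G => f * a) '' (AA K f) = AA K (f * f) :=
    Set.eq_of_subset_of_ncard_le h1 (by rw [c1]; exact c2) hB
  refine ⟨?_, h3⟩
  rw [← Set.ncard_image_iff hA, h2, ← h3, c1]

include hK hf hP in
/-- **elements of `K` commuting with `f ^ 2` commute with `f`** -/
theorem comm_of_sq {k : G} (hk : k ∈ K) (h : k * (f * f) = f * f * k) : k * f = f * k := by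
  have h0 : k * f * k⁻¹ ∈ AA K f := ⟨k, hk, rfl⟩
  have h1 := (main hK hf hP).1 h0 self_mem (by
    change k * f * k⁻¹ * (k * f * k⁻¹) = f * f
    calc k * f * k⁻¹ * (k * f * k⁻¹) = k * (f * f) * k⁻¹ := by group
      _ = f * f := by rw [h]; group)
  calc k * f = (k * f * k⁻¹) * k := by group
    _ = f * k := by rw [h1]

include hK hf hP in
/-- `a A = B` for all `a ∈ A` -/
theorem mul_mem_sq' {a b : G} (ha : a ∈ AA K f) (hb : b ∈ AA K f) : a * b ∈ AA K (f * f) := by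
  obtain ⟨k, hk, rfl⟩ := ha
  have h1 := mul_mem_sq hK hf hP (conj_mem (inv_mem hk) hb)
  have h2 := conj_mem hk h1
  have e : k * (f * (k⁻¹ * b * k⁻¹⁻¹)) * k⁻¹ = k * f * k⁻¹ * b := by group
  rwa [e] at h2

include hK hf hP in
/-- left multiplication by `f⁻¹ a` preserves `A` -/
theorem left_mem {a b : G} (ha : a ∈ AA K f) (hb : b ∈ AA K f) : f⁻¹ * (a * b) ∈ AA K f := by
  have h1 := mul_mem_sq' hK hf hP ha hb
  rw [← (main hK hf hP).2] at h1
  obtain ⟨c, hc, h2⟩ := h1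
  rw [← h2]
  change f⁻¹ * (f * c) ∈ _
  rwa [inv_mul_cancel_left]

include hK hf hP in
/-- `a f⁻¹ b ∈ A` -/
theorem key {a b : G} (ha : a ∈ AA K f) (hb : b ∈ AA K f) : a * f⁻¹ * b ∈ AA K f := by
  have h1 := left_mem hK hf hP ha (conj_f' hf hb)
  have h2 := conj_f hf h1
  have e : f * (f⁻¹ * (a * (f⁻¹ * b * f))) * f⁻¹ = a * f⁻¹ * b := by group
  rwa [e] at h2

/-- **The subgroup `[K, f]`.** -/
def NN (hK : ¬ r ∣ Nat.card K) (hf : ∀ k, f * k * f⁻¹ ∈ K ↔ k ∈ K) (hP : ∀ k ∈ K, PE r (f * (k * f * k⁻¹))) :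
    Subgroup G where
  carrier := {n | f * n ∈ AA K f}
  one_mem' := by
    change f * 1 ∈ AA K f
    rw [mul_one]; exact self_mem
  mul_mem' := by
    intro m n hm hn
    change f * (m * n) ∈ AA K f
    have := key hK hf hP hm hn
    have e : f * m * f⁻¹ * (f * n) = f * (m * n) := by group
    rwa [e] at this
  inv_mem' := by
    intro n hn
    change f * n⁻¹ ∈ AA K f
    -- left multiplication by `f n f⁻¹` is an injection of the finite set `A`
    have hA := AA_finite (K := K) (f := f)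
    have h1 : Set.MapsTo (fun b : G => f * n * f⁻¹ * b) (AA K f) (AA K f) := fun b hb => key hK hf hP hn hb
    have h2 : (fun b : G => f * n * f⁻¹ * b) '' (AA K f) = AA K f := by
      refine Set.eq_of_subset_of_ncard_le h1.image_subset ?_ hA
      rw [Set.ncard_image_of_injective _ (mul_right_injective (f * n * f⁻¹))]
    have h2' : f ∈ (fun b : G => f * n * f⁻¹ * b) '' (AA K f) := by
      rw [h2]; exact self_mem
    obtain ⟨c, hc, h3⟩ := h2'
    change f * n * f⁻¹ * c = f at h3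
    have h4 : c = f * n⁻¹ := by
      have h5 : c = (f * n * f⁻¹)⁻¹ * f := eq_inv_mul_iff_mul_eq.2 h3
      rw [h5]; group
    rwa [h4] at hc

theorem mem_NN {n : G} : n ∈ NN hK hf hP ↔ f * n ∈ AA K f := Iff.rfl

theorem mem_NN' {n : G} : n ∈ NN hK hf hP ↔ ∃ k ∈ K, n = f⁻¹ * (k * f * k⁻¹) := by
  rw [mem_NN]
  constructor
  · rintro ⟨k, hk, h⟩
    exact ⟨k, hk, by rw [← h]; group⟩
  · rintro ⟨k, hk, rfl⟩
    exact ⟨k, hk, by group⟩

theorem NN_le : NN hK hf hP ≤ K := by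
  intro n hn
  obtain ⟨k, hk, rfl⟩ := (mem_NN' hK hf hP).1 hn
  have e : f⁻¹ * (k * f * k⁻¹) = (f⁻¹ * k * f) * k⁻¹ := by group
  rw [e]
  refine mul_mem ?_ (inv_mem hk)
  rw [← hf]
  have e : f * (f⁻¹ * k * f) * f⁻¹ = k := by group
  rwa [e]

theorem NN_conj {k n : G} (hk : k ∈ K) (hn : n ∈ NN hK hf hP) : k * n * k⁻¹ ∈ NN hK hf hP := by
  have h1 : f⁻¹ * (k * f * k⁻¹) ∈ NN hK hf hP := (mem_NN' hK hf hP).2 ⟨k, hk, rfl⟩
  have h2 : f⁻¹ * (k * (f * n) * k⁻¹) ∈ NN hK hf hP := by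
    rw [mem_NN, mul_inv_cancel_left]
    exact conj_mem hk hn
  have h3 := mul_mem (inv_mem h1) h2
  have e : (f⁻¹ * (k * f * k⁻¹))⁻¹ * (f⁻¹ * (k * (f * n) * k⁻¹)) = k * n * k⁻¹ := by group
  rwa [e] at h3

/-- `f` commutes with `K` modulo `[K, f]` -/
theorem comm_mem {k : G} (hk : k ∈ K) : f⁻¹ * k * f * k⁻¹ ∈ NN hK hf hP :=
  (mem_NN' hK hf hP).2 ⟨k, hk, by group⟩

/-- **`f` acts fixed point freely on `[K, f]`.** -/
theorem eq_one_of_comm {n : G} (hn : n ∈ NN hK hf hP) (h : n * f = f * n) : n = 1 := by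
  have hnK := NN_le hK hf hP hn
  have hn' := (mem_NN hK hf hP).1 hn
  obtain ⟨k, hk, h1⟩ := hn'
  have h2 : f * n * (f * n) = k * (f * f) * k⁻¹ := by rw [h1]; group
  have h3 : f * n * (f * n) = f * f * (n * n) := by
    calc f * n * (f * n) = f * (n * f) * n := by group
      _ = f * (f * n) * n := by rw [h]
      _ = _ := by group
  have hff : PE r (f * f) := by
    have := hP 1 K.one_mem
    simpa using this
  have h4 : PE r (f * f * (n * n)) := by
    rw [← h3, h2]; exact hff.conj k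
  have hcomm : Commute (f * f) (n * n) := by
    have h5 : Commute n f := h
    exact ((h5.mul_left h5).mul_right (h5.mul_left h5)).symm
  obtain ⟨a, ha⟩ := PE.pow_eq_one_iff.1 hff
  obtain ⟨b, hb⟩ := PE.pow_eq_one_iff.1 h4
  have h5 : (n * n) ^ r ^ (a + b) = 1 := by
    have h6 : (f * f * (n * n)) ^ r ^ (a + b) = 1 := by
      rw [pow_add, mul_comm (r ^ a), pow_mul, hb, one_pow]
    rw [hcomm.mul_pow] at h6
    have h7 : (f * f) ^ r ^ (a + b) = 1 := by rw [pow_add, pow_mul, ha, one_pow]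
    rwa [h7, one_mul] at h6
  have h6 : n * n = 1 := by
    refine PE.eq_one (PE.pow_eq_one_iff.2 ⟨_, h5⟩) fun hd => hK (hd.trans ?_)
    have := orderOf_dvd_natCard (⟨n * n, mul_mem hnK hnK⟩ : K)
    rwa [Subgroup.orderOf_mk] at this
  have h7 : f * n * (f * n) = f * f := by rw [h3, h6, mul_one]
  have h0 : f * n ∈ AA K f := ⟨k, hk, h1⟩
  have h8 := (main hK hf hP).1 h0 self_mem h7
  exact mul_eq_left.1 h8

end Main

end Cfsg.Agent.H460.Lem1
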