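import Mathlib.GroupTheory.Sylow
import Mathlib.GroupTheory.SpecificGroups.Alternating
import Mathlib.LinearAlgebra.Matrix.SpecialLinearGroup
import Mathlib.Tactic
import Cfsg.Prelude.Def_PLocal
import Cfsg.Prelude.Def_LocalEven
import Cfsg.Agent.Lib.Involves
import Cfsg.Agent.PLocal.QdSection

/-!
`Qd(p)`, `p` odd, and alternating groups: the natural embedding into the alternating group of degree `n ≥ p²`, and
the abelian Sylow `p`-subgroups of the symmetric group of degree `n < p²`.
-/

set_option autoImplicit false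

namespace Cfsg.Agent.H460.QdAlt

open Cfsg.Agent.PLocal.QdSection
open scoped commutatorElement Pointwise

/-! ### `p`-subgroups of the symmetric group of degree `< p²` -/

/-- a `p`-subgroup of the symmetric group of degree `n < p²` is commutative -/
theorem perm_comm {p : ℕ} [Fact p.Prime] {n : ℕ} (hn : n < p ^ 2) (P : Subgroup (Equiv.Perm (Fin n)))
    (hP : IsPGroup p P) (x y : P) : x * y = y * x := by
  have hpp : p.Prime := Fact.out
  have key : ∀ i : Fin n, commutator P ≤ MulAction.stabilizer P i := by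
    intro i
    have h1 : Nat.card (MulAction.orbit P i) = (MulAction.stabilizer P i).index := by
      rw [MulAction.index_stabilizer]
      rfl
    have h2 : Nat.card (MulAction.orbit P i) ≤ n := by
      have := Nat.card_le_card_of_injective (fun z : MulAction.orbit P i => (z : Fin n)) Subtype.val_injective
      simpa using this
    obtain ⟨k, hk⟩ := hP.index (MulAction.stabilizer P i)
    have h3 : p ^ k < p ^ 2 := by
      rw [← hk, ← h1]
      exact lt_of_le_of_lt h2 hn
    have h4 : k < 2 := (Nat.pow_lt_pow_iff_right hpp.one_lt).1 h3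
    have hk01 : k = 0 ∨ k = 1 := by omega
    rcases hk01 with rfl | rfl
    · rw [pow_zero, Subgroup.index_eq_one] at hk
      rw [hk]
      exact le_top
    · rw [pow_one] at hk
      have hnorm : (MulAction.stabilizer P i).Normal := by
        obtain ⟨m, hm⟩ := IsPGroup.iff_card.1 hP
        have hm0 : m ≠ 0 := by
          rintro rfl
          rw [pow_zero] at hm
          have := (MulAction.stabilizer P i).index_dvd_card
          rw [hm, hk, Nat.dvd_one] at this
          exact hpp.one_lt.ne' this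
        apply Subgroup.normal_of_index_eq_minFac_card
        rw [hk, hm, hpp.pow_minFac hm0]
      have hcard : Nat.card (P ⧸ MulAction.stabilizer P i) = p := by
        rw [← hk]; rfl
      have : IsCyclic (P ⧸ MulAction.stabilizer P i) := isCyclic_of_prime_card hcard
      rw [commutator_def, Subgroup.commutator_le]
      intro a _ b _
      rw [← QuotientGroup.eq_one_iff]
      rw [commutatorElement_def]
      simp only [QuotientGroup.mk_mul, QuotientGroup.mk_inv]
      rw [IsMulCommutative.is_comm.comm (QuotientGroup.mk a) (QuotientGroup.mk b)]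
      group
  have h : ⁅x, y⁆ = 1 := by
    apply Subtype.ext
    apply Equiv.ext
    intro i
    have h5 : ⁅x, y⁆ ∈ MulAction.stabilizer P i :=
      key i (Subgroup.commutator_mem_commutator (Subgroup.mem_top x) (Subgroup.mem_top y))
    exact h5
  exact commutatorElement_eq_one_iff_mul_comm.1 h

/-- If all `p`-subgroups of `G` are commutative, so are those of every section. -/
theorem comm_of_involves {p : ℕ} [Fact p.Prime] {G Y : Type*} [Group G] [Finite G] [Group Y]
    (h : Cfsg.Agent.Lib.Involves.Involves G Y) (hG : ∀ P : Subgroup G, IsPGroup p P → ∀ x ∈ P, ∀ y ∈ P, x * y = y * x)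
    (Q : Subgroup Y) (hQ : IsPGroup p Q) : ∀ x ∈ Q, ∀ y ∈ Q, x * y = y * x := by
  obtain ⟨H, f, hf⟩ := h
  have : Finite Y := Finite.of_surjective f hf
  obtain ⟨Q', hQ'⟩ := hQ.exists_le_sylow
  obtain ⟨P⟩ : Nonempty (Sylow p H) := inferInstance
  obtain ⟨g, hg⟩ := MulAction.exists_smul_eq Y (P.mapSurjective hf) Q'
  obtain ⟨g', rfl⟩ := hf g
  intro x hx y hy
  have hx' := hQ' hx
  have hy' := hQ' hy
  rw [← hg] at hx' hy'
  change x ∈ MulAut.conj (f g') • ((P.mapSurjective hf : Sylow p Y) : Subgroup Y) at hx'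
  change y ∈ MulAut.conj (f g') • ((P.mapSurjective hf : Sylow p Y) : Subgroup Y) at hy'
  rw [Sylow.coe_mapSurjective] at hx' hy'
  obtain ⟨_, ⟨x1, hx1, rfl⟩, rfl⟩ := hx'
  obtain ⟨_, ⟨y1, hy1, rfl⟩, rfl⟩ := hy'
  have hcomm : x1 * y1 = y1 * x1 := by
    apply Subtype.ext
    exact hG ((P : Subgroup H).map H.subtype) (P.isPGroup'.map _) _ ⟨x1, hx1, rfl⟩ _ ⟨y1, hy1, rfl⟩
  change (MulAut.conj (f g')) (f x1) * (MulAut.conj (f g')) (f y1) = (MulAut.conj (f g')) (f y1) * (MulAut.conj (f g')) (f x1)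
  rw [← map_mul, ← map_mul, ← map_mul, ← map_mul, hcomm]

/-! ### A non-commutative `p`-subgroup of `Qd(p)` -/

/-- every member of `Qd(p)` is a translation times a block matrix -/
theorem row_of_mem {p : ℕ} {M : Matrix.SpecialLinearGroup (Fin 3) (ZMod p)}
    (hM : M ∈ Cfsg.qd p) : ∃ (v : V p) (A : S2 p), M = transl v * diag A := by
  unfold Cfsg.qd at hM
  induction hM using Subgroup.closure_induction with
  | mem x hx => exact exists_of_row x hx.1 hx.2.1 hx.2.2
  | one => exact ⟨1, 1, by simp⟩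
  | mul x y _ _ hx hy =>
    obtain ⟨v, A, rfl⟩ := hx
    obtain ⟨w, B, rfl⟩ := hy
    refine ⟨v * act A w, A * B, ?_⟩
    rw [map_mul, map_mul]
    calc transl v * diag A * (transl w * diag B) = transl v * (diag A * transl w) * diag B := by group
      _ = transl v * (transl (act A w) * diag A) * diag B := by rw [diag_mul_transl]
      _ = _ := by group
  | inv x _ hx =>
    obtain ⟨v, A, rfl⟩ := hx
    refine ⟨act A⁻¹ v⁻¹, A⁻¹, ?_⟩
    rw [← diag_mul_transl, map_inv, map_inv]
    group

/-- the upper unitriangular elements of `SL₂` -/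
def U (p : ℕ) : Multiplicative (ZMod p) →* S2 p where
  toFun x := ⟨!![1, Multiplicative.toAdd x; 0, 1], by simp [Matrix.det_fin_two_of]⟩
  map_one' := by
    apply Subtype.ext
    ext i j
    fin_cases i <;> fin_cases j <;> simp
  map_mul' x y := by
    apply Subtype.ext
    change !![1, Multiplicative.toAdd x + Multiplicative.toAdd y; 0, 1] =
      (!![1, Multiplicative.toAdd x; 0, 1] : Matrix (Fin 2) (Fin 2) (ZMod p)) *
        !![1, Multiplicative.toAdd y; 0, 1]
    ext i j
    fin_cases i <;> fin_cases j <;> simp [Matrix.mul_apply, Fin.sum_univ_two, add_comm]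

/-- the lower unitriangular elements of `SL₂` -/
def L (p : ℕ) : Multiplicative (ZMod p) →* S2 p where
  toFun x := ⟨!![1, 0; Multiplicative.toAdd x, 1], by simp [Matrix.det_fin_two_of]⟩
  map_one' := by
    apply Subtype.ext
    ext i j
    fin_cases i <;> fin_cases j <;> simp
  map_mul' x y := by
    apply Subtype.ext
    change !![1, 0; Multiplicative.toAdd x + Multiplicative.toAdd y, 1] =
      (!![1, 0; Multiplicative.toAdd x, 1] : Matrix (Fin 2) (Fin 2) (ZMod p)) *
        !![1, 0; Multiplicative.toAdd y, 1]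
    ext i j
    fin_cases i <;> fin_cases j <;> simp [Matrix.mul_apply, Fin.sum_univ_two, add_comm]

theorem mul_pow_p {p : ℕ} (x : Multiplicative (ZMod p)) : x ^ p = 1 := by
  apply Multiplicative.toAdd.injective
  rw [toAdd_pow, toAdd_one]
  simp

theorem V_pow_p {p : ℕ} (v : V p) : v ^ p = 1 := by
  apply Multiplicative.toAdd.injective
  rw [toAdd_pow, toAdd_one]
  funext i
  simp

/-- a matrix with nonzero lower left entry is a product of three unitriangular ones -/
theorem eq_ULU {p : ℕ} [Fact p.Prime] (A : S2 p) (hc : A 1 0 ≠ 0) :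
    A = U p (Multiplicative.ofAdd ((A 0 0 - 1) / A 1 0)) * L p (Multiplicative.ofAdd (A 1 0)) *
      U p (Multiplicative.ofAdd ((A 1 1 - 1) / A 1 0)) := by
  have hdet := A.det_coe
  rw [Matrix.det_fin_two] at hdet
  apply Subtype.ext
  rw [Matrix.SpecialLinearGroup.coe_mul, Matrix.SpecialLinearGroup.coe_mul]
  change (A : Matrix (Fin 2) (Fin 2) (ZMod p)) =
    (!![1, (A 0 0 - 1) / A 1 0; 0, 1] : Matrix (Fin 2) (Fin 2) (ZMod p)) *
      !![1, 0; A 1 0, 1] * !![1, (A 1 1 - 1) / A 1 0; 0, 1]
  ext i j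
  fin_cases i <;> fin_cases j <;> simp [Matrix.mul_apply, Fin.sum_univ_two]
  · field_simp
    ring
  · field_simp
    linear_combination (-1 : ZMod p) * hdet
  · field_simp
    ring

/-- every homomorphism of `SL₂(p)`, `p` odd, to the group of order 2 is trivial -/
theorem S2_hom_trivial {p : ℕ} [Fact p.Prime] (hp : p ≠ 2) (g : S2 p →* ℤˣ) (A : S2 p) : g A = 1 := by
  have hodd : Odd p := (Fact.out : p.Prime).odd_of_ne_two hp
  have htr : ∀ B : S2 p, B ^ p = 1 → g B = 1 := by
    intro B hB
    have h1 : (g B) ^ p = 1 := by rw [← map_pow, hB, map_one]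
    rcases Int.units_eq_one_or (g B) with h | h
    · exact h
    · rw [h, hodd.neg_one_pow] at h1
      rw [h, h1]
  have hU : ∀ x, g (U p x) = 1 := fun x => htr _ (by rw [← map_pow, mul_pow_p, map_one])
  have hL : ∀ x, g (L p x) = 1 := fun x => htr _ (by rw [← map_pow, mul_pow_p, map_one])
  by_cases hc : A 1 0 = 0
  · have hdet := A.det_coe
    rw [Matrix.det_fin_two] at hdet
    have ha : A 0 0 ≠ 0 := by
      intro h
      rw [h, hc] at hdet
      simp at hdet
    have hc' : (L p (Multiplicative.ofAdd 1) * A) 1 0 ≠ 0 := by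
      have : (L p (Multiplicative.ofAdd 1) * A) 1 0 = A 0 0 + A 1 0 := by
        change ((!![1, 0; 1, 1] : Matrix (Fin 2) (Fin 2) (ZMod p)) * (A : Matrix (Fin 2) (Fin 2) (ZMod p))) 1 0 = _
        simp [Matrix.mul_apply, Fin.sum_univ_two]
      rw [this, hc, add_zero]
      exact ha
    have h2 := congrArg g (eq_ULU _ hc')
    rw [map_mul, map_mul, map_mul, hU, hU, hL, hL] at h2
    simpa using h2
  · rw [eq_ULU A hc, map_mul, map_mul, hU, hU, hL]
    simp

/-- `Qd(p)` has a non-commutative `p`-subgroup -/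
theorem qd_noncomm {p : ℕ} [Fact p.Prime] :
    ∃ Q : Subgroup ↥(Cfsg.qd p), IsPGroup p Q ∧ ∃ x ∈ Q, ∃ y ∈ Q, x * y ≠ y * x := by
  let tH : V p →* ↥(Cfsg.qd p) := (transl (p := p)).codRestrict _ transl_mem_qd
  let dH : S2 p →* ↥(Cfsg.qd p) := (diag (p := p)).codRestrict _ diag_mem_qd
  have hTn : tH.range.Normal := by
    constructor
    rintro _ ⟨w, rfl⟩ ⟨g, hg⟩
    obtain ⟨v, A, rfl⟩ := row_of_mem hg
    refine ⟨act A w, ?_⟩
    apply Subtype.ext
    change transl (act A w) = transl v * diag A * transl w * (transl v * diag A)⁻¹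
    have h1 : transl v * transl (act A w) = transl (act A w) * transl v := by
      rw [← map_mul, ← map_mul, mul_comm]
    calc transl (act A w) = transl v * transl (act A w) * (transl v)⁻¹ := by rw [h1]; group
      _ = transl v * (transl (act A w) * diag A) * (transl v * diag A)⁻¹ := by group
      _ = _ := by rw [← diag_mul_transl]; group
  have hVp : IsPGroup p (V p) := fun v => ⟨1, by rw [pow_one]; exact V_pow_p v⟩
  have hMp : IsPGroup p (Multiplicative (ZMod p)) := fun v => ⟨1, by rw [pow_one]; exact mul_pow_p v⟩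
  have h1 : IsPGroup p tH.range := hVp.of_surjective tH.rangeRestrict tH.rangeRestrict_surjective
  have h2 : IsPGroup p (dH.comp (U p)).range :=
    hMp.of_surjective (dH.comp (U p)).rangeRestrict (dH.comp (U p)).rangeRestrict_surjective
  refine ⟨tH.range ⊔ (dH.comp (U p)).range, h1.to_sup_of_normal_left h2, ?_⟩
  refine ⟨dH (U p (Multiplicative.ofAdd 1)), Subgroup.mem_sup_right ⟨_, rfl⟩,
    tH (Multiplicative.ofAdd ![0, 1]), Subgroup.mem_sup_left ⟨_, rfl⟩, ?_⟩
  intro h
  have h3 : diag (U p (Multiplicative.ofAdd 1)) * transl (Multiplicative.ofAdd ![0, 1]) =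
      transl (Multiplicative.ofAdd ![0, 1]) * diag (U p (Multiplicative.ofAdd 1)) :=
    congrArg Subtype.val h
  rw [diag_mul_transl] at h3
  have h4 := mul_right_cancel h3
  have h5 := congrArg Subtype.val h4
  rw [transl_apply, transl_apply] at h5
  have h6 := congrFun (congrFun h5 0) 2
  have h7 : act (U p (Multiplicative.ofAdd 1)) (Multiplicative.ofAdd ![0, 1]) =
      Multiplicative.ofAdd ![1, 1] := by
    change Multiplicative.ofAdd ((!![1, 1; 0, 1] : Matrix (Fin 2) (Fin 2) (ZMod p)).mulVec ![0, 1]) = _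
    congr 1
    funext i
    fin_cases i <;> simp [Matrix.mulVec, dotProduct, Fin.sum_univ_two]
  rw [h7] at h6
  simp at h6

/-- `Qd(p)` is not involved in the alternating group of degree `n < p²` -/
theorem not_involves_alt {p : ℕ} [Fact p.Prime] {n : ℕ} (hn : n < p ^ 2) :
    ¬ Cfsg.Agent.Lib.Involves.Involves (alternatingGroup (Fin n)) ↥(Cfsg.qd p) := by
  intro h
  obtain ⟨Q, hQ, x, hx, y, hy, hxy⟩ := qd_noncomm (p := p)
  apply hxy
  refine comm_of_involves h ?_ Q hQ x hx y hy
  intro P hP x hx y hy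
  apply Subtype.ext
  have h1 : IsPGroup p (P.map (alternatingGroup (Fin n)).subtype) := hP.map _
  have := perm_comm hn _ h1 ⟨(x : Equiv.Perm (Fin n)), ⟨x, hx, rfl⟩⟩ ⟨(y : Equiv.Perm (Fin n)), ⟨y, hy, rfl⟩⟩
  exact congrArg (fun z : ↥(P.map (alternatingGroup (Fin n)).subtype) => (z : Equiv.Perm (Fin n))) this

/-! ### The embedding -/

/-- The affine plane. -/
abbrev Pl (p : ℕ) : Type := {w : Fin 3 → ZMod p // w 2 = 1}

theorem mulVec_two {p : ℕ} {M : Matrix.SpecialLinearGroup (Fin 3) (ZMod p)} (hM : M ∈ Cfsg.qd p)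
    (w : Fin 3 → ZMod p) (hw : w 2 = 1) : (M : Matrix (Fin 3) (Fin 3) (ZMod p)).mulVec w 2 = 1 := by
  obtain ⟨v, A, rfl⟩ := row_of_mem hM
  rw [Matrix.SpecialLinearGroup.coe_mul, ← Matrix.mulVec_mulVec, transl_apply, diag_apply]
  simp [Matrix.mulVec, dotProduct, Fin.sum_univ_three, hw]

/-- The action on the affine plane. -/
def planeHom (p : ℕ) : ↥(Cfsg.qd p) →* Equiv.Perm (Pl p) where
  toFun M :=
    { toFun := fun w => ⟨(M.1 : Matrix (Fin 3) (Fin 3) (ZMod p)).mulVec w.1, mulVec_two M.2 w.1 w.2⟩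
      invFun := fun w => ⟨(M⁻¹.1 : Matrix (Fin 3) (Fin 3) (ZMod p)).mulVec w.1, mulVec_two M⁻¹.2 w.1 w.2⟩
      left_inv := by
        intro w
        apply Subtype.ext
        change (M⁻¹.1 : Matrix (Fin 3) (Fin 3) (ZMod p)).mulVec ((M.1 : Matrix (Fin 3) (Fin 3) (ZMod p)).mulVec w.1) = w.1
        rw [Matrix.mulVec_mulVec, ← Matrix.SpecialLinearGroup.coe_mul]
        have : M⁻¹.1 * M.1 = 1 := by
          rw [← Subgroup.coe_mul, inv_mul_cancel, Subgroup.coe_one]
        rw [this, Matrix.SpecialLinearGroup.coe_one, Matrix.one_mulVec]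
      right_inv := by
        intro w
        apply Subtype.ext
        change (M.1 : Matrix (Fin 3) (Fin 3) (ZMod p)).mulVec ((M⁻¹.1 : Matrix (Fin 3) (Fin 3) (ZMod p)).mulVec w.1) = w.1
        rw [Matrix.mulVec_mulVec, ← Matrix.SpecialLinearGroup.coe_mul]
        have : M.1 * M⁻¹.1 = 1 := by
          rw [← Subgroup.coe_mul, mul_inv_cancel, Subgroup.coe_one]
        rw [this, Matrix.SpecialLinearGroup.coe_one, Matrix.one_mulVec] }
  map_one' := by
    apply Equiv.ext
    intro w
    apply Subtype.ext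
    change ((1 : Matrix.SpecialLinearGroup (Fin 3) (ZMod p)) : Matrix (Fin 3) (Fin 3) (ZMod p)).mulVec w.1 = w.1
    rw [Matrix.SpecialLinearGroup.coe_one, Matrix.one_mulVec]
  map_mul' M N := by
    apply Equiv.ext
    intro w
    apply Subtype.ext
    change ((M.1 * N.1 : Matrix.SpecialLinearGroup (Fin 3) (ZMod p)) : Matrix (Fin 3) (Fin 3) (ZMod p)).mulVec w.1 =
      (M.1 : Matrix (Fin 3) (Fin 3) (ZMod p)).mulVec ((N.1 : Matrix (Fin 3) (Fin 3) (ZMod p)).mulVec w.1)
    rw [Matrix.mulVec_mulVec, Matrix.SpecialLinearGroup.coe_mul]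

theorem planeHom_injective (p : ℕ) : Function.Injective (planeHom p) := by
  rw [injective_iff_map_eq_one]
  intro M hM
  have key : ∀ w : Fin 3 → ZMod p, w 2 = 1 → (M.1 : Matrix (Fin 3) (Fin 3) (ZMod p)).mulVec w = w := by
    intro w hw
    have := Equiv.congr_fun hM ⟨w, hw⟩
    exact congrArg Subtype.val this
  have h0 := key ![0, 0, 1] rfl
  have h1 := key ![1, 0, 1] rfl
  have h2 := key ![0, 1, 1] rfl
  apply Subtype.ext
  apply Subtype.ext
  rw [Subgroup.coe_one, Matrix.SpecialLinearGroup.coe_one]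
  have e0 := fun i => congrFun h0 i
  have e1 := fun i => congrFun h1 i
  have e2 := fun i => congrFun h2 i
  simp only [Matrix.mulVec, dotProduct, Fin.sum_univ_three] at e0 e1 e2
  ext i j
  have a0 := e0 i
  have a1 := e1 i
  have a2 := e2 i
  fin_cases i <;> fin_cases j <;> simp at a0 a1 a2 ⊢ <;> first | assumption | (simp_all)

theorem card_plane (p : ℕ) [Fact p.Prime] : Fintype.card (Pl p) = p ^ 2 := by
  let e : Pl p ≃ (Fin 2 → ZMod p) :=
    { toFun := fun w => ![w.1 0, w.1 1]
      invFun := fun v => ⟨![v 0, v 1, 1], rfl⟩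
      left_inv := by
        intro w
        apply Subtype.ext
        funext i
        fin_cases i
        · rfl
        · rfl
        · exact w.2.symm
      right_inv := by
        intro v
        funext i
        fin_cases i <;> rfl }
  rw [Fintype.card_congr e]
  simp [ZMod.card]

/-- `Qd(p)` is isomorphic to a subgroup of the alternating group of degree `n ≥ p²`, `p` odd. -/
theorem exists_alt_subgroup {p : ℕ} [Fact p.Prime] (hp : p ≠ 2) {n : ℕ} (hn : p ^ 2 ≤ n) :
    ∃ H : Subgroup (alternatingGroup (Fin n)), Nonempty (↥H ≃* ↥(Cfsg.qd p)) := by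
  classical
  have hodd : Odd p := (Fact.out : p.Prime).odd_of_ne_two hp
  obtain ⟨e⟩ : Nonempty (Pl p ↪ Fin n) := by
    apply Function.Embedding.nonempty_of_card_le
    rw [card_plane, Fintype.card_fin]
    exact hn
  let f : Pl p ≃ {x : Fin n // x ∈ Set.range e} := Equiv.ofInjective e e.injective
  let ext : Equiv.Perm (Pl p) →* Equiv.Perm (Fin n) := Equiv.Perm.extendDomainHom f
  have hext : Function.Injective ext := Equiv.Perm.extendDomainHom_injective f
  let F : ↥(Cfsg.qd p) →* Equiv.Perm (Fin n) := ext.comp (planeHom p)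
  have hF : Function.Injective F := hext.comp (planeHom_injective p)
  have hsign : ∀ M : ↥(Cfsg.qd p), F M ∈ alternatingGroup (Fin n) := by
    rintro ⟨M, hM⟩
    rw [Equiv.Perm.mem_alternatingGroup]
    let s : ↥(Cfsg.qd p) →* ℤˣ := Equiv.Perm.sign.comp F
    change s ⟨M, hM⟩ = 1
    obtain ⟨v, A, rfl⟩ := row_of_mem hM
    have h1 : (⟨transl v * diag A, hM⟩ : ↥(Cfsg.qd p)) =
        ⟨transl v, transl_mem_qd v⟩ * ⟨diag A, diag_mem_qd A⟩ := rfl
    rw [h1, map_mul]
    have h2 : s ⟨transl v, transl_mem_qd v⟩ = 1 := by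
      have h3 : (⟨transl v, transl_mem_qd v⟩ : ↥(Cfsg.qd p)) ^ p = 1 := by
        apply Subtype.ext
        change (transl v) ^ p = 1
        rw [← map_pow, V_pow_p, map_one]
      have h4 : (s ⟨transl v, transl_mem_qd v⟩) ^ p = 1 := by rw [← map_pow, h3, map_one]
      rcases Int.units_eq_one_or (s ⟨transl v, transl_mem_qd v⟩) with h | h
      · exact h
      · rw [h, hodd.neg_one_pow] at h4
        rw [h, h4]
    have h5 : s ⟨diag A, diag_mem_qd A⟩ = 1 := by
      let dH : S2 p →* ↥(Cfsg.qd p) := (diag (p := p)).codRestrict _ diag_mem_qd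
      exact S2_hom_trivial hp (s.comp dH) A
    rw [h2, h5, one_mul]
  let F' : ↥(Cfsg.qd p) →* alternatingGroup (Fin n) := F.codRestrict _ hsign
  have hF' : Function.Injective F' := by
    intro a b hab
    exact hF (congrArg Subtype.val hab)
  exact ⟨F'.range, ⟨(MonoidHom.ofInjective hF').symm⟩⟩

end Cfsg.Agent.H460.QdAlt
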