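import Cfsg.Agent.FixBN.GoodOne
import Cfsg.Agent.H460.AADef

/-!
# Families of root groups of rank one: the conditions of the AA-engine (helper460)

`fam : Om → Subgroup (Perm Om)` the root groups of a panel `Om`, `r` an odd prime.
* `PN r fam` : a permutation `f` permuting the family such that all `f * (m * f * m⁻¹)`, `m ∈ ⨆ y, fam y`, are
  `r`-elements, is trivial;
* `PF r fam` : the same if `f` has a fixed point;
* `PX r fam` : the same if `f` is an `r`-element with a fixed point.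
-/

set_option autoImplicit false

namespace Cfsg.Agent.H460.Pan

open Cfsg.Agent.FixBN Cfsg.Agent.H460.AA

variable {Om Om' : Type*}

/-- no restriction on `f` -/
def PN (r : ℕ) (fam : Om → Subgroup (Equiv.Perm Om)) : Prop :=
  ∀ f ∈ famStab fam, (∀ m ∈ ⨆ y, fam y, PE r (f * (m * f * m⁻¹))) → f = 1

/-- `f` has a fixed point -/
def PF (r : ℕ) (fam : Om → Subgroup (Equiv.Perm Om)) : Prop :=
  ∀ f ∈ famStab fam, (∃ y, f y = y) → (∀ m ∈ ⨆ y, fam y, PE r (f * (m * f * m⁻¹))) → f = 1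

/-- `f` is an `r`-element with a fixed point -/
def PX (r : ℕ) (fam : Om → Subgroup (Equiv.Perm Om)) : Prop :=
  ∀ f ∈ famStab fam, PE r f → (∃ y, f y = y) → (∀ m ∈ ⨆ y, fam y, PE r (f * (m * f * m⁻¹))) → f = 1

theorem PN.pf {r : ℕ} {fam : Om → Subgroup (Equiv.Perm Om)} (h : PN r fam) : PF r fam := fun f hf _ h1 => h f hf h1

theorem PF.px {r : ℕ} {fam : Om → Subgroup (Equiv.Perm Om)} (h : PF r fam) : PX r fam := fun f hf _ h2 h1 => h f hf h2 h1

/-- Transport of the data under a bijection of the points. -/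
theorem transport (e : Om ≃ Om') {U : Om → Subgroup (Equiv.Perm Om)}
    {U' : Om' → Subgroup (Equiv.Perm Om')} (hU : ∀ y g, g ∈ U y ↔ e.permCongr g ∈ U' (e y)) {r : ℕ}
    {f' : Equiv.Perm Om'} (hf' : f' ∈ famStab U') (hP : ∀ m ∈ ⨆ y, U' y, PE r (f' * (m * f' * m⁻¹))) :
    ∃ f : Equiv.Perm Om, f' = e.permCongr f ∧ f ∈ famStab U ∧ (∀ m ∈ ⨆ y, U y, PE r (f * (m * f * m⁻¹))) ∧
      ((∃ y, f' y = y) → ∃ y, f y = y) ∧ (PE r f' → PE r f) := by
  set F : Equiv.Perm Om ≃* Equiv.Perm Om' := e.permCongrHom with hF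
  have hfa : ∀ g, F g = e.permCongr g := fun g => rfl
  obtain ⟨f, rfl⟩ := F.surjective f'
  have hcy : ∀ (c : Equiv.Perm Om) y, (F c) (e y) = e (c y) := fun c y => by
    show e (c (e.symm (e y))) = e (c y)
    rw [e.symm_apply_apply]
  have hsup : ∀ m ∈ ⨆ y, U y, F m ∈ ⨆ y, U' y := by
    intro m hm
    have h1 : (⨆ y, U y) ≤ (⨆ y, U' y).comap F.toMonoidHom := by
      refine iSup_le fun y g hg => ?_
      rw [Subgroup.mem_comap]
      exact Subgroup.mem_iSup_of_mem (e y) ((hU y g).1 hg)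
    exact h1 hm
  refine ⟨f, rfl, ?_, fun m hm => ?_, ?_, ?_⟩
  · intro y g
    have := hf' (e y) (F g)
    rwa [hcy, ← map_mul, ← map_inv, ← map_mul, hfa, hfa, ← hU, ← hU] at this
  · have h1 := hP (F m) (hsup m hm)
    rw [← map_inv, ← map_mul, ← map_mul, ← map_mul] at h1
    exact PE.of_injective (f := F.toMonoidHom) F.injective h1
  · rintro ⟨y, hy⟩
    obtain ⟨z, rfl⟩ := e.surjective y
    rw [hcy] at hy
    exact ⟨z, e.injective hy⟩
  · exact fun h => PE.of_injective (f := F.toMonoidHom) F.injective h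

theorem PN.map (e : Om ≃ Om') {U : Om → Subgroup (Equiv.Perm Om)}
    {U' : Om' → Subgroup (Equiv.Perm Om')} (hU : ∀ y g, g ∈ U y ↔ e.permCongr g ∈ U' (e y)) {r : ℕ} (h : PN r U) :
    PN r U' := by
  intro f' hf' hP
  obtain ⟨f, rfl, h1, h2, -, -⟩ := transport e hU hf' hP
  rw [h f h1 h2]
  exact map_one e.permCongrHom

theorem PF.map (e : Om ≃ Om') {U : Om → Subgroup (Equiv.Perm Om)}
    {U' : Om' → Subgroup (Equiv.Perm Om')} (hU : ∀ y g, g ∈ U y ↔ e.permCongr g ∈ U' (e y)) {r : ℕ} (h : PF r U) :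
    PF r U' := by
  intro f' hf' hy hP
  obtain ⟨f, rfl, h1, h2, h3, -⟩ := transport e hU hf' hP
  rw [h f h1 (h3 hy) h2]
  exact map_one e.permCongrHom

theorem PX.map (e : Om ≃ Om') {U : Om → Subgroup (Equiv.Perm Om)}
    {U' : Om' → Subgroup (Equiv.Perm Om')} (hU : ∀ y g, g ∈ U y ↔ e.permCongr g ∈ U' (e y)) {r : ℕ} (h : PX r U) :
    PX r U' := by
  intro f' hf' hpe hy hP
  obtain ⟨f, rfl, h1, h2, h3, h4⟩ := transport e hU hf' hP
  rw [h f h1 (h4 hpe) (h3 hy) h2]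
  exact map_one e.permCongrHom

end Cfsg.Agent.H460.Pan
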