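import Cfsg.Agent.H460.EllPan
import Cfsg.Agent.H460.Lem1

/-!
# The coset lemma (helper460, AA-engine)

* `coset_false` : in a Moufang set (`Reg fam`) there is no coset `g0 M`, `M = ⨆ fam`, consisting of `r`-elements.
-/

set_option autoImplicit false
set_option linter.unusedSectionVars false

open scoped Pointwise

namespace Cfsg.Agent.H460.Coset

open Cfsg.Agent.H460.AA Cfsg.Agent.FixBN

/-- A Moufang set. -/
structure Reg {X : Type*} (fam : X → Subgroup (Equiv.Perm X)) : Prop where
  fix : ∀ y, ∀ u ∈ fam y, u y = y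
  trans : ∀ y a b, a ≠ y → b ≠ y → ∃ u ∈ fam y, u a = b
  free : ∀ y a, a ≠ y → ∀ u ∈ fam y, u a = a → u = 1
  conj : ∀ y z, ∀ u ∈ fam y, ∀ g ∈ fam z, u * g * u⁻¹ ∈ fam (u z)

section Abstract

variable {X : Type*} [Finite X] {fam : X → Subgroup (Equiv.Perm X)} (hR : Reg fam)

theorem exists_ne (h3 : 3 ≤ Nat.card X) (y : X) : ∃ a, a ≠ y := by
  by_contra h
  push Not at h
  have h1 : Nat.card X = 1 := by
    rw [Nat.card_eq_one_iff_unique]
    exact ⟨⟨fun a b => by rw [h a, h b]⟩, ⟨y⟩⟩
  omega

theorem exists_ne_ne (h3 : 3 ≤ Nat.card X) (y z : X) : ∃ a, a ≠ y ∧ a ≠ z := by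
  classical
  have : Fintype X := Fintype.ofFinite X
  rw [Nat.card_eq_fintype_card] at h3
  by_contra h
  push Not at h
  have h1 : (Finset.univ : Finset X) ⊆ {y, z} := by
    intro a _
    by_cases hay : a = y
    · simp [hay]
    · simp [h a hay]
  have h2 := Finset.card_le_card h1
  have h4 : ({y, z} : Finset X).card ≤ 2 := Finset.card_le_two
  rw [Finset.card_univ] at h2
  omega

include hR

theorem sup_le_famStab : (⨆ y, fam y) ≤ famStab fam := by
  refine iSup_le fun y u hu => ?_
  exact EllPan.mem_famStab_of_forward fun z g hg => hR.conj y z u hu g hg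

theorem card_fam (h3 : 3 ≤ Nat.card X) (y : X) : Nat.card (fam y) = Nat.card X - 1 := by
  classical
  have : Fintype X := Fintype.ofFinite X
  obtain ⟨a, ha⟩ := exists_ne h3 y
  have e : fam y ≃ {b : X // b ≠ y} := by
    refine Equiv.ofBijective (fun u => ⟨(u : Equiv.Perm X) a, fun h => ?_⟩) ⟨?_, ?_⟩
    · have h1 := hR.fix y u u.2
      exact ha ((u : Equiv.Perm X).injective (h.trans h1.symm))
    · intro u v huv
      have h1 : (u : Equiv.Perm X) a = (v : Equiv.Perm X) a := congrArg Subtype.val huv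
      have h2 : ((u : Equiv.Perm X)⁻¹ * v) a = a := by
        rw [Equiv.Perm.mul_apply, ← h1]
        exact (u : Equiv.Perm X).symm_apply_apply a
      have h3 := hR.free y a ha _ (mul_mem (inv_mem u.2) v.2) h2
      exact Subtype.ext (inv_mul_eq_one.1 h3)
    · rintro ⟨b, hb⟩
      obtain ⟨u, hu, h1⟩ := hR.trans y a b ha hb
      exact ⟨⟨u, hu⟩, Subtype.ext h1⟩
  rw [Nat.card_congr e, Nat.card_eq_fintype_card, Nat.card_eq_fintype_card]
  exact Set.card_ne_eq y

/-- `M` is transitive. -/
theorem exists_M (h3 : 3 ≤ Nat.card X) (a b : X) : ∃ m ∈ ⨆ y, fam y, m a = b := by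
  obtain ⟨y, hya, hyb⟩ := exists_ne_ne h3 a b
  obtain ⟨u, hu, h⟩ := hR.trans y a b hya.symm hyb.symm
  exact ⟨u, (le_iSup fam y) hu, h⟩

/-- **The coset lemma.** -/
theorem coset_false (h3 : 3 ≤ Nat.card X) {r : ℕ} [hrp : Fact r.Prime] (hr2 : r ≠ 2)
    (hr : ¬ r ∣ Nat.card X - 1) {g0 : Equiv.Perm X} (hg0 : ∀ y, ∀ g ∈ fam y, g0 * g * g0⁻¹ ∈ fam (g0 y))
    (hP : ∀ m ∈ ⨆ y, fam y, PE r (g0 * m)) : False := by
  classical
  have : Fintype X := Fintype.ofFinite X
  have hXn : Nonempty X := by
    by_contra h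
    rw [not_nonempty_iff] at h
    rw [Nat.card_of_isEmpty] at h3
    omega
  obtain ⟨x0⟩ := hXn
  -- fixed points of `r`-elements
  have hfp : ∀ z : Equiv.Perm X, PE r z → Fintype.card X ≡ Fintype.card (Function.fixedPoints z) [MOD r] := by
    intro z hz
    obtain ⟨k, hk⟩ := PE.pow_eq_one_iff.1 hz
    have h1 := map_pow (MulAction.toEndHom (M := Equiv.Perm X) (α := X)) z (r ^ k)
    rw [hk, map_one] at h1
    exact Equiv.Perm.card_fixedPoints_modEq (f := MulAction.toEndHom (M := Equiv.Perm X) (α := X) z) h1.symm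
  by_cases hrX : r ∣ Nat.card X
  · -- some element of the coset fixes `x0`
    obtain ⟨m, hm, hmx⟩ := exists_M hR h3 x0 (g0⁻¹ x0)
    set z := g0 * m with hz
    have hzx : z x0 = x0 := by
      rw [hz, Equiv.Perm.mul_apply, hmx]
      exact g0.apply_symm_apply x0
    have hzP : PE r z := hP m hm
    have hzn : ∀ k ∈ fam x0, z * k * z⁻¹ ∈ fam x0 := by
      intro k hk
      have h1 := (sup_le_famStab hR hm x0 k).1 hk
      have h2 := hg0 _ _ h1
      have h4 : g0 (m x0) = x0 := hzx
      rw [h4] at h2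
      have e : z * k * z⁻¹ = g0 * (m * k * m⁻¹) * g0⁻¹ := by rw [hz]; group
      rwa [e]
    -- three fixed points
    have h5 : r ≤ Fintype.card (Function.fixedPoints z) := by
      have h1 := hfp z hzP
      have h2 : Fintype.card (Function.fixedPoints z) ≡ 0 [MOD r] :=
        h1.symm.trans ((Nat.modEq_zero_iff_dvd).2 (by rwa [← Nat.card_eq_fintype_card]))
      have h4 := (Nat.modEq_zero_iff_dvd).1 h2
      refine Nat.le_of_dvd ?_ h4
      exact Fintype.card_pos_iff.2 ⟨⟨x0, hzx⟩⟩
    have h6 : 3 ≤ r := by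
      have := hrp.out.two_le
      omega
    obtain ⟨a, ha, b, hb, hax, hbx, hab⟩ : ∃ a, z a = a ∧ ∃ b, z b = b ∧ a ≠ x0 ∧ b ≠ x0 ∧ a ≠ b := by
      obtain ⟨⟨a, ha⟩, h7, -⟩ := exists_ne_ne (X := Function.fixedPoints z)
        (by rw [Nat.card_eq_fintype_card]; omega) ⟨x0, hzx⟩ ⟨x0, hzx⟩
      obtain ⟨⟨b, hb⟩, h8, h9⟩ := exists_ne_ne (X := Function.fixedPoints z)
        (by rw [Nat.card_eq_fintype_card]; omega) ⟨x0, hzx⟩ ⟨a, ha⟩
      refine ⟨a, ha, b, hb, ?_, ?_, ?_⟩
      · exact fun h => h7 (Subtype.ext h)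
      · exact fun h => h8 (Subtype.ext h)
      · exact fun h => h9 (Subtype.ext h.symm)
    -- the element `w` of the root group maps `a` to `b` and commutes with `z`
    obtain ⟨w, hw, hwab⟩ := hR.trans x0 a b hax hbx
    have hzw : z * w * z⁻¹ = w := by
      have h7 : (z * w * z⁻¹) a = b := by
        rw [Equiv.Perm.mul_apply, Equiv.Perm.mul_apply]
        have : z⁻¹ a = a := by rw [Equiv.Perm.inv_eq_iff_eq, ha]
        rw [this, hwab, hb]
      have h8 : (w⁻¹ * (z * w * z⁻¹)) a = a := by
        rw [Equiv.Perm.mul_apply, h7, Equiv.Perm.inv_eq_iff_eq, hwab]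
      have h9 := hR.free x0 a hax _ (mul_mem (inv_mem hw) (hzn w hw)) h8
      exact (inv_mul_eq_one.1 h9).symm
    -- surjectivity of `k ↦ z⁻¹ k z k⁻¹`
    have hcard : ¬ r ∣ Nat.card (fam x0) := by rw [card_fam hR h3]; exact hr
    have hzn' : ∀ k ∈ fam x0, z⁻¹ * k * z ∈ fam x0 := by
      intro k hk
      have h1 : z ∈ Subgroup.normalizer (fam x0 : Set (Equiv.Perm X)) := by
        rw [Subgroup.mem_normalizer_iff_map_conj_eq]
        refine Subgroup.eq_of_le_of_card_ge ?_ (le_of_eq (Subgroup.card_map_of_injective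
          (K := fam x0) (MulAut.conj z).injective).symm)
        rintro _ ⟨d, hd, rfl⟩
        exact hzn d hd
      have := (Subgroup.mem_normalizer_iff.1 (inv_mem h1) k).1 hk
      simpa using this
    let φ : fam x0 → fam x0 := fun k => ⟨z⁻¹ * ((k : Equiv.Perm X) * z * (k : Equiv.Perm X)⁻¹), by
      have e : z⁻¹ * ((k : Equiv.Perm X) * z * (k : Equiv.Perm X)⁻¹) =
        (z⁻¹ * (k : Equiv.Perm X) * z) * (k : Equiv.Perm X)⁻¹ := by group
      rw [e]
      exact mul_mem (hzn' _ k.2) (inv_mem k.2)⟩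
    have hφ : Function.Surjective φ := by
      rintro ⟨u, hu⟩
      have h7 : PE r (z * u) := by
        rw [hz, mul_assoc]
        exact hP _ (mul_mem hm ((le_iSup fam x0) hu))
      obtain ⟨k, hk, h8⟩ := Lem1.exists_conj (K := fam x0) hcard hzn hzP h7
        (by rw [inv_mul_cancel_left]; exact hu)
      refine ⟨⟨k, hk⟩, Subtype.ext ?_⟩
      change z⁻¹ * (k * z * k⁻¹) = u
      rw [← h8, inv_mul_cancel_left]
    have hinj := Finite.injective_iff_surjective.2 hφ
    have h7 : (⟨w, hw⟩ : fam x0) = 1 := by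
      apply hinj
      apply Subtype.ext
      change z⁻¹ * (w * z * w⁻¹) = z⁻¹ * (1 * z * 1⁻¹)
      have h8 : w * z * w⁻¹ = z := by
        have : z * w = w * z := by
          calc z * w = (z * w * z⁻¹) * z := by group
            _ = w * z := by rw [hzw]
        rw [← this]; group
      rw [h8]; group
    have h8 : w = 1 := congrArg Subtype.val h7
    rw [h8] at hwab
    exact hab hwab
  · -- the average number of fixed points is one
    set L : Subgroup (Equiv.Perm X) := ⨆ y, fam y with hL
    have : Fintype L := Fintype.ofFinite L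
    have h1 : ∀ m : L, 2 ≤ Fintype.card (Function.fixedPoints (g0 * (m : Equiv.Perm X))) := by
      intro m
      have h2 := hfp _ (hP m m.2)
      rw [Nat.card_eq_fintype_card] at hrX hr
      by_contra h4
      have h5 : Fintype.card (Function.fixedPoints (g0 * (m : Equiv.Perm X))) = 0 ∨
        Fintype.card (Function.fixedPoints (g0 * (m : Equiv.Perm X))) = 1 := by omega
      rcases h5 with h5 | h5
      · rw [h5] at h2
        exact hrX ((Nat.modEq_zero_iff_dvd).1 h2)
      · rw [h5] at h2
        have h6 : 1 ≤ Fintype.card X := by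
          rw [← Nat.card_eq_fintype_card]; omega
        exact hr ((Nat.modEq_iff_dvd' h6).1 h2.symm)
    -- the stabilisers
    have hMA : MulAction.IsPretransitive L X := ⟨fun a b => by
      obtain ⟨m, hm, h⟩ := exists_M hR h3 a b
      exact ⟨⟨m, hm⟩, h⟩⟩
    have hst : ∀ x : X, Fintype.card X * Fintype.card {m : L // (m : Equiv.Perm X) x = g0⁻¹ x} = Fintype.card L := by
      intro x
      obtain ⟨m0, hm0, h0⟩ := exists_M hR h3 x (g0⁻¹ x)
      have e : {m : L // (m : Equiv.Perm X) x = g0⁻¹ x} ≃ MulAction.stabilizer L x :=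
        { toFun := fun m => ⟨(⟨m0, hm0⟩ : L)⁻¹ * m.1, by
            rw [MulAction.mem_stabilizer_iff]
            change m0⁻¹ ((m.1 : Equiv.Perm X) x) = x
            rw [m.2, ← h0]
            exact m0.symm_apply_apply x⟩
          invFun := fun m => ⟨(⟨m0, hm0⟩ : L) * m.1, by
            have := m.2
            rw [MulAction.mem_stabilizer_iff] at this
            change m0 ((m.1 : Equiv.Perm X) x) = g0⁻¹ x
            have h : ((m : L) : Equiv.Perm X) x = x := this
            rw [h, h0]⟩
          left_inv := fun m => Subtype.ext (by simp)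
          right_inv := fun m => Subtype.ext (by simp) }
      rw [Fintype.card_congr e]
      have h5 := MulAction.card_orbit_mul_card_stabilizer_eq_card_group L x
      have h6 : Fintype.card (MulAction.orbit L x) = Fintype.card X := by
        rw [← Nat.card_eq_fintype_card, ← Nat.card_eq_fintype_card]
        have h7 : MulAction.orbit L x = Set.univ := MulAction.orbit_eq_univ L x
        rw [h7, Nat.card_univ]
      rw [← h6]
      exact h5
    -- double counting
    have hcount : ∑ m : L, Fintype.card (Function.fixedPoints (g0 * (m : Equiv.Perm X))) =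
        ∑ x : X, Fintype.card {m : L // (m : Equiv.Perm X) x = g0⁻¹ x} := by
      have e1 : ∀ m : L, Fintype.card (Function.fixedPoints (g0 * (m : Equiv.Perm X))) =
          ∑ x : X, if (m : Equiv.Perm X) x = g0⁻¹ x then 1 else 0 := by
        intro m
        rw [Finset.sum_boole, Nat.cast_id, Fintype.card_subtype]
        congr 1
        ext x
        rw [Finset.mem_filter, Finset.mem_filter]
        refine and_congr Iff.rfl ?_
        change g0 ((m : Equiv.Perm X) x) = x ↔ _
        rw [Equiv.Perm.eq_inv_iff_eq]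
      have e2 : ∀ x : X, Fintype.card {m : L // (m : Equiv.Perm X) x = g0⁻¹ x} =
          ∑ m : L, if (m : Equiv.Perm X) x = g0⁻¹ x then 1 else 0 := by
        intro x
        rw [Finset.sum_boole, Nat.cast_id, Fintype.card_subtype]
      simp only [e1, e2]
      exact Finset.sum_comm
    have h5 : 2 * Fintype.card L ≤ ∑ m : L, Fintype.card (Function.fixedPoints (g0 * (m : Equiv.Perm X))) := by
      calc 2 * Fintype.card L = ∑ _m : L, 2 := by rw [Finset.sum_const, Finset.card_univ, smul_eq_mul, mul_comm]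
        _ ≤ _ := Finset.sum_le_sum fun m _ => h1 m
    rw [hcount] at h5
    have h6 : Fintype.card X * ∑ x : X, Fintype.card {m : L // (m : Equiv.Perm X) x = g0⁻¹ x} =
        Fintype.card X * Fintype.card L := by
      rw [Finset.mul_sum, Finset.sum_congr rfl (fun x _ => hst x), Finset.sum_const, Finset.card_univ, smul_eq_mul]
    have hXpos : 0 < Fintype.card X := Fintype.card_pos_iff.2 ⟨x0⟩
    have h7 := Nat.eq_of_mul_eq_mul_left hXpos h6
    have h8 : 0 < Fintype.card L := Fintype.card_pos_iff.2 ⟨1⟩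
    omega

end Abstract

end Cfsg.Agent.H460.Coset
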