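import Cfsg.Agent.H460.EllC
import Cfsg.Agent.H460.Coset

/-!
# Elliptic automorphisms, two commuting nodes interchanged by the opposition (helper460, AA-engine)

* `reg_fam` : the root groups on a panel form a Moufang set;
* `swap_false` : the conclusion.
-/

set_option autoImplicit false
set_option linter.unusedSectionVars false

open scoped Pointwise

namespace Cfsg.Agent.H460.EllS

open Cfsg.Agent.Tits.Core Cfsg.Agent.Tits.Core.Bldg Cfsg.Agent.Tits.Exchange Cfsg.Agent.Tits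
open Cfsg.Agent.FixBN (Sys famStab mem_famStab)
open Cfsg.Agent.FixBN.Cox (Par Ad)
open Cfsg.Agent.FixOdd (Tw)
open Cfsg.Agent.H460.OppPanel Cfsg.Agent.H460.AA Cfsg.Agent.H460.EllPan Cfsg.Agent.H460.Pan
  Cfsg.Agent.H460.EllC Cfsg.Agent.H460.Coset

variable {I : Type*} {M : CoxeterMatrix I} {W : Type*} [Group W] {cs : CoxeterSystem M W} {C : Type*}

variable {Δ : Bldg cs C} {G : Type*} [Group G] [MulAction G C] {p : ℕ} (S : Sys Δ G p) {t : Tw Δ G}

variable [F : OppRes.Cox cs]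

include S in
/-- The root groups on a panel form a Moufang set. -/
theorem reg_fam (i : I) (y : C) : Reg (S.fam i y) where
  fix z u hu := by
    obtain ⟨v, hv, h⟩ := hu
    exact Subtype.ext (by rw [h, S.fix z v hv])
  trans z a b ha hb := by
    have h1 : Δ.δ (z : C) a = cs.simple i := Δ.δ_eq_of_mem_Pan z.2 a.2 fun h => ha (Subtype.ext h.symm)
    have h2 : Δ.δ (z : C) b = cs.simple i := Δ.δ_eq_of_mem_Pan z.2 b.2 fun h => hb (Subtype.ext h.symm)
    obtain ⟨u, hu, hua⟩ := S.exists_move (h1.trans h2.symm)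
    have hst : ∀ c : C, c ∈ Δ.Pan i y → u • c ∈ Δ.Pan i y := by
      intro c hc
      have h3 : Δ.Pan i (z : C) = Δ.Pan i y := Δ.Pan_eq_of_mem z.2
      rw [← h3] at hc ⊢
      rcases hc with rfl | hc
      · exact Or.inl (S.fix _ u hu)
      · refine Or.inr ?_
        have h4 := S.iso u z c
        rw [S.fix _ u hu, hc] at h4
        exact h4
    have hst' : ∀ c : C, u • c ∈ Δ.Pan i y → c ∈ Δ.Pan i y := by
      intro c hc
      have h3 : Δ.Pan i (z : C) = Δ.Pan i y := Δ.Pan_eq_of_mem z.2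
      rw [← h3] at hc ⊢
      rcases hc with hc | hc
      · refine Or.inl (smul_left_cancel u ?_)
        rw [hc, S.fix _ u hu]
      · refine Or.inr ?_
        have h4 := S.iso u z c
        rw [S.fix _ u hu, hc] at h4
        exact h4.symm
    refine ⟨act u fun c => ⟨hst' c, hst c⟩, ⟨u, hu, fun c => rfl⟩, Subtype.ext hua⟩
  free z a ha u hu h := by
    obtain ⟨v, hv, h1⟩ := hu
    have h2 : Δ.δ (z : C) a = cs.simple i := Δ.δ_eq_of_mem_Pan z.2 a.2 fun h => ha (Subtype.ext h.symm)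
    have h3 : v • (a : C) = a := by rw [← h1, h]
    have h4 := S.pan z a i h2 v hv h3
    ext c
    rw [h1]
    refine h4 c ?_
    rw [Δ.Pan_eq_of_mem z.2]
    exact c.2
  conj y' z u hu g hg := by
    obtain ⟨v, hv, h1⟩ := hu
    obtain ⟨w, hw, h2⟩ := hg
    refine ⟨v * w * v⁻¹, ?_, fun c => ?_⟩
    · rw [h1]
      exact S.conj_mem_U hw v
    · have h3 : ((u⁻¹ : Equiv.Perm _) c : C) = v⁻¹ • (c : C) := by
        have h4 : u (u⁻¹ c) = c := u.apply_symm_apply c
        rw [eq_inv_smul_iff, ← h1, h4]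
      rw [Equiv.Perm.mul_apply, Equiv.Perm.mul_apply, h1, h2, h3, ← mul_smul, ← mul_smul, mul_assoc]

/-! ### Two commuting nodes -/

section Pair

variable {i j : I} (hij : i ≠ j) (hc : cs.simple i * cs.simple j = cs.simple j * cs.simple i)

include hij in
theorem len_two : cs.length (cs.simple i * cs.simple j) = cs.length (cs.simple i) + cs.length (cs.simple j) := by
  have h1 := cs.length_mul_simple (cs.simple i) j
  rw [cs.length_simple, cs.length_simple]
  rw [cs.length_simple] at h1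
  rcases h1 with h1 | h1
  · exact h1
  · exfalso
    have h2 : cs.length (cs.simple i * cs.simple j) = 0 := by omega
    have h3 := cs.length_eq_zero_iff.1 h2
    have h4 : cs.simple i = cs.simple j := by
      rw [mul_eq_one_iff_eq_inv, cs.inv_simple] at h3
      exact h3
    exact hij (F.inj h4)

include hc in
theorem mem_WJ_pair {w : W} (hw : w ∈ WJ cs ({i, j} : Set I)) :
    w = 1 ∨ w = cs.simple i ∨ w = cs.simple j ∨ w = cs.simple i * cs.simple j := by
  unfold WJ at hw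
  have hi := cs.simple_mul_simple_self i
  have hj := cs.simple_mul_simple_self j
  have hi' : ∀ w, cs.simple i * (cs.simple i * w) = w := fun w => by rw [← mul_assoc, hi, one_mul]
  have hj' : ∀ w, cs.simple j * (cs.simple j * w) = w := fun w => by rw [← mul_assoc, hj, one_mul]
  refine Subgroup.closure_induction_left (p := fun w _ => w = 1 ∨ w = cs.simple i ∨ w = cs.simple j ∨
    w = cs.simple i * cs.simple j) (Or.inl rfl) ?_ ?_ hw
  · rintro x ⟨k, hk, rfl⟩ w _ h
    rcases hk with rfl | hk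
    · rcases h with rfl | rfl | rfl | rfl
      · rw [mul_one]; exact Or.inr (Or.inl rfl)
      · exact Or.inl hi
      · exact Or.inr (Or.inr (Or.inr rfl))
      · exact Or.inr (Or.inr (Or.inl (hi' _)))
    · rw [Set.mem_singleton_iff] at hk
      subst hk
      rcases h with rfl | rfl | rfl | rfl
      · rw [mul_one]; exact Or.inr (Or.inr (Or.inl rfl))
      · exact Or.inr (Or.inr (Or.inr hc.symm))
      · exact Or.inl hj
      · refine Or.inr (Or.inl ?_)
        rw [hc, hj']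
  · rintro x ⟨k, hk, rfl⟩ w _ h
    rw [cs.inv_simple]
    rcases hk with rfl | hk
    · rcases h with rfl | rfl | rfl | rfl
      · rw [mul_one]; exact Or.inr (Or.inl rfl)
      · exact Or.inl hi
      · exact Or.inr (Or.inr (Or.inr rfl))
      · exact Or.inr (Or.inr (Or.inl (hi' _)))
    · rw [Set.mem_singleton_iff] at hk
      subst hk
      rcases h with rfl | rfl | rfl | rfl
      · rw [mul_one]; exact Or.inr (Or.inr (Or.inl rfl))
      · exact Or.inr (Or.inr (Or.inr hc.symm))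
      · exact Or.inl hj
      · refine Or.inr (Or.inl ?_)
        rw [hc, hj']

include hij hc in
/-- the projection onto the panel of type `i` -/
theorem exists_pr {y c : C} (hcy : c ∈ Δ.Res {i, j} y) : ∃ d ∈ Δ.Pan i y, c ∈ Δ.Pan j d := by
  rcases mem_WJ_pair hc hcy with h | h | h | h
  · have h1 := Δ.eq_of_δ_eq_one h
    exact ⟨y, Δ.self_mem_Pan i y, by rw [← h1]; exact Δ.self_mem_Pan j y⟩
  · exact ⟨c, Or.inr h, Δ.self_mem_Pan j c⟩
  · exact ⟨y, Δ.self_mem_Pan i y, Or.inr h⟩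
  · obtain ⟨d, h1, h2⟩ := Δ.exists_between h (len_two hij)
    exact ⟨d, Or.inr h1, Or.inr h2⟩

include hij in
theorem pr_unique {y c d d' : C} (h1 : d ∈ Δ.Pan i y) (h2 : c ∈ Δ.Pan j d) (h1' : d' ∈ Δ.Pan i y)
    (h2' : c ∈ Δ.Pan j d') : d = d' := by
  have h3 : d' ∈ Δ.Pan j d := Δ.mem_Pan_trans h2 (Δ.mem_Pan_symm h2')
  have h4 : d' ∈ Δ.Pan i d := by rw [Δ.Pan_eq_of_mem h1]; exact h1'
  rcases h3 with h3 | h3
  · exact h3.symm
  · rcases h4 with h4 | h4
    · exact h4.symm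
    · exact absurd (F.inj (h4.symm.trans h3)) hij

include S hij hc in
/-- **Separation of the root groups.** -/
theorem sep {z : C} {u : G} (hu : u ∈ S.U z) :
    ∃ u' ∈ S.U z, (∀ c ∈ Δ.Pan i z, u' • c = u • c) ∧ ∀ c ∈ Δ.Pan j z, u' • c = c := by
  obtain ⟨d, hd⟩ := Δ.exists_δ z (cs.simple i)
  obtain ⟨q, hq⟩ := Δ.exists_δ d (cs.simple j)
  have hzq : Δ.δ z q = cs.simple i * cs.simple j := Δ.δ_mul_of hd hq (len_two hij)
  obtain ⟨e, he, heq⟩ := Δ.exists_between (hzq.trans hc) (len_two hij.symm)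
  -- the image of `d`
  have hd' : Δ.δ z (u • d) = cs.simple i := by
    rw [← S.δ_smul (x := z) (y := d) hu] at hd
    exact hd
  have hed' : Δ.δ e (u • d) = cs.simple j * cs.simple i :=
    Δ.δ_mul_of (by rw [Δ.symm z e, he, cs.inv_simple]) hd' (len_two hij.symm)
  obtain ⟨q', hq1, hq2⟩ := Δ.exists_between (hed'.trans hc.symm) (len_two hij)
  have hq2' : Δ.δ (u • d) q' = cs.simple j := by rw [Δ.symm q' _, hq2, cs.inv_simple]
  have hzq' : Δ.δ z q' = cs.simple i * cs.simple j := Δ.δ_mul_of hd' hq2' (len_two hij)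
  obtain ⟨u', hu', huq⟩ := S.exists_move (hzq.trans hzq'.symm)
  have h1 : u' • d = u • d := by
    have h2 : Δ.δ z (u' • d) = cs.simple i := by rw [S.δ_smul hu', hd]
    have h3 : Δ.δ (u' • d) q' = cs.simple j := by rw [← huq, S.iso, hq]
    exact pr_unique (Δ := Δ) hij (y := z) (c := q') (Or.inr h2) (Or.inr h3) (Or.inr hd') (Or.inr hq2')
  have h2 : u' • e = e := by
    have h3 : Δ.δ z (u' • e) = cs.simple j := by rw [S.δ_smul hu', he]
    have h4 : Δ.δ (u' • e) q' = cs.simple i := by rw [← huq, S.iso, heq]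
    exact pr_unique (Δ := Δ) hij.symm (y := z) (c := q') (Or.inr h3) (Or.inr h4) (Or.inr he) (Or.inr hq1)
  refine ⟨u', hu', fun c hcz => ?_, S.pan z e j he u' hu' h2⟩
  have h3 : u⁻¹ * u' ∈ S.U z := mul_mem (inv_mem hu) hu'
  have h4 : (u⁻¹ * u') • d = d := by rw [mul_smul, h1, inv_smul_smul]
  have h5 := S.pan z d i hd _ h3 h4 c hcz
  rw [mul_smul, inv_smul_eq_iff] at h5
  exact h5

/-! ### The action on the panels of type `j` of a residue -/

/-- Permutations of the residue preserving the panels of type `j`. -/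
def TJ (Δ : Bldg cs C) (j : I) (V : Set C) : Subgroup (Equiv.Perm V) where
  carrier := {z | ∀ c d : V, (z d : C) ∈ Δ.Pan j (z c : C) ↔ (d : C) ∈ Δ.Pan j c}
  one_mem' := fun c d => Iff.rfl
  mul_mem' := fun {a b} ha hb c d => (ha (b c) (b d)).trans (hb c d)
  inv_mem' := fun {a} ha c d => by
    have h := ha (a⁻¹ c) (a⁻¹ d)
    have h1 : ∀ c, a (a⁻¹ c) = c := a.apply_symm_apply
    rw [h1, h1] at h
    exact h.symm

theorem mem_TJ {V : Set C} {z : Equiv.Perm V} :
    z ∈ TJ Δ j V ↔ ∀ c d : V, (z d : C) ∈ Δ.Pan j (z c : C) ↔ (d : C) ∈ Δ.Pan j c := Iff.rfl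

/-- the projection of the residue to the panel of type `i` -/
noncomputable def pr (hij : i ≠ j) (hc : cs.simple i * cs.simple j = cs.simple j * cs.simple i) (y : C)
    (c : Δ.Res {i, j} y) : Δ.Pan i y :=
  ⟨(exists_pr hij hc c.2).choose, (exists_pr hij hc c.2).choose_spec.1⟩

theorem pr_spec (y : C) (c : Δ.Res {i, j} y) : (c : C) ∈ Δ.Pan j (pr hij hc y c : C) :=
  (exists_pr hij hc c.2).choose_spec.2

theorem pr_eq {y : C} {c : Δ.Res {i, j} y} {d : Δ.Pan i y} (h : (c : C) ∈ Δ.Pan j (d : C)) : pr hij hc y c = d :=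
  Subtype.ext (pr_unique hij (pr hij hc y c).2 (pr_spec hij hc y c) d.2 h)

/-- the inclusion of the panel -/
def inc (y : C) (d : Δ.Pan i y) : Δ.Res {i, j} y := ⟨d, Δ.Pan_subset_Res (by simp) y d.2⟩

theorem pr_inc (y : C) (d : Δ.Pan i y) : pr hij hc y (inc (j := j) y d) = d :=
  pr_eq hij hc (Δ.self_mem_Pan j _)

/-- The action on the panels of type `j`. -/
noncomputable def bar (hij : i ≠ j) (hc : cs.simple i * cs.simple j = cs.simple j * cs.simple i) (y : C) :
    TJ Δ j (Δ.Res {i, j} y) →* Equiv.Perm (Δ.Pan i y) := by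
  have key : ∀ z w : TJ Δ j (Δ.Res {i, j} y), ∀ d : Δ.Pan i y,
      pr hij hc y (z.1 (inc y (pr hij hc y (w.1 (inc y d))))) = pr hij hc y ((z.1 * w.1) (inc y d)) := by
    intro z w d
    apply pr_eq
    have h1 := pr_spec hij hc y ((z.1 * w.1) (inc y d))
    have h2 := pr_spec hij hc y (w.1 (inc y d))
    have h3 := (z.2 (inc y (pr hij hc y (w.1 (inc y d)))) (w.1 (inc y d))).2 h2
    exact Δ.mem_Pan_trans h1 (Δ.mem_Pan_symm h3)
  exact MonoidHom.mk' (fun z =>
    { toFun := fun d => pr hij hc y (z.1 (inc y d))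
      invFun := fun d => pr hij hc y ((z⁻¹).1 (inc y d))
      left_inv := fun d => by
        refine (key z⁻¹ z d).trans ?_
        have : ((z⁻¹).1 * z.1) = 1 := by simp
        rw [this]
        exact pr_inc hij hc y d
      right_inv := fun d => by
        refine (key z z⁻¹ d).trans ?_
        have : (z.1 * (z⁻¹).1) = 1 := by simp
        rw [this]
        exact pr_inc hij hc y d }) (fun z w => by
      ext d
      exact congrArg Subtype.val (key z w d).symm)

theorem bar_apply (y : C) (z : TJ Δ j (Δ.Res {i, j} y)) (d : Δ.Pan i y) :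
    bar hij hc y z d = pr hij hc y (z.1 (inc y d)) := rfl

/-- permutations induced by `G` preserve the panels of all types -/
theorem act_mem_TJ {V : Set C} {m : Equiv.Perm V} (hm : m ∈ ActG G V) (hiso : ∀ (g : G) x y, Δ.δ (g • x) (g • y) = Δ.δ x y)
    (k : I) : m ∈ TJ Δ k V := by
  obtain ⟨l, hl⟩ := hm
  intro c d
  rw [hl, hl, mem_Pan, mem_Pan, hiso]
  exact or_congr (MulAction.injective l).eq_iff Iff.rfl

end Pair

/-! ### The permutation `f` interchanges the types -/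

theorem mem_TJ_of_forward [Finite C] {V : Set C} {k : I} {z : Equiv.Perm V}
    (h : ∀ c d : V, (d : C) ∈ Δ.Pan k (c : C) → (z d : C) ∈ Δ.Pan k (z c : C)) : z ∈ TJ Δ k V := by
  have h1 : ∀ n : ℕ, ∀ c d : V, (d : C) ∈ Δ.Pan k (c : C) → ((z ^ n) d : C) ∈ Δ.Pan k ((z ^ n) c : C) := by
    intro n
    induction n with
    | zero => intro c d hd; simpa using hd
    | succ n ih =>
      intro c d hd
      rw [pow_succ', Equiv.Perm.mul_apply, Equiv.Perm.mul_apply]
      exact h _ _ (ih c d hd)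
  intro c d
  refine ⟨fun hd => ?_, h c d⟩
  have ho : 0 < orderOf z := orderOf_pos z
  have h2 := h1 (orderOf z - 1) _ _ hd
  have h3 : z ^ (orderOf z - 1) = z⁻¹ := by
    rw [eq_inv_iff_mul_eq_one, ← pow_succ, Nat.sub_add_cancel ho, pow_orderOf_eq_one]
  rw [h3] at h2
  have h4 : ∀ c, z⁻¹ (z c) = c := z.symm_apply_apply
  rwa [h4, h4] at h2

section Swap

variable {i j : I} (hij : i ≠ j) (hc : cs.simple i * cs.simple j = cs.simple j * cs.simple i)
  (hwi : w0 cs * cs.simple i * w0 cs = cs.simple j) (hwj : w0 cs * cs.simple j * w0 cs = cs.simple i)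

theorem b_eq {b : W} {φ : W ≃* W} {σ : I → I} (hA : Ad cs φ σ Set.univ {i, j} {i, j} b) :
    b = wJ cs ({i, j} : Set I) * w0 cs := by
  have h1 : w0 cs = wJ cs (Set.univ : Set I) := rfl
  rw [h1, ← hA.long', ← mul_assoc, F.wJ_mul_self, one_mul]

include hc in
theorem wJ_comm : wJ cs ({i, j} : Set I) * cs.simple j = cs.simple j * wJ cs ({i, j} : Set I) ∧
    wJ cs ({i, j} : Set I) * cs.simple i = cs.simple i * wJ cs ({i, j} : Set I) := by
  rcases mem_WJ_pair hc (F.wJ_mem ({i, j} : Set I)) with h | h | h | h <;> rw [h]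
  · exact ⟨by rw [one_mul, mul_one], by rw [one_mul, mul_one]⟩
  · exact ⟨hc, rfl⟩
  · exact ⟨rfl, hc.symm⟩
  · constructor
    · rw [mul_assoc, cs.simple_mul_simple_self, mul_one, hc, ← mul_assoc, cs.simple_mul_simple_self, one_mul]
    · rw [mul_assoc, ← hc, ← mul_assoc]

include hc hwi in
theorem b_mul {b : W} {φ : W ≃* W} {σ : I → I} (hA : Ad cs φ σ Set.univ {i, j} {i, j} b) :
    b * cs.simple i = cs.simple j * b := by
  have h1 : w0 cs * cs.simple i = cs.simple j * w0 cs := by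
    calc w0 cs * cs.simple i = (w0 cs * cs.simple i * w0 cs) * w0 cs := by
          rw [mul_assoc _ (w0 cs), F.w0_mul_self, mul_one]
      _ = _ := by rw [hwi]
  calc b * cs.simple i = wJ cs ({i, j} : Set I) * (w0 cs * cs.simple i) := by rw [b_eq hA, mul_assoc]
    _ = wJ cs ({i, j} : Set I) * cs.simple j * w0 cs := by rw [h1, mul_assoc]
    _ = cs.simple j * b := by rw [(wJ_comm hc).1, mul_assoc, b_eq hA]

include hc hwj in
theorem b_mul' {b : W} {φ : W ≃* W} {σ : I → I} (hA : Ad cs φ σ Set.univ {i, j} {i, j} b) :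
    b * cs.simple j = cs.simple i * b := by
  have h1 : w0 cs * cs.simple j = cs.simple i * w0 cs := by
    calc w0 cs * cs.simple j = (w0 cs * cs.simple j * w0 cs) * w0 cs := by
          rw [mul_assoc _ (w0 cs), F.w0_mul_self, mul_one]
      _ = _ := by rw [hwj]
  calc b * cs.simple j = wJ cs ({i, j} : Set I) * (w0 cs * cs.simple j) := by rw [b_eq hA, mul_assoc]
    _ = wJ cs ({i, j} : Set I) * cs.simple i * w0 cs := by rw [h1, mul_assoc]
    _ = cs.simple i * b := by rw [(wJ_comm hc).2, mul_assoc, b_eq hA]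

/-- `f` maps panels of type `k` to panels of type `l` if `b s_k = s_l b` -/
theorem f_swap (hσ : ∀ i, t.σ i = i) {K : Set I} {b : W} {y : C} (hA : Ad cs t.φ t.σ Set.univ K K b)
    (hy : OppV t b K y) [Finite C] {k l : I} (hk : k ∈ K) (hl : l ∈ K) (hb : b * cs.simple k = cs.simple l * b)
    {c d : Δ.Res K y} (h : (d : C) ∈ Δ.Pan k (c : C)) :
    (f hA hy d : C) ∈ Δ.Pan l (f hA hy c : C) := by
  rcases h with h | h
  · rw [Subtype.ext h]
    exact Δ.self_mem_Pan l _
  have h1 : Δ.δ (f hA hy c : C) (t.θ c) = b := f_spec hA hy c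
  have h2 : Δ.δ (t.θ (c : C)) (t.θ d) = cs.simple k := by rw [t.δ_θ, h, φ_eq hσ]
  have h3 : Δ.δ (f hA hy c : C) (t.θ d) = b * cs.simple k :=
    Δ.δ_mul_of h1 h2 (hA.par.minR (cs.simple k) (simple_mem_WJ cs hk))
  rw [hb] at h3
  have hlen : cs.length (cs.simple l * b) = cs.length (cs.simple l) + cs.length b :=
    hA.par.minL (cs.simple l) (simple_mem_WJ cs hl)
  obtain ⟨e, he1, he2⟩ := Δ.exists_between h3 hlen
  have heV : e ∈ Δ.Res K y :=
    Δ.mem_Res_trans (f hA hy c).2 (Δ.Pan_subset_Res hl _ (Or.inr he1))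
  have h4 := f_eq hA hy (c := d) (e := ⟨e, heV⟩) he2
  rw [h4]
  exact Or.inr he1

/-- permutations of the panel induced by elements preserving all panels of type `i` of the residue -/
def N1 (G : Type*) [Group G] [MulAction G C] (hiso : ∀ (g : G) x y, Δ.δ (g • x) (g • y) = Δ.δ x y) (i j : I) (y : C) :
    Subgroup (Equiv.Perm (Δ.Pan i y)) where
  carrier := {m | ∃ l : G, (∀ c ∈ Δ.Res {i, j} y, l • c ∈ Δ.Pan i c) ∧ ∀ d : Δ.Pan i y, (m d : C) = l • (d : C)}
  one_mem' := ⟨1, fun c _ => by rw [one_smul]; exact Δ.self_mem_Pan i c, fun d => by rw [one_smul]; rfl⟩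
  mul_mem' := fun {a b} ha hb => by
    obtain ⟨u, hu, ha⟩ := ha
    obtain ⟨v, hv, hb⟩ := hb
    refine ⟨u * v, fun c hc => ?_, fun z => ?_⟩
    · rw [mul_smul]
      have h1 := hv c hc
      have h2 := hu (v • c) (Δ.mem_Res_trans hc (Δ.Pan_subset_Res (by simp) _ h1))
      rwa [Δ.Pan_eq_of_mem h1] at h2
    · rw [Equiv.Perm.mul_apply, ha, hb, mul_smul]
  inv_mem' := fun {a} ha => by
    obtain ⟨u, hu, ha⟩ := ha
    refine ⟨u⁻¹, fun c hc => ?_, fun z => ?_⟩
    · rcases hu c hc with h | h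
      · left
        rw [inv_smul_eq_iff, h]
      · right
        have h1 := hiso u (u⁻¹ • c) c
        rw [smul_inv_smul, h] at h1
        rw [Δ.symm (u⁻¹ • c) c, ← h1, cs.inv_simple]
    · have h1 : a (a⁻¹ z) = z := a.apply_symm_apply z
      rw [eq_inv_smul_iff, ← ha, h1]

include S hij hc in
theorem fam_le_N1 {y : C} (z : Δ.Pan i y) : S.fam i y z ≤ N1 G S.iso i j y := by
  rintro m ⟨u, hu, hm⟩
  obtain ⟨u', hu', h1, h2⟩ := sep S hij hc hu
  have hPz : Δ.Pan i (z : C) = Δ.Pan i y := Δ.Pan_eq_of_mem z.2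
  refine ⟨u', fun c hcV => ?_, fun d => by rw [hm, h1 d (by rw [hPz]; exact d.2)]⟩
  have hcz : c ∈ Δ.Res {j, i} (z : C) := by
    rw [Set.pair_comm]
    exact Δ.mem_Res_trans (Δ.mem_Res_symm (Δ.Pan_subset_Res (by simp) y z.2)) hcV
  obtain ⟨c0, hc0, hcc0⟩ := exists_pr hij.symm hc.symm hcz
  have h3 : u' • c ∈ Δ.Pan i (u' • c0) := by
    rcases hcc0 with rfl | h
    · exact Δ.self_mem_Pan i _
    · exact Or.inr (by rw [S.iso, h])
  rw [h2 c0 hc0] at h3
  rwa [Δ.Pan_eq_of_mem hcc0]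

/-- such elements stabilise the residue -/
theorem stab_V (hiso : ∀ (g : G) x y, Δ.δ (g • x) (g • y) = Δ.δ x y) {y : C} {l : G}
    (hl : ∀ c ∈ Δ.Res {i, j} y, l • c ∈ Δ.Pan i c) (c : C) : l • c ∈ Δ.Res {i, j} y ↔ c ∈ Δ.Res {i, j} y := by
  have h0 : ∀ c ∈ Δ.Res {i, j} y, l • c ∈ Δ.Res {i, j} y := fun c hc =>
    Δ.mem_Res_trans hc (Δ.Pan_subset_Res (by simp) _ (hl c hc))
  refine ⟨fun h => ?_, h0 c⟩
  have h1 := h0 y (Δ.self_mem_Res _ y)
  have h2 := Δ.δ_mem_of_mem_Res h1 h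
  rw [hiso] at h2
  exact h2

include S hij hc hwi hwj in
/-- **Two commuting nodes interchanged by the opposition.** -/
theorem swap_false [Finite I] [Finite G] [Finite C] [hC : Nonempty C] [hp : Fact p.Prime] (hth : Δ.Thick)
    (hσ : ∀ i, t.σ i = i) (hell : Elliptic t) {r : ℕ} [hr : Fact r.Prime] (hr2 : r ≠ 2) (hrp : r ≠ p)
    (hP : ∀ g : G, PE r (t.θ * MulAction.toPerm g * t.θ * (MulAction.toPerm g)⁻¹ : Equiv.Perm C)) : False := by
  classical
  obtain ⟨y, hy⟩ := exists_delta' S hth hσ hell (full_w0 (cs := cs))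
  obtain ⟨b, hA⟩ := exists_ad_self (cs := cs) (φ := t.φ) (σ := t.σ) t.φ_simple hσ (K := {i, j}) (by
    rintro k (rfl | hk)
    · exact ⟨j, by simp, hwi⟩
    · rw [Set.mem_singleton_iff] at hk
      subst hk
      exact ⟨i, by simp, hwj⟩)
  have hV := opp_OppV hA hy
  obtain ⟨ff, hff⟩ : ∃ ff, ff = f hA hV := ⟨_, rfl⟩
  have hi : i ∈ ({i, j} : Set I) := by simp
  have hj : j ∈ ({i, j} : Set I) := by simp
  have hf1 : ∀ c d : Δ.Res {i, j} y, (d : C) ∈ Δ.Pan i (c : C) → (ff d : C) ∈ Δ.Pan j (ff c : C) := by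
    intro c d h
    rw [hff]
    exact f_swap hσ hA hV hi hj (b_mul hc hwi hA) h
  have hf2 : ∀ c d : Δ.Res {i, j} y, (d : C) ∈ Δ.Pan j (c : C) → (ff d : C) ∈ Δ.Pan i (ff c : C) := by
    intro c d h
    rw [hff]
    exact f_swap hσ hA hV hj hi (b_mul' hc hwj hA) h
  have hconj : ∀ m ∈ ActG G (Δ.Res {i, j} y), ff * m * ff⁻¹ ∈ ActG G (Δ.Res {i, j} y) := by
    intro m hm
    rw [hff]
    exact conj_act S hth hA hV hm
  have hmul : ∀ m ∈ ActG G (Δ.Res {i, j} y), PE r (ff * (m * ff * m⁻¹)) := by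
    intro m hm
    rw [hff]
    exact mul_act S hth hA hV hm hP
  have hTJ : ff * ff ∈ TJ Δ j (Δ.Res {i, j} y) := mem_TJ_of_forward fun c d h => hf1 _ _ (hf2 _ _ h)
  set g0 := bar hij hc y ⟨ff * ff, hTJ⟩ with hg0
  -- lifts
  have hlift : ∀ m ∈ N1 G S.iso i j y, ∃ lV : Equiv.Perm (Δ.Res {i, j} y), ∃ hlA : lV ∈ ActG G (Δ.Res {i, j} y),
      (∀ c : Δ.Res {i, j} y, (lV c : C) ∈ Δ.Pan i (c : C)) ∧ bar hij hc y ⟨lV, act_mem_TJ hlA S.iso j⟩ = m := by
    rintro m ⟨l, hl, hm⟩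
    have hlA : act l (stab_V S.iso hl) ∈ ActG G (Δ.Res {i, j} y) := ⟨l, fun c => act_apply _ c⟩
    refine ⟨act l (stab_V S.iso hl), hlA, fun c => by rw [act_apply]; exact hl c c.2, ?_⟩
    ext d
    rw [bar_apply]
    have h1 : pr hij hc y (act l (stab_V S.iso hl) (inc y d)) = m d := by
      apply pr_eq
      rw [act_apply, hm]
      exact Δ.self_mem_Pan j _
    exact congrArg Subtype.val h1
  -- conjugates by `ff`
  have hbar1 : ∀ lV : Equiv.Perm (Δ.Res {i, j} y), ∀ hlA : lV ∈ ActG G (Δ.Res {i, j} y),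
      (∀ c : Δ.Res {i, j} y, (lV c : C) ∈ Δ.Pan i (c : C)) →
      bar hij hc y ⟨ff * lV * ff⁻¹, act_mem_TJ (hconj lV hlA) S.iso j⟩ = 1 := by
    intro lV hlA h
    ext d
    rw [bar_apply]
    have h1 : pr hij hc y ((ff * lV * ff⁻¹) (inc y d)) = d := by
      apply pr_eq
      rw [Equiv.Perm.mul_apply, Equiv.Perm.mul_apply]
      have h2 := hf1 _ _ (h (ff⁻¹ (inc y d)))
      have h3 : ff (ff⁻¹ (inc y d)) = inc y d := ff.apply_symm_apply _
      rw [h3] at h2
      exact h2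
    exact congrArg Subtype.val h1
  obtain ⟨n, hn⟩ := S.card_Pan y i
  have hcardeq := S.card_Pan_eq hth y i
  have h3 : 3 ≤ Nat.card (Δ.Pan i y) := by
    rw [hn]
    rcases Nat.eq_zero_or_pos n with rfl | hpos
    · exfalso
      rw [hn, pow_zero] at hcardeq
      have h1 : ((1 : ℕ) : ZMod p) = 0 := by
        have h2 : ((1 + 1 : ℕ) : ZMod p) = 1 := hcardeq
        rw [Nat.cast_add, Nat.cast_one] at h2
        rw [Nat.cast_one]
        exact add_eq_left.1 h2
      have h2 := (ZMod.natCast_eq_zero_iff 1 p).1 h1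
      exact hp.out.one_lt.ne' (Nat.dvd_one.1 h2)
    · have h1 : 2 ≤ p ^ n := by
        calc 2 ≤ p := hp.out.two_le
          _ ≤ p ^ n := Nat.le_self_pow hpos.ne' p
      omega
  refine coset_false (reg_fam S i y) h3 hr2 (r := r) ?_ (g0 := g0) ?_ ?_
  · rw [hn, Nat.add_sub_cancel]
    intro h
    exact hrp ((Nat.prime_dvd_prime_iff_eq hr.out hp.out).1 (hr.out.dvd_of_dvd_pow h))
  · -- `g0` normalises the family
    intro z g hg
    obtain ⟨lV, hlA, hl, hlm⟩ := hlift g (fam_le_N1 S hij hc z hg)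
    have hwA : ff * (ff * lV * ff⁻¹) * ff⁻¹ ∈ ActG G (Δ.Res {i, j} y) := hconj _ (hconj _ hlA)
    set w := ff * (ff * lV * ff⁻¹) * ff⁻¹ with hw
    have hwi' : ∀ c : Δ.Res {i, j} y, (w c : C) ∈ Δ.Pan i (c : C) := by
      intro c
      have h1 := hf2 _ _ (hf1 _ _ (hl (ff⁻¹ (ff⁻¹ c))))
      have h2 : ∀ c, ff (ff⁻¹ c) = c := ff.apply_symm_apply
      rw [h2, h2] at h1
      exact h1
    have hbarw : bar hij hc y ⟨w, act_mem_TJ hwA S.iso j⟩ = g0 * g * g0⁻¹ := by
      rw [← hlm, hg0, ← map_inv, ← map_mul, ← map_mul]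
      congr 1
    obtain ⟨k, hk⟩ := hwA
    have hact : ∀ d : Δ.Pan i y, ((g0 * g * g0⁻¹) d : C) = k • (d : C) := by
      intro d
      rw [← hbarw, bar_apply]
      have h1 : (w (inc y d) : C) ∈ Δ.Pan i y := Δ.mem_Pan_trans d.2 (hwi' (inc y d))
      have h2 : pr hij hc y (w (inc y d)) = ⟨w (inc y d), h1⟩ := pr_eq hij hc (Δ.self_mem_Pan j _)
      rw [h2]
      exact hk (inc y d)
    obtain ⟨u, hu, hgu⟩ := hg
    obtain ⟨N, hN⟩ := (S.isP z) ⟨u, hu⟩
    have hN' : u ^ p ^ N = 1 := by simpa using congrArg Subtype.val hN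
    have hgN : g ^ p ^ N = 1 := by
      ext c
      rw [pow_smul_eq hgu, hN', one_smul]
      rfl
    have hwN : (g0 * g * g0⁻¹) ^ p ^ N = 1 := by
      rw [conj_pow, hgN, mul_one, mul_inv_cancel]
    have hgz : g z = z := Subtype.ext (by rw [hgu, S.fix z u hu])
    have hwz : (g0 * g * g0⁻¹) (g0 z) = g0 z := by
      rw [Equiv.Perm.mul_apply, Equiv.Perm.mul_apply]
      have : g0⁻¹ (g0 z) = z := g0.symm_apply_apply z
      rw [this, hgz]
    obtain ⟨v, hv, h⟩ := exists_U_of_pElem S hact hwz hwN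
    exact ⟨v, hv, h⟩
  · -- the coset consists of `r`-elements
    intro m hm
    have hm' : m⁻¹ ∈ N1 G S.iso i j y := inv_mem ((iSup_le fun z => fam_le_N1 S hij hc z) hm)
    obtain ⟨lV, hlA, hl, hlm⟩ := hlift _ hm'
    have h1 := hmul lV hlA
    have hzT : ff * (lV * ff * lV⁻¹) ∈ TJ Δ j (Δ.Res {i, j} y) := by
      have e : ff * (lV * ff * lV⁻¹) = (ff * lV * ff⁻¹) * (ff * ff) * lV⁻¹ := by group
      rw [e]
      exact mul_mem (mul_mem (act_mem_TJ (hconj lV hlA) S.iso j) hTJ) (inv_mem (act_mem_TJ hlA S.iso j))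
    have h2 : PE r (⟨ff * (lV * ff * lV⁻¹), hzT⟩ : TJ Δ j (Δ.Res {i, j} y)) := PE.coe.1 h1
    have h4 := h2.map (bar hij hc y)
    have e : (⟨ff * (lV * ff * lV⁻¹), hzT⟩ : TJ Δ j (Δ.Res {i, j} y)) =
        ⟨ff * lV * ff⁻¹, act_mem_TJ (hconj lV hlA) S.iso j⟩ * ⟨ff * ff, hTJ⟩ *
          (⟨lV, act_mem_TJ hlA S.iso j⟩ : TJ Δ j (Δ.Res {i, j} y))⁻¹ := by
      apply Subtype.ext
      change ff * (lV * ff * lV⁻¹) = (ff * lV * ff⁻¹) * (ff * ff) * lV⁻¹
      group
    rw [e, map_mul, map_mul, map_inv, hbar1 lV hlA hl, one_mul, hlm, inv_inv] at h4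
    exact h4

end Swap

end Cfsg.Agent.H460.EllS
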