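import Cfsg.Agent.H460.PanL
import Cfsg.Agent.H460.EllS
import Cfsg.Agent.FixOdd.TwOf
import Cfsg.Agent.OddHalf.Table.AutRGD
import Cfsg.Agent.H459.NonEll
import Cfsg.Agent.H491.AA.Cox
import Cfsg.Agent.H234.AAW0

/-!
# The engine for groups with a typed root group datum (helper460)

* `Eng ℓ K M Q` : split (B, N)-pair with a Coxeter system and typed nodes; `exists_eng`;
* `exists_t` : the action `t` of an automorphism; `pe_theta` : the condition on `θ`;
* `ell_false` : no elliptic type preserving automorphism of odd prime order `r ≠ ℓ` satisfies `PA`, except for `A₂`.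
-/

set_option autoImplicit false
set_option linter.unusedSectionVars false

namespace Cfsg.Agent.H460.Engine

open Cfsg Cfsg.Agent.LieExceptional.BNPairCore Cfsg.Agent.Tits.Core Cfsg.Agent.Tits.Core.Bldg Cfsg.Agent.Tits.OfBN
  Cfsg.Agent.Schreier.BNSch Cfsg.Agent.Tits.OppRes Cfsg.Agent.FixBN.OfBN
open Cfsg.Agent.FixBN (Sys Split)
open Cfsg.Agent.FixOdd (Tw)
open Cfsg.Agent.H460.Typed Cfsg.Agent.H460.Pan Cfsg.Agent.H460.AA Cfsg.Agent.H460.EllC Cfsg.Agent.H460.PanL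
  Cfsg.Agent.H185.TypedTw Cfsg.Agent.H459.Rad

/-- Split (B, N)-pair of characteristic `ℓ` with typed nodes. -/
structure Eng (ℓ : ℕ) (K : Type*) [Group K] {l : ℕ} (M : CoxeterMatrix (Fin l)) (Q : Fin l → ℕ) where
  P : Cfsg.BNPair K
  U : Subgroup K
  S : Split P ℓ U
  hN : ((P.B ⊓ P.N).subgroupOf P.N).Normal
  e : Fin l ≃ P.S
  cs : CoxeterSystem M (WP P)
  hcs : ∀ i, cs.simple i = QuotientGroup.mk (⟨(e i : K), P.subset (e i).2⟩ : P.N)
  fin : Finite (WP P)
  sol : Group.IsSolvable P.B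
  core : P.B.normalCore = ⊥
  node : ∀ i, LNode P U (e i : K) (Q i)

attribute [instance] Eng.hN Eng.fin

section

open CoxeterSystem Cfsg.Agent.ChevalleyStructure.CoxeterGeom Cfsg.Agent.Tits.Roots
  Cfsg.Agent.Tits.RootComb Cfsg.Agent.Nodes.Comb Cfsg.Agent.Nodes.Reps Cfsg.Agent.Nodes.BNOf Cfsg.Agent.Nodes.BNOf.RGD

variable {K : Type*} [Group K] [Finite K] [IsSimpleGroup K] {ℓ : ℕ} [Fact ℓ.Prime] {l : ℕ}
  {M : CoxeterMatrix (Fin l)} {Q : Fin l → ℕ}

/-- solvability of `B` -/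
theorem sol_B {A : Fin l → Fin l → ℤ} {h : IsCartan M A} {T : Subgroup K} {n : Fin l → K}
    {X : (Fin l → ℤ) → Subgroup K} [Finite M.Group] (R : RGD M.toCoxeterSystem h ℓ T n X)
    (hgen : RGD.B M.toCoxeterSystem h T X ⊔ NN M.toCoxeterSystem R.nsys = ⊤) (hT : Group.IsSolvable T)
    (hS : Split (R.bnPair hgen) ℓ (RGD.Sup X (RGD.Pos M.toCoxeterSystem h))) :
    Group.IsSolvable (R.bnPair hgen).B := by
  have h1 : (R.bnPair hgen).B = T ⊔ RGD.Sup X (RGD.Pos M.toCoxeterSystem h) := rfl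
  have hnil : Group.IsNilpotent ↥(RGD.Sup X (RGD.Pos M.toCoxeterSystem h)) := hS.isP.isNilpotent
  rw [h1, sup_comm]
  refine Cfsg.Agent.H459.Gallery.isSolvable_sup (M := (R.bnPair hgen).B) hS.le (by rw [h1]; exact le_sup_left)
    hS.norm inferInstance hT

theorem exists_eng (h2 : 1 ≤ l) (H : HasTyped ℓ K M Q) : Nonempty (Eng ℓ K M Q) := by
  obtain ⟨A, h, T, n, X, hW, R, hgen, hT, hn⟩ := H
  have hne : (R.bnPair hgen).S.Nonempty := ⟨n ⟨0, h2⟩, ⟨0, h2⟩, rfl⟩
  have hcore := Cfsg.Agent.Tits.OfBN.normalCore_eq_bot (R.bnPair hgen) hne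
  obtain ⟨hN, cs', hcs, hWP, hS⟩ := OddHalf.Table.AutRGD.exists_setup R hgen hcore
  exact ⟨⟨R.bnPair hgen, _, hS, hN, OddHalf.Table.AutRGD.eS R hgen, cs', hcs, hWP, sol_B R hgen hT hS, hcore, hn⟩⟩

theorem exists_engF (h2 : 1 ≤ l) (H : HasFTyped ℓ K M Q) :
    ∃ E : Eng ℓ K M Q, ∀ i, FNode E.P E.U (E.e i : K) (Q i) := by
  obtain ⟨A, h, T, n, X, hW, R, hgen, hT, hn⟩ := H
  have hne : (R.bnPair hgen).S.Nonempty := ⟨n ⟨0, h2⟩, ⟨0, h2⟩, rfl⟩
  have hcore := Cfsg.Agent.Tits.OfBN.normalCore_eq_bot (R.bnPair hgen) hne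
  obtain ⟨hN, cs', hcs, hWP, hS⟩ := OddHalf.Table.AutRGD.exists_setup R hgen hcore
  exact ⟨⟨R.bnPair hgen, _, hS, hN, OddHalf.Table.AutRGD.eS R hgen, cs', hcs, hWP, sol_B R hgen hT hS, hcore,
    fun i => (hn i).lnode⟩, hn⟩

end

section

variable {K : Type*} [Group K] [Finite K] {ℓ : ℕ} [Fact ℓ.Prime] {l : ℕ} {M : CoxeterMatrix (Fin l)} {Q : Fin l → ℕ}
  (E : Eng ℓ K M Q)

/-- the building -/
noncomputable abbrev Eng.Δ : Bldg E.cs (K ⧸ E.P.B) := bldg E.P E.e E.cs E.hcs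

/-- the root groups -/
noncomputable abbrev Eng.sys : Sys E.Δ K ℓ := Cfsg.Agent.FixBN.OfBN.sys E.e E.cs E.hcs E.S

theorem Eng.th : E.Δ.Thick := thick E.P E.e E.cs E.hcs

theorem Eng.exists_t (x : MulAut K) : ∃ t : Tw E.Δ K, t.τ = x ∧ ∀ n : ℕ, x ^ n = 1 → t.θ ^ n = 1 :=
  Cfsg.Agent.FixOdd.exists_tw E.S E.e E.cs E.hcs x

/-- A permutation of the chambers commuting with `K` is trivial. -/
theorem Eng.perm_eq_one {y : Equiv.Perm (K ⧸ E.P.B)} (h : ∀ (k : K) c, y (k • c) = k • y c) : y = 1 := by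
  obtain ⟨a, ha⟩ := QuotientGroup.mk_surjective (y (QuotientGroup.mk 1))
  have h1 : ∀ b : K, y (QuotientGroup.mk b) = b • (QuotientGroup.mk a : K ⧸ E.P.B) := by
    intro b
    have e : (QuotientGroup.mk b : K ⧸ E.P.B) = b • QuotientGroup.mk 1 := by rw [smul_mk, mul_one]
    rw [e, h, ← ha]
  have h2 : a ∈ E.P.B := by
    apply Cfsg.Agent.FixBN.TwOfBN.mem_of_conj E.S
    intro b hb
    have h3 : (QuotientGroup.mk b : K ⧸ E.P.B) = QuotientGroup.mk 1 := by
      rw [mk_eq, mul_one]; exact inv_mem hb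
    have h4 : b • (QuotientGroup.mk a : K ⧸ E.P.B) = QuotientGroup.mk a := by
      rw [← h1, h3, h1, one_smul]
    exact smul_mk_eq.1 h4
  have h3 : (QuotientGroup.mk a : K ⧸ E.P.B) = QuotientGroup.mk 1 := by
    rw [mk_eq, mul_one]; exact inv_mem h2
  ext z
  obtain ⟨b, rfl⟩ := QuotientGroup.mk_surjective z
  rw [h1, h3, smul_mk, mul_one]
  rfl

/-- the powers of `θ g θ g⁻¹` -/
theorem Eng.pe_theta {x : MulAut K} {t : Tw E.Δ K} (ht : t.τ = x) {r : ℕ} [Fact r.Prime] (hP : PA r x) (g : K) :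
    PE r (t.θ * MulAction.toPerm g * t.θ * (MulAction.toPerm g)⁻¹ : Equiv.Perm (K ⧸ E.P.B)) := by
  obtain ⟨k, hk⟩ := PE.pow_eq_one_iff.1 (hP g)
  refine PE.pow_eq_one_iff.2 ⟨k, E.perm_eq_one fun a c => ?_⟩
  set y : Equiv.Perm (K ⧸ E.P.B) := t.θ * MulAction.toPerm g * t.θ * (MulAction.toPerm g)⁻¹ with hy
  set z : MulAut K := x * (MulAut.conj g * x * (MulAut.conj g)⁻¹) with hz
  have h1 : ∀ (a : K) c, y (a • c) = z a • y c := by
    intro a c
    have e1 : y (a • c) = t.θ (g • t.θ (g⁻¹ • (a • c))) := by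
      rw [hy]
      simp only [Equiv.Perm.mul_apply, MulAction.toPerm_apply]
      rfl
    have e2 : y c = t.θ (g • t.θ (g⁻¹ • c)) := by
      rw [hy]
      simp only [Equiv.Perm.mul_apply, MulAction.toPerm_apply]
      rfl
    have e3 : g⁻¹ • (a • c) = (g⁻¹ * a * g) • (g⁻¹ • c) := by
      simp only [smul_smul]
      congr 1
      group
    have e4 : ∀ c', g • (t.τ (g⁻¹ * a * g) • c') = (g * t.τ (g⁻¹ * a * g) * g⁻¹) • (g • c' : K ⧸ E.P.B) := by
      intro c'
      simp only [smul_smul]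
      congr 1
      group
    rw [e1, e2, e3, t.θ_smul (g⁻¹ * a * g), e4, t.θ_smul (g * t.τ (g⁻¹ * a * g) * g⁻¹), ht]
    rfl
  have h2 : ∀ (n : ℕ) (a : K) c, (y ^ n) (a • c) = (z ^ n) a • (y ^ n) c := by
    intro n
    induction n with
    | zero => intro a c; rfl
    | succ n ih =>
      intro a c
      rw [pow_succ', pow_succ' z, MulAut.mul_apply]
      show y ((y ^ n) (a • c)) = z ((z ^ n) a) • y ((y ^ n) c)
      rw [ih, h1]
  rw [h2, hk]
  rfl

/-- the type permutation has order dividing `r` -/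
theorem Eng.sigma_pow {t : Tw E.Δ K} {n : ℕ} (h : t.θ ^ n = 1) : t.σ ^ n = 1 := by
  have hC : Cox E.cs := inferInstance
  ext i
  have h1 : ∀ m : ℕ, ∀ x y, E.Δ.δ ((t.θ ^ m) x) ((t.θ ^ m) y) = (t.φ ^ m : MulAut (WP E.P)) (E.Δ.δ x y) := by
    intro m
    induction m with
    | zero => intro x y; rfl
    | succ m ih =>
      intro x y
      rw [pow_succ', pow_succ', Equiv.Perm.mul_apply, Equiv.Perm.mul_apply, t.δ_θ, ih]
      rfl
  have h2 : ∀ m : ℕ, (t.φ ^ m : MulAut (WP E.P)) (E.cs.simple i) = E.cs.simple ((t.σ ^ m) i) := by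
    intro m
    induction m with
    | zero => rfl
    | succ m ih =>
      rw [pow_succ', pow_succ', Equiv.Perm.mul_apply]
      show t.φ ((t.φ ^ m : MulAut (WP E.P)) (E.cs.simple i)) = _
      rw [ih, t.φ_simple]
  obtain ⟨z, hz⟩ := E.Δ.exists_δ (QuotientGroup.mk 1) (E.cs.simple i)
  have h3 := h1 n (QuotientGroup.mk 1) z
  rw [h, hz, h2] at h3
  change E.Δ.δ (QuotientGroup.mk 1) z = _ at h3
  rw [hz] at h3
  have := hC.inj h3
  rw [← this]
  rfl

/-- the type permutation preserves the Coxeter matrix -/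
theorem Eng.sigma_M (t : Tw E.Δ K) (i j : Fin l) : M (t.σ i) (t.σ j) = M i j := by
  rw [← LieRecognition.CoxForm.orderOf_eq E.cs, ← LieRecognition.CoxForm.orderOf_eq E.cs, ← t.φ_simple, ← t.φ_simple,
    ← map_mul]
  exact orderOf_injective t.φ.toMonoidHom t.φ.injective _

/-! ### The elliptic case -/

/-- a two-colouring of the diagram -/
def Bip (M : CoxeterMatrix (Fin l)) : Prop := ∃ col : Fin l → Bool, ∀ i j, i ≠ j → M i j ≠ 2 → col i ≠ col j

/-- the Coxeter element of a list -/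
theorem full_of_nodup {W : Type*} [Group W] {cs : CoxeterSystem M W} [Cox cs] {ω : List (Fin l)} (h : ω.Nodup)
    (hall : ∀ i, i ∈ ω) : Full cs (cs.wordProd ω) := by
  classical
  intro J hJ
  have hred : cs.IsReduced ω := H491.CoxSq.length_nodup cs h
  have := Cfsg.Agent.H460.OppTrace.letters_mem hred hJ
  exact Set.eq_univ_of_forall fun i => this i (hall i)

/-- a bipartite Coxeter element -/
theorem exists_coxeter_element {W : Type*} [Group W] (cs : CoxeterSystem M W) [Cox cs] (hb : Bip M)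
    (irr : ∀ J : Set (Fin l), J.Nonempty → J ≠ Set.univ → ∃ a ∈ J, ∃ b, b ∉ J ∧ M a b ≠ 2)
    (hne : ¬ ∃ i j, M i j = 3 ∧ ∀ k, k = i ∨ k = j) (h2 : 2 ≤ l) :
    ∃ w : W, Full cs w ∧ cs.length w = l ∧ cs.length (w * w) = 2 * l := by
  classical
  obtain ⟨col, hcol⟩ := hb
  set l1 := (List.finRange l).filter fun i => col i with hl1
  set l2 := (List.finRange l).filter fun i => !col i with hl2
  have m1 : ∀ i, i ∈ l1 ↔ col i = true := fun i => by simp [hl1]
  have m2 : ∀ i, i ∈ l2 ↔ col i = false := fun i => by simp [hl2]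
  have hnd : (l1 ++ l2).Nodup := by
    rw [List.nodup_append]
    refine ⟨(List.nodup_finRange l).filter _, (List.nodup_finRange l).filter _, ?_⟩
    intro a ha b hb hab
    rw [m1] at ha
    rw [m2] at hb
    rw [hab, hb] at ha
    exact absurd ha (by decide)
  have hall : ∀ i, i ∈ l1 ++ l2 := by
    intro i
    rw [List.mem_append, m1, m2]
    cases col i <;> simp
  have h3 := H491.CoxSq.length_sq cs l1 l2 hnd hall (fun i hi j hj hij => by
      by_contra h
      exact hcol i j hij h (by rw [(m1 i).1 hi, (m1 j).1 hj]))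
    (fun i hi j hj hij => by
      by_contra h
      exact hcol i j hij h (by rw [(m2 i).1 hi, (m2 j).1 hj]))
    (fun S hS hS' => by
      obtain ⟨a, ha, b, hb, h⟩ := irr S hS hS'
      exact ⟨a, ha, b, hb, h⟩) hne (by rw [Fintype.card_fin]; exact h2)
  rw [Fintype.card_fin] at h3
  refine ⟨cs.wordProd (l1 ++ l2), full_of_nodup hnd hall, ?_, ?_⟩
  · rw [H491.CoxSq.length_nodup cs hnd]
    have h4 : (l1 ++ l2).toFinset = Finset.univ := Finset.eq_univ_iff_forall.2 fun i => List.mem_toFinset.2 (hall i)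
    have h5 := List.toFinset_card_of_nodup hnd
    rw [h4, Finset.card_univ, Fintype.card_fin] at h5
    exact h5.symm
  · rw [← pow_two, h3]

variable {E} in
/-- **No elliptic automorphism.** `hPF` is the condition on the panels with a fixed chamber. -/
theorem ell_false (hb : Bip M)
    (irr : ∀ J : Set (Fin l), J.Nonempty → J ≠ Set.univ → ∃ a ∈ J, ∃ b, b ∉ J ∧ M a b ≠ 2)
    (hA : ¬ ∃ i j, M i j = 3 ∧ ∀ k, k = i ∨ k = j) (h2 : 2 ≤ l) {r : ℕ} [hr : Fact r.Prime] (hr2 : r ≠ 2)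
    (hrl : r ≠ ℓ) {x : MulAut K} (hx : x ^ r = 1) (hP : PA r x) {t : Tw E.Δ K} (ht : t.τ = x)
    (hθ : t.θ ^ r = 1) (hσ : ∀ i, t.σ i = i) (hell : Elliptic t)
    (hodd : ∀ i j, i ≠ j → (∀ k, k = i ∨ k = j) → Odd (M i j) → M i j = 3)
    (hPF : 5 ≤ r → (∀ i, r ∣ Q i + 1) → ∀ i x, PF r (E.sys.fam i x)) : False := by
  have hC : Cox E.cs := inferInstance
  have hne : Nonempty (K ⧸ E.P.B) := ⟨QuotientGroup.mk 1⟩
  obtain ⟨w, hw, hw1, hw2⟩ := exists_coxeter_element E.cs hb irr hA h2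
  by_cases h3 : r = 3
  · exact three_false E.sys E.th hσ hell (by rw [← h3]; exact hθ) hw (by rw [hw1, hw2]) (by omega)
  have h5 : 5 ≤ r := by
    have := hr.out.two_le
    have h4 : r ≠ 4 := by rintro rfl; exact absurd hr.out (by norm_num)
    omega
  have hPθ := fun g => E.pe_theta ht hP g
  have hrQ : ∀ i, ¬ r ∣ Q i := by
    -- `Q i` is a power of `ℓ`
    intro i hd
    obtain ⟨V, Nd, hF⟩ := E.node i
    obtain ⟨n, hn⟩ : ∃ n, Q i = ℓ ^ n := by
      obtain ⟨a, ha⟩ := Cfsg.Agent.H459.NonEll.index_node E.P (r := ℓ) (U := E.U) E.S.le E.S.isP E.S.cover (E.e i).2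
      rw [relIndex_eq E.S E.e (E.node i)] at ha
      exact ⟨a, by omega⟩
    rw [hn] at hd
    exact hrl ((Nat.prime_dvd_prime_iff_eq hr.out Fact.out).1 (hr.out.dvd_of_dvd_pow hd))
  rcases H234.AAW0.dich' E.cs irr with h | ⟨i, j, hij, hM, h6, h7⟩ | ⟨i, j, hij, hk, ho⟩
  · -- central opposition
    have hw0 : ∀ i, w0 E.cs * E.cs.simple i * w0 E.cs = E.cs.simple i := by
      intro i
      have := h i
      have e : (wJ E.cs Set.univ)⁻¹ = wJ E.cs Set.univ := hC.wJ_inv _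
      rw [e] at this
      exact this
    refine central_false E.sys E.th hσ hell hw0 hPθ (fun i y hc => ?_) ?_ hw ?_
    · rw [card_pan E.S E.e E.cs E.hcs (E.node i)] at hc
      exact pn_pan E.S E.e E.cs E.hcs (E.node i) hr2 (hrQ i) hc y
    · by_cases hall : ∀ i, r ∣ Q i + 1
      · exact Or.inr (hPF h5 hall)
      · push Not at hall
        obtain ⟨i, hi⟩ := hall
        exact Or.inl ⟨i, fun y => by rw [card_pan E.S E.e E.cs E.hcs (E.node i)]; exact hi⟩
    · rintro rfl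
      have h8 : w0 E.cs * w0 E.cs = 1 := hC.w0_mul_self
      rw [h8, E.cs.length_one] at hw2
      omega
  · -- two commuting nodes
    have e : (wJ E.cs Set.univ)⁻¹ = wJ E.cs Set.univ := hC.wJ_inv _
    rw [e] at h6 h7
    have hc : E.cs.simple i * E.cs.simple j = E.cs.simple j * E.cs.simple i := by
      have h8 := E.cs.simple_mul_simple_pow i j
      rw [hM, pow_two] at h8
      have h9 := E.cs.simple_mul_simple_self i
      have h10 := E.cs.simple_mul_simple_self j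
      calc E.cs.simple i * E.cs.simple j
          = (E.cs.simple i * E.cs.simple j)⁻¹ := by rw [eq_inv_iff_mul_eq_one]; exact h8
        _ = _ := by rw [mul_inv_rev, E.cs.inv_simple, E.cs.inv_simple]
    exact EllS.swap_false E.sys hij hc h6 h7 E.th hσ hell hr2 hrl hPθ
  · exact hA ⟨i, j, hodd i j hij hk ho, hk⟩

end

end Cfsg.Agent.H460.Engine
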