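import Cfsg.Agent.FixBN.TraceSys
import Cfsg.Agent.FixOdd.Defs

/-!
# Elliptic automorphisms of finite buildings map a chamber to an opposite one

`Δ` is a building all of whose parameters are divisible by the prime `p`, `θ` an automorphism (up to
the diagram automorphism `σ`) stabilising the residue `R = Res J x` but no proper residue of `R`.
Then for every `w` in `W_J` which lies in no proper `σ`-stable standard parabolic subgroup of `W_J`
there is a chamber `y` of `R` with `δ(y, θ y) = w` (`exists_delta`); in particular some chamber is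
mapped to an opposite one (`exists_opp`).

Proof: the operators `T_w` on the chambers of `R` over `ZMod p` satisfy the relations of the
`0`-Hecke algebra. `P T_w` (`P` the permutation matrix of `θ`) has the trace `± tr (P T_{w_J})`,
and the sum of all traces is `|R| = 1`.
-/

set_option autoImplicit false
set_option linter.unusedSectionVars false

namespace Cfsg.Agent.H460.OppTrace

open Cfsg.Agent.Tits.Core Cfsg.Agent.Tits.Core.Bldg Cfsg.Agent.Tits.OppRes Cfsg.Agent.FixBN.Trace
open Cfsg.Agent Cfsg.Agent.Tits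

variable {I : Type*} {M : CoxeterMatrix I} {W : Type*} [Group W] {cs : CoxeterSystem M W} {C : Type*}

section Cox

variable [F : Cox cs]

/-- The letters of a reduced word of an element of `W_J` are in `J`. -/
theorem letters_mem {J : Set I} {ω : List I} (hred : cs.IsReduced ω) (h : cs.wordProd ω ∈ WJ cs J) :
    ∀ i ∈ ω, i ∈ J := by
  induction ω with
  | nil => intro i hi; simp at hi
  | cons i ω ih =>
    have hred' : cs.IsReduced ω := by
      have := hred.drop 1
      simpa using this
    have hl : cs.length (cs.simple i * cs.wordProd (i :: ω)) < cs.length (cs.wordProd (i :: ω)) := by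
      have h1 : cs.simple i * cs.wordProd (i :: ω) = cs.wordProd ω := by
        rw [cs.wordProd_cons, ← mul_assoc, cs.simple_mul_simple_self, one_mul]
      rw [h1, hred.eq, hred'.eq]
      simp
    have hi : i ∈ J := by
      refine F.descent_mem J _ (inv_mem h) i ?_
      have h6 := cs.length_inv (cs.simple i * cs.wordProd (i :: ω))
      rw [mul_inv_rev, cs.inv_simple] at h6
      rw [h6, cs.length_inv]
      exact hl
    have h2 : cs.wordProd ω ∈ WJ cs J := by
      have h3 := mul_mem (simple_mem_WJ (cs := cs) hi) h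
      rwa [cs.wordProd_cons, ← mul_assoc, cs.simple_mul_simple_self, one_mul] at h3
    intro j hj
    rcases List.mem_cons.1 hj with rfl | hj
    · exact hi
    · exact ih hred' h2 j hj

end Cox

section Hecke

open scoped Classical

variable {Δ : Bldg cs C} {J : Set I} {x : C} {k : Type*} [CommRing k] [F : Cox cs]
  [Fintype (Δ.Res J x)]

/-- The product of two operators `T`. -/
theorem T_step (hq : Zero k Δ J x) {u v : W} (hu : u ∈ WJ cs J) (hv : v ∈ WJ cs J) :
    ∃ v' ∈ WJ cs J, (T Δ J x k u * T Δ J x k v = T Δ J x k v' ∨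
      T Δ J x k u * T Δ J x k v = - T Δ J x k v') ∧
      (cs.length v < cs.length v' ∨
        (v' = v ∧ u ∈ WJ cs {i | i ∈ J ∧ cs.length (cs.simple i * v) < cs.length v})) := by
  obtain ⟨ω, hω, hred, rfl⟩ := Tits.Exchange.exists_reduced_of_mem_WJ cs hu
  clear hu
  induction ω with
  | nil =>
    refine ⟨v, hv, Or.inl ?_, Or.inr ⟨rfl, ?_⟩⟩
    · rw [cs.wordProd_nil, T_one, one_mul]
    · rw [cs.wordProd_nil]; exact one_mem _
  | cons i ω ih =>
    have hi : i ∈ J := hω i (by simp)
    have hred' : cs.IsReduced ω := by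
      have := hred.drop 1
      simpa using this
    have hl : cs.length (cs.wordProd ω) < cs.length (cs.simple i * cs.wordProd ω) := by
      rw [← cs.wordProd_cons, hred.eq, hred'.eq]
      simp
    have hT : T Δ J x k (cs.wordProd (i :: ω)) = T Δ J x k (cs.simple i) * T Δ J x k (cs.wordProd ω) := by
      rw [cs.wordProd_cons, simple_mul_T_of_lt hi hl]
    obtain ⟨v1, hv1, h1, h2⟩ := ih (fun j hj => hω j (by simp [hj])) hred'
    by_cases h3 : cs.length (cs.simple i * v1) < cs.length v1
    · refine ⟨v1, hv1, ?_, ?_⟩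
      · rw [hT, mul_assoc]
        rcases h1 with h1 | h1
        · right
          rw [h1, simple_mul_T_of_gt hq hi h3]
        · left
          rw [h1, mul_neg, simple_mul_T_of_gt hq hi h3, neg_neg]
      · rcases h2 with h2 | ⟨rfl, h2⟩
        · exact Or.inl h2
        · right
          refine ⟨rfl, ?_⟩
          rw [cs.wordProd_cons]
          exact mul_mem (simple_mem_WJ ⟨hi, h3⟩) h2
    · have h4 : cs.length v1 < cs.length (cs.simple i * v1) :=
        lt_of_le_of_ne (not_lt.1 h3) (cs.length_simple_mul_ne v1 i).symm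
      refine ⟨cs.simple i * v1, mul_mem (simple_mem_WJ hi) hv1, ?_, Or.inl ?_⟩
      · rw [hT, mul_assoc]
        rcases h1 with h1 | h1
        · left
          rw [h1, simple_mul_T_of_lt hi h4]
        · right
          rw [h1, mul_neg, simple_mul_T_of_lt hi h4]
      · rcases h2 with h2 | ⟨rfl, h2⟩
        · omega
        · exact h4

theorem T_mul_wJ (hq : Zero k Δ J x) {u : W} (hu : u ∈ WJ cs J) :
    T Δ J x k u * T Δ J x k (wJ cs J) = T Δ J x k (wJ cs J) ∨
      T Δ J x k u * T Δ J x k (wJ cs J) = - T Δ J x k (wJ cs J) := by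
  obtain ⟨v', hv', h1, h2⟩ := T_step hq hu (F.wJ_mem J)
  have h3 : v' = wJ cs J := by
    rcases h2 with h2 | ⟨h2, -⟩
    · exfalso
      have := F.len_wJ_mul hv'
      omega
    · exact h2
  rw [h3] at h1
  exact h1

theorem wJ_mul_T (hq : Zero k Δ J x) {u : W} (hu : u ∈ WJ cs J) :
    T Δ J x k (wJ cs J) * T Δ J x k u = T Δ J x k (wJ cs J) ∨
      T Δ J x k (wJ cs J) * T Δ J x k u = - T Δ J x k (wJ cs J) := by
  have h := T_mul_wJ (x := x) hq (inv_mem hu)
  have h1 : (T Δ J x k u⁻¹ * T Δ J x k (wJ cs J)).transpose =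
      T Δ J x k (wJ cs J) * T Δ J x k u := by
    rw [Matrix.transpose_mul, T_transpose, T_transpose, inv_inv, F.wJ_inv]
  rw [← h1]
  rcases h with h | h
  · left
    rw [h, T_transpose, F.wJ_inv]
  · right
    rw [h, Matrix.transpose_neg, T_transpose, F.wJ_inv]

end Hecke

section Main

open scoped Classical

variable {Δ : Bldg cs C} {J : Set I} {x : C} [F : Cox cs] [Finite I]

variable {φ : W ≃* W} {σ : Equiv.Perm I} {θ : Equiv.Perm C}

theorem iter_wordProd (hφ : ∀ i, φ (cs.simple i) = cs.simple (σ i)) (n : ℕ) (ω : List I) :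
    (φ : W → W)^[n] (cs.wordProd ω) = cs.wordProd (ω.map (σ ^ n : Equiv.Perm I)) := by
  induction n with
  | zero => simp
  | succ n ih =>
    rw [Function.iterate_succ_apply', ih, FixBN.Cox.map_wordProd hφ, List.map_map, pow_succ']
    rfl

/-- **Elliptic automorphisms.** `θ` stabilises the residue `R` of type `J` of `x` and no proper
residue of `R` (of `σ`-stable type). Then every `w ∈ W_J` which lies in no proper `σ`-stable
standard parabolic subgroup is a displacement of a chamber of `R`. -/
theorem exists_delta {p : ℕ} [Fact p.Prime] [Finite (Δ.Res J x)]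
    (hφ : ∀ i, φ (cs.simple i) = cs.simple (σ i)) (hJ : ∀ i ∈ J, σ i ∈ J)
    (hθ : ∀ a b, Δ.δ (θ a) (θ b) = φ (Δ.δ a b))
    (hR : ∀ y ∈ Δ.Res J x, θ y ∈ Δ.Res J x) (hR' : ∀ y ∈ Δ.Res J x, θ.symm y ∈ Δ.Res J x)
    (hmin : ∀ y ∈ Δ.Res J x, ∀ K ⊆ J, (∀ i ∈ K, σ i ∈ K) → θ y ∈ Δ.Res K y → K = J)
    (hq : Zero (ZMod p) Δ J x) {r : ℕ} (hr : 0 < r) (hσr : σ ^ r = 1)
    {w : W} (hw : w ∈ WJ cs J) (hwf : ∀ K ⊆ J, (∀ i ∈ K, σ i ∈ K) → w ∈ WJ cs K → K = J) :
    ∃ y ∈ Δ.Res J x, Δ.δ y (θ y) = w := by
  have hfin := Fintype.ofFinite (Δ.Res J x)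
  set k := ZMod p
  let P : Matrix (Δ.Res J x) (Δ.Res J x) k := Matrix.of fun a b => if (b : C) = θ a then 1 else 0
  -- multiplication by `P`
  have hPM : ∀ (B : Matrix (Δ.Res J x) (Δ.Res J x) k) (a b : Δ.Res J x),
      (P * B) a b = B ⟨θ a, hR a a.2⟩ b := by
    intro B a b
    rw [Matrix.mul_apply, Finset.sum_eq_single (⟨θ a, hR a a.2⟩ : Δ.Res J x)]
    · change (if θ (a : C) = θ a then (1 : k) else 0) * _ = _
      rw [if_pos rfl, one_mul]
    · intro c _ hc
      change (if (c : C) = θ a then (1 : k) else 0) * _ = _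
      rw [if_neg fun h1 => hc (Subtype.ext h1), zero_mul]
    · intro h1
      exact absurd (Finset.mem_univ _) h1
  have hMP : ∀ (B : Matrix (Δ.Res J x) (Δ.Res J x) k) (a b : Δ.Res J x),
      (B * P) a b = B a ⟨θ.symm b, hR' b b.2⟩ := by
    intro B a b
    rw [Matrix.mul_apply, Finset.sum_eq_single (⟨θ.symm b, hR' b b.2⟩ : Δ.Res J x)]
    · change _ * (if (b : C) = θ (θ.symm b) then (1 : k) else 0) = _
      rw [if_pos (θ.apply_symm_apply _).symm, mul_one]
    · intro c _ hc
      change _ * (if (b : C) = θ c then (1 : k) else 0) = _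
      rw [if_neg, mul_zero]
      intro h1
      apply hc
      apply Subtype.ext
      change (c : C) = θ.symm b
      rw [h1, θ.symm_apply_apply]
    · intro h1
      exact absurd (Finset.mem_univ _) h1
  have hTP : ∀ w, T Δ J x k w * P = P * T Δ J x k (φ w) := by
    intro w
    ext a b
    rw [hPM, hMP, T_apply, T_apply]
    have h1 : Δ.δ (a : C) (θ.symm b) = w ↔ Δ.δ (θ a) (b : C) = φ w := by
      rw [← θ.apply_symm_apply (b : C), hθ, θ.symm_apply_apply]
      exact φ.injective.eq_iff.symm
    by_cases h2 : Δ.δ (a : C) (θ.symm b) = w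
    · rw [if_pos h2]
      exact (if_pos (h1.1 h2)).symm
    · rw [if_neg h2]
      exact (if_neg fun h3 => h2 (h1.2 h3)).symm
  have hφJ : ∀ w ∈ WJ cs J, φ w ∈ WJ cs J := fun w hw => FixBN.Cox.mem_WJ_map hφ hJ hw
  have hφn : ∀ (n : ℕ), ∀ w ∈ WJ cs J, (φ : W → W)^[n] w ∈ WJ cs J := by
    intro n
    induction n with
    | zero => exact fun w hw => hw
    | succ n ih =>
      intro w hw
      rw [Function.iterate_succ_apply']
      exact hφJ _ (ih w hw)
  have hTPn : ∀ (n : ℕ) (w : W), T Δ J x k w * P ^ n = P ^ n * T Δ J x k ((φ : W → W)^[n] w) := by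
    intro n
    induction n with
    | zero => intro w; simp
    | succ n ih =>
      intro w
      rw [pow_succ, ← mul_assoc, ih, mul_assoc, hTP, ← mul_assoc, Function.iterate_succ_apply']
  -- the trace is the number of the chambers with a given displacement
  let N : W → k := fun w => (P * T Δ J x k w).trace
  have hN : ∀ w, N w = ∑ a : Δ.Res J x, if Δ.δ (θ a) (a : C) = w then (1 : k) else 0 := by
    intro w
    change Matrix.trace _ = _
    rw [Matrix.trace]
    refine Finset.sum_congr rfl fun a _ => ?_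
    rw [Matrix.diag_apply, hPM, T_apply]
  have hex : ∀ w, N w ≠ 0 → ∃ a ∈ Δ.Res J x, Δ.δ (θ a) a = w := by
    intro w hw
    by_contra hcon
    push Not at hcon
    apply hw
    rw [hN]
    refine Finset.sum_eq_zero fun a _ => if_neg (hcon a a.2)
  -- some trace is not zero
  have hsome : ∃ v ∈ WJ cs J, N v ≠ 0 := by
    by_contra hcon
    push Not at hcon
    have h1 : ((Fintype.card (Δ.Res J x) : ℕ) : k) = 1 := card_Res hq
    have h2 : ((Fintype.card (Δ.Res J x) : ℕ) : k) = ∑ b : Δ.Res J x, (1 : k) := by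
      rw [Finset.sum_const, Finset.card_univ, nsmul_eq_mul, mul_one]
    rw [h2, ← Finset.sum_fiberwise_of_maps_to (s := Finset.univ)
      (t := Finset.univ.image fun b : Δ.Res J x => Δ.δ (θ b) (b : C))
      (g := fun b : Δ.Res J x => Δ.δ (θ b) (b : C))
      (fun b _ => Finset.mem_image_of_mem _ (Finset.mem_univ b))] at h1
    have h3 : ∀ v ∈ (Finset.univ.image fun b : Δ.Res J x => Δ.δ (θ b) (b : C)),
        (Finset.univ.filter fun b : Δ.Res J x => Δ.δ (θ b) (b : C) = v).sum (fun _ => (1 : k)) = 0 := by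
      intro v hv
      obtain ⟨b, -, hb⟩ := Finset.mem_image.1 hv
      have hvJ : v ∈ WJ cs J := by
        rw [← hb]
        exact delta_mem_of_Res (hR b b.2) b.2
      rw [Finset.sum_filter, ← hN]
      exact hcon v hvJ
    rw [Finset.sum_eq_zero h3] at h1
    exact zero_ne_one h1
  -- `w` with `N w ≠ 0` is full
  have hfull : ∀ v, N v ≠ 0 → ∀ K ⊆ J, (∀ i ∈ K, σ i ∈ K) → v ∈ WJ cs K → K = J := by
    intro v hv K hK hKσ hvK
    obtain ⟨a, ha, hav⟩ := hex v hv
    refine hmin a ha K hK hKσ ?_
    change Δ.δ a (θ a) ∈ WJ cs K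
    rw [Δ.symm (θ a) a, hav]
    exact inv_mem hvK
  -- the trace of full elements
  have hmain : ∀ v ∈ WJ cs J, (∀ K ⊆ J, (∀ i ∈ K, σ i ∈ K) → v ∈ WJ cs K → K = J) →
      N v = N (wJ cs J) ∨ N v = - N (wJ cs J) := by
    intro v hv hvf
    set X : Matrix (Δ.Res J x) (Δ.Res J x) k := P * T Δ J x k v with hX
    set T0 : Matrix (Δ.Res J x) (Δ.Res J x) k := T Δ J x k (wJ cs J) with hT0
    have hφw : φ (wJ cs J) = wJ cs J := FixOdd.Cox.map_wJ hφ hJ
    have hPT0 : T0 * P = P * T0 := by rw [hT0, hTP, hφw]
    -- the idempotent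
    obtain ⟨ε, hε, hE0⟩ : ∃ ε : k, ε * ε = 1 ∧ T0 * T0 = ε • T0 := by
      rcases T_mul_wJ (x := x) hq (F.wJ_mem J) with h | h
      · exact ⟨1, by ring, by rw [one_smul]; exact h⟩
      · exact ⟨-1, by ring, by rw [neg_one_smul]; exact h⟩
    set E : Matrix (Δ.Res J x) (Δ.Res J x) k := ε • T0 with hE
    have hEE : E * E = E := by
      rw [hE, Matrix.smul_mul, Matrix.mul_smul, hE0, smul_smul, smul_smul, hε, one_mul]
    have hT0E : T0 * E = T0 := by
      rw [hE, Matrix.mul_smul, hE0, smul_smul, hε, one_smul]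
    have hPE : E * P = P * E := by
      rw [hE, Matrix.smul_mul, Matrix.mul_smul, hPT0]
    obtain ⟨a1, ha1, hXE⟩ : ∃ a1 : k, (a1 = 1 ∨ a1 = -1) ∧ X * E = a1 • (P * T0) := by
      have hε' : ε = 1 ∨ ε = -1 := mul_self_eq_one_iff.1 hε
      rcases T_mul_wJ (x := x) hq hv with h | h
      · refine ⟨ε, hε', ?_⟩
        rw [hE, Matrix.mul_smul, hX, mul_assoc, h]
      · refine ⟨-ε, ?_, ?_⟩
        · rcases hε' with h | h
          · right; rw [h]
          · left; rw [h, neg_neg]
        · rw [hE, Matrix.mul_smul, hX, mul_assoc, h, mul_neg, smul_neg, neg_smul]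
    have hEX : E * X * (1 - E) = 0 := by
      have h1 : ∃ c : k, E * X = c • (P * E) := by
        rcases wJ_mul_T (x := x) hq hv with h | h
        · refine ⟨1, ?_⟩
          rw [hX, ← mul_assoc, hPE, mul_assoc, hE, Matrix.smul_mul, h, one_smul]
        · refine ⟨-1, ?_⟩
          rw [hX, ← mul_assoc, hPE, mul_assoc, hE, Matrix.smul_mul, h, neg_one_smul, smul_neg, mul_neg]
      obtain ⟨c, hc⟩ := h1
      rw [hc, Matrix.smul_mul, mul_assoc, mul_sub, mul_one, hEE, sub_self, mul_zero, smul_zero]
    -- the powers of `X`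
    let Y : ℕ → Matrix (Δ.Res J x) (Δ.Res J x) k :=
      fun n => Nat.rec 1 (fun n Z => T Δ J x k ((φ : W → W)^[n] v) * Z) n
    have hY0 : Y 0 = 1 := rfl
    have hYs : ∀ n, Y (n + 1) = T Δ J x k ((φ : W → W)^[n] v) * Y n := fun n => rfl
    have hXn : ∀ n, X ^ n = P ^ n * Y n := by
      intro n
      induction n with
      | zero => rw [pow_zero, pow_zero, hY0, one_mul]
      | succ n ih =>
        rw [pow_succ', ih, hX, hYs, mul_assoc, ← mul_assoc (T Δ J x k v), hTPn, pow_succ', mul_assoc,
          mul_assoc]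
    -- the period of `φ`
    obtain ⟨ω, hωJ, hωr, hωv⟩ := Tits.Exchange.exists_reduced_of_mem_WJ cs hv
    have hlen : ∀ n : ℕ, cs.IsReduced (ω.map (σ ^ n : Equiv.Perm I)) := by
      intro n
      have h1 : cs.length ((φ : W → W)^[n] v) = cs.length v := by
        induction n with
        | zero => rfl
        | succ n ih =>
          rw [Function.iterate_succ_apply', FixOdd.Cox.length_map hφ, ih]
      have h2 : cs.wordProd (ω.map (σ ^ n : Equiv.Perm I)) = (φ : W → W)^[n] v := by
        rw [← hωv, iter_wordProd hφ]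
      unfold CoxeterSystem.IsReduced
      rw [h2, h1, List.length_map, ← hωv]
      exact hωr
    have hstay : ∀ u ∈ WJ cs J, (∀ n < r, ∃ m, (φ : W → W)^[m + n] v ∈
        WJ cs {i | i ∈ J ∧ cs.length (cs.simple i * u) < cs.length u} ∧ r ∣ m) → u = wJ cs J := by
      intro u hu h
      set D : Set I := {i | i ∈ J ∧ cs.length (cs.simple i * u) < cs.length u} with hD
      have hper : ∀ n : ℕ, ∀ i ∈ ω, (σ ^ n) i ∈ D := by
        intro n i hi
        obtain ⟨m, hm, hrm⟩ := h (n % r) (Nat.mod_lt _ hr)
        have h1 : cs.wordProd (ω.map (σ ^ (m + n % r) : Equiv.Perm I)) ∈ WJ cs D := by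
          rw [← iter_wordProd hφ, hωv]; exact hm
        have h2 := letters_mem (hlen _) h1 ((σ ^ (m + n % r)) i) (List.mem_map_of_mem hi)
        have h3 : σ ^ (m + n % r) = σ ^ n := by
          obtain ⟨c, rfl⟩ := hrm
          have h4 : σ ^ n = σ ^ (r * (n / r) + n % r) := by rw [Nat.div_add_mod]
          rw [h4, pow_add, pow_add, pow_mul, pow_mul, hσr, one_pow, one_pow]
        rwa [h3] at h2
      have hDJ : D = J := by
        have hK := hvf {i | i ∈ J ∧ ∀ n : ℕ, (σ ^ n) i ∈ D} (fun i hi => hi.1) (fun i hi =>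
          ⟨hJ i hi.1, fun n => by
            have := hi.2 (n + 1)
            rwa [pow_succ] at this⟩) (by
          rw [← hωv]
          exact Tits.Exchange.wordProd_mem_WJ cs fun i hi => ⟨hωJ i hi, fun n => hper n i hi⟩)
        refine Set.Subset.antisymm (fun i hi => hi.1) fun i hi => ?_
        rw [← hK] at hi
        exact hi.2 0
      have h1 : u⁻¹ = wJ cs J := by
        refine F.eq_wJ_of_descents (inv_mem hu) fun j hj => ?_
        rw [← hDJ] at hj
        have h2 := hj.2
        have h6 := cs.length_inv (cs.simple j * u)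
        rw [mul_inv_rev, cs.inv_simple] at h6
        rw [h6, cs.length_inv]
        exact h2
      rw [← F.wJ_inv J, ← h1, inv_inv]
    have hgrow : ∀ m, ∃ n, ∃ u ∈ WJ cs J, (Y n = T Δ J x k u ∨ Y n = - T Δ J x k u) ∧ r ∣ n ∧
        (u = wJ cs J ∨ m ≤ cs.length u) := by
      intro m
      induction m with
      | zero => exact ⟨0, 1, one_mem _, Or.inl (by rw [hY0, T_one]), dvd_zero _, Or.inr (Nat.zero_le _)⟩
      | succ m ih =>
        obtain ⟨n, u, hu, hYn, hrn, h1⟩ := ih
        -- `j` further steps
        have hsteps : ∀ j ≤ r, ∃ u' ∈ WJ cs J, (Y (n + j) = T Δ J x k u' ∨ Y (n + j) = - T Δ J x k u') ∧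
            (cs.length u < cs.length u' ∨ (u' = u ∧ ∀ i < j, (φ : W → W)^[n + i] v ∈
              WJ cs {i | i ∈ J ∧ cs.length (cs.simple i * u) < cs.length u})) := by
          intro j hj
          induction j with
          | zero => exact ⟨u, hu, hYn, Or.inr ⟨rfl, fun i hi => absurd hi (Nat.not_lt_zero _)⟩⟩
          | succ j ihj =>
            obtain ⟨u', hu', hY', h2⟩ := ihj (by omega)
            obtain ⟨u'', hu'', hY'', h3⟩ := T_step (x := x) hq (hφn (n + j) v hv) hu'
            refine ⟨u'', hu'', ?_, ?_⟩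
            · rw [← add_assoc, hYs]
              rcases hY' with hY' | hY' <;> rcases hY'' with hY'' | hY''
              · left; rw [hY', hY'']
              · right; rw [hY', hY'']
              · right; rw [hY', mul_neg, hY'']
              · left; rw [hY', mul_neg, hY'', neg_neg]
            · rcases h2 with h2 | ⟨rfl, h2⟩
              · left
                rcases h3 with h3 | ⟨rfl, -⟩
                · omega
                · exact h2
              · rcases h3 with h3 | ⟨rfl, h3⟩
                · exact Or.inl h3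
                · right
                  refine ⟨rfl, fun i hi => ?_⟩
                  rcases Nat.lt_succ_iff_lt_or_eq.1 hi with hi | rfl
                  · exact h2 i hi
                  · exact h3
        obtain ⟨u', hu', hY', h2⟩ := hsteps r le_rfl
        refine ⟨n + r, u', hu', hY', (Nat.dvd_add_right hrn).2 dvd_rfl, ?_⟩
        rcases h2 with h2 | ⟨rfl, h2⟩
        · rcases h1 with h1 | h1
          · exfalso
            have h3 := F.len_wJ_mul hu'
            rw [h1] at h2
            omega
          · right; omega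
        · left
          exact hstay u' hu' fun i hi => ⟨n, h2 i hi, hrn⟩
    obtain ⟨n, hYn⟩ : ∃ n, Y (n + 1) = T0 ∨ Y (n + 1) = - T0 := by
      obtain ⟨n, u, hu, hYn, -, h1⟩ := hgrow (cs.length (wJ cs J) + 1)
      have hu' : u = wJ cs J := by
        rcases h1 with h1 | h1
        · exact h1
        · exfalso
          have h3 := F.len_wJ_mul hu
          omega
      rw [hu'] at hYn
      refine ⟨n, ?_⟩
      rw [hYs]
      rcases T_mul_wJ (x := x) hq (hφn n v hv) with h2 | h2 <;> rcases hYn with h3 | h3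
      · left; rw [h3, h2]
      · right; rw [h3, mul_neg, h2]
      · right; rw [h3, h2]
      · left; rw [h3, mul_neg, h2, neg_neg]
    -- nilpotency
    have hnil : IsNilpotent (X * (1 - E)) := by
      refine ⟨n + 1, ?_⟩
      have h1 : ∀ m, (X * (1 - E)) ^ (m + 1) = X ^ (m + 1) * (1 - E) := by
          intro m
          induction m with
          | zero => rw [zero_add, pow_one, pow_one]
          | succ m ih =>
            rw [pow_succ', ih]
            have h2 : (1 - E) * X * (1 - E) = X * (1 - E) := by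
              rw [sub_mul, one_mul, sub_mul, hEX, sub_zero]
            have h3 : (1 - E) * X ^ (m + 1) * (1 - E) = X ^ (m + 1) * (1 - E) := by
              have h4 : ∀ j, (1 - E) * X ^ j * (1 - E) = X ^ j * (1 - E) := by
                intro j
                induction j with
                | zero =>
                  rw [pow_zero, mul_one, one_mul, mul_sub, mul_one, sub_mul, one_mul, hEE, sub_self,
                    sub_zero]
                | succ j ihj =>
                  rw [pow_succ]
                  calc (1 - E) * (X ^ j * X) * (1 - E)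
                      = (1 - E) * X ^ j * (X * (1 - E)) := by simp only [mul_assoc]
                    _ = (1 - E) * X ^ j * ((1 - E) * X * (1 - E)) := by rw [h2]
                    _ = ((1 - E) * X ^ j * (1 - E)) * (X * (1 - E)) := by simp only [mul_assoc]
                    _ = X ^ j * (1 - E) * (X * (1 - E)) := by rw [ihj]
                    _ = X ^ j * ((1 - E) * X * (1 - E)) := by simp only [mul_assoc]
                    _ = X ^ j * (X * (1 - E)) := by rw [h2]
                    _ = X ^ j * X * (1 - E) := (mul_assoc _ _ _).symm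
              exact h4 (m + 1)
            calc X * (1 - E) * (X ^ (m + 1) * (1 - E))
                = X * ((1 - E) * X ^ (m + 1) * (1 - E)) := by simp only [mul_assoc]
              _ = X * (X ^ (m + 1) * (1 - E)) := by rw [h3]
              _ = X ^ (m + 1 + 1) * (1 - E) := by rw [← mul_assoc, ← pow_succ']
      rw [h1 n, hXn]
      have h2 : T0 * (1 - E) = 0 := by rw [mul_sub, mul_one, hT0E, sub_self]
      rcases hYn with hYn | hYn
      · rw [hYn, mul_assoc, h2, mul_zero]
      · rw [hYn, mul_assoc, neg_mul, h2, neg_zero, mul_zero]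
    have htr : X.trace = (X * E).trace := by
      have h1 : X = X * E + X * (1 - E) := by rw [← mul_add, add_sub_cancel, mul_one]
      have h2 := (Matrix.isNilpotent_trace_of_isNilpotent hnil).eq_zero
      conv_lhs => rw [h1]
      rw [Matrix.trace_add, h2, add_zero]
    change X.trace = (P * T0).trace ∨ X.trace = - (P * T0).trace
    rw [htr, hXE, Matrix.trace_smul]
    rcases ha1 with rfl | rfl
    · left; rw [one_smul]
    · right; rw [neg_one_smul]
  -- the end
  obtain ⟨v, hv, hNv⟩ := hsome
  have hN0 : N (wJ cs J) ≠ 0 := by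
    rcases hmain v hv (hfull v hNv) with h | h
    · rw [← h]; exact hNv
    · intro h0
      rw [h0, neg_zero] at h
      exact hNv h
  have hwi : ∀ K ⊆ J, (∀ i ∈ K, σ i ∈ K) → w⁻¹ ∈ WJ cs K → K = J := fun K hK hKσ h =>
    hwf K hK hKσ (inv_inv w ▸ inv_mem h)
  have hNw : N w⁻¹ ≠ 0 := by
    rcases hmain w⁻¹ (inv_mem hw) hwi with h | h
    · rw [h]; exact hN0
    · rw [h]; exact neg_ne_zero.2 hN0
  obtain ⟨a, ha, haw⟩ := hex _ hNw
  refine ⟨a, ha, ?_⟩
  rw [Δ.symm (θ a) a, haw, inv_inv]

end Main

end Cfsg.Agent.H460.OppTrace
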