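import Cfsg.Agent.H460.Typed
import Cfsg.Agent.H460.Pan
import Cfsg.Agent.H14.CycNode
import Cfsg.Agent.H458.PanF
import Cfsg.Agent.H223.PanU3
import Cfsg.Agent.H269.NotSol
import Cfsg.Agent.H185.TypedTw
import Cfsg.Agent.H694.BnPar
import Cfsg.Agent.FixBN.GoodFam

/-!
# The panels of a group with a typed root group datum (helper460, AA-engine)

* `card_pan` : a panel of type `i` has `Q + 1` chambers; `relIndex_eq`;
* `pn_pan` : the condition `PN`;
* `q_of_sol`, `px_sol` : nodes with solvable minimal parabolic subgroups.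
-/

set_option autoImplicit false
set_option linter.unusedSectionVars false

namespace Cfsg.Agent.H460.PanL

open Cfsg Cfsg.Agent.LieExceptional.BNPairCore Cfsg.Agent.Tits.Core Cfsg.Agent.Tits.Core.Bldg Cfsg.Agent.Tits.OfBN
  Cfsg.Agent.Schreier.BNSch Cfsg.Agent.Tits.OppRes Cfsg.Agent.FixBN Cfsg.Agent.FixBN.OfBN
  Cfsg.Agent.FixBN.U3Model Cfsg.Agent.FixBN.UNode
open Cfsg.Agent.H460.Typed Cfsg.Agent.H460.Pan Cfsg.Agent.H14.CycNode Cfsg.Agent.H185.TypedTw

section Transport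

variable {Om Om' : Type*}

/-- solvability of the group generated by the root groups -/
theorem sol_transport (e : Om ≃ Om') {U : Om → Subgroup (Equiv.Perm Om)}
    {U' : Om' → Subgroup (Equiv.Perm Om')} (hU : ∀ y g, g ∈ U y ↔ e.permCongr g ∈ U' (e y))
    (h : Group.IsSolvable ↥(⨆ y, U' y)) : Group.IsSolvable ↥(⨆ y, U y) := by
  have h1 : (⨆ y, U y) ≤ (⨆ y, U' y).comap e.permCongrHom.toMonoidHom := by
    refine iSup_le fun y g hg => ?_
    rw [Subgroup.mem_comap]
    exact Subgroup.mem_iSup_of_mem (e y) ((hU y g).1 hg)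
  let f : ↥(⨆ y, U y) →* ↥(⨆ y, U' y) :=
    (e.permCongrHom.toMonoidHom.comp (⨆ y, U y).subtype).codRestrict _ fun g => h1 g.2
  refine Group.isSolvable_of_isSolvable_injective (f := f) fun a b hab => ?_
  apply Subtype.ext
  exact e.permCongrHom.injective (congrArg Subtype.val hab)

end Transport

section

variable {K : Type*} [Group K] [Finite K] {P : Cfsg.BNPair K} {U : Subgroup K} {p : ℕ} [Fact p.Prime]
  [hN : ((P.B ⊓ P.N).subgroupOf P.N).Normal] (S : Split P p U)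
  {I : Type*} {M : CoxeterMatrix I} (e : I ≃ P.S) (cs : CoxeterSystem M (WP P))
  (hcs : ∀ i, cs.simple i = QuotientGroup.mk (⟨(e i : K), P.subset (e i).2⟩ : P.N))

include S in
theorem card_pan {i : I} {Q : ℕ} (h : LNode P U (e i : K) Q) (x : K ⧸ P.B) :
    Nat.card ((bldg P e cs hcs).Pan i x) = Q + 1 := by
  induction x using QuotientGroup.induction_on with
  | _ g =>
  obtain ⟨V, Nd, ⟨F, _, _, hQ, ⟨N⟩⟩ | ⟨F, _, _, σ, _, q, hσ, hq, hQ, ⟨N⟩⟩⟩ := h
  · rw [← Nat.card_congr (Cfsg.Agent.FixBN.FieldNode.par e cs hcs i S Nd N g), Finite.card_option, hQ]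
  · have hF := Cfsg.Agent.H223.U3Fin.ug_of_card hσ hq
    have hfin : Finite (Pt σ) := Cfsg.Agent.H223.PanU3.finite_pt
    rw [← Nat.card_congr (Cfsg.Agent.FixBN.UNode.UNode.par e cs hcs i S Nd N g)]
    show Nat.card (Option (Pt σ)) = _
    rw [Finite.card_option, Cfsg.Agent.H223.PanU3.card_pt hF, hQ]

theorem pn_pan {i : I} {Q : ℕ} (h : LNode P U (e i : K) Q) {r : ℕ} [Fact r.Prime] (hr2 : r ≠ 2) (h1 : ¬ r ∣ Q)
    (h2 : ¬ r ∣ Q + 1) (x : K ⧸ P.B) : PN r ((OfBN.sys e cs hcs S).fam i x) := by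
  induction x using QuotientGroup.induction_on with
  | _ g =>
  obtain ⟨V, Nd, ⟨F, _, _, hQ, ⟨N⟩⟩ | ⟨F, _, _, σ, _, q, hσ, hq, hQ, ⟨N⟩⟩⟩ := h
  · exact (H458.PanF.pn_line F hr2 (by rwa [hQ]) (by rwa [hQ])).map _
      (iso_mk S e cs hcs i Nd N g fun y f => Iff.rfl)
  · exact (H223.PanU3.pn_u3 σ hσ hq hr2 (fun hd => h1 (by rw [hQ]; exact dvd_pow hd (by norm_num)))
      (by rwa [← hQ])).map _ (Uni.iso_mk S e cs hcs i Nd N g fun y f => Iff.rfl)

/-- the group generated by the root groups of a panel of solvable type -/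
theorem sol_fam {i : I}
    (hsol : Group.IsSolvable ↥(P.parabolic {(e i : K)})) (x : K ⧸ P.B) :
    Group.IsSolvable ↥(⨆ y, (OfBN.sys e cs hcs S).fam i x y) := by
  classical
  induction x using QuotientGroup.induction_on with
  | _ g =>
  set Δ := bldg P e cs hcs with hΔ
  set Si := OfBN.sys e cs hcs S with hSi
  set D : Subgroup K := (P.parabolic {(e i : K)}).map (MulAut.conj g).toMonoidHom with hD
  have hDsol : Group.IsSolvable ↥D :=
    Group.isSolvable_of_surjective ((MulAut.conj g).toMonoidHom.subgroupMap_surjective (P.parabolic {(e i : K)}))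
  -- pairs
  let A : Subgroup (K × Equiv.Perm (Δ.Pan i (QuotientGroup.mk g))) :=
    { carrier := {a | a.1 ∈ D ∧ ∀ z, (a.2 z : K ⧸ P.B) = a.1 • (z : K ⧸ P.B)}
      one_mem' := ⟨one_mem _, fun z => by
        show (z : K ⧸ P.B) = (1 : K) • (z : K ⧸ P.B)
        rw [one_smul]⟩
      mul_mem' := fun {a b} ha hb => ⟨mul_mem ha.1 hb.1, fun z => by
        show ((a.2 * b.2) z : K ⧸ P.B) = (a.1 * b.1) • (z : K ⧸ P.B)
        rw [Equiv.Perm.mul_apply, ha.2, hb.2, mul_smul]⟩
      inv_mem' := fun {a} ha => ⟨inv_mem ha.1, fun z => by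
        show ((a.2⁻¹) z : K ⧸ P.B) = (a.1⁻¹) • (z : K ⧸ P.B)
        rw [eq_inv_smul_iff, ← ha.2]
        congr 1
        exact a.2.apply_symm_apply z⟩ }
  let f1 : A →* D := ((MonoidHom.fst K _).comp A.subtype).codRestrict D fun a => a.2.1
  have hf1 : Function.Injective f1 := by
    intro a b hab
    have h1 : a.1.1 = b.1.1 := congrArg Subtype.val hab
    apply Subtype.ext
    refine Prod.ext h1 ?_
    apply Equiv.ext
    intro z
    apply Subtype.ext
    rw [a.2.2, b.2.2, h1]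
  have hA : Group.IsSolvable A := Group.isSolvable_of_isSolvable_injective hf1
  let f2 : A →* Equiv.Perm (Δ.Pan i (QuotientGroup.mk g)) := (MonoidHom.snd K _).comp A.subtype
  have hle : (⨆ y, Si.fam i (QuotientGroup.mk g) y) ≤ f2.range := by
    refine iSup_le fun z m hm => ?_
    obtain ⟨u, hu, h⟩ := hm
    obtain ⟨⟨z, hz⟩, rfl⟩ : ∃ w, w = z := ⟨z, rfl⟩
    obtain ⟨a, rfl⟩ := QuotientGroup.mk_surjective z
    refine ⟨⟨(u, m), ?_, h⟩, rfl⟩
    -- `u ∈ g P_i g⁻¹`
    have h1 : g⁻¹ * a ∈ P.parabolic {(e i : K)} := by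
      have h2 := (Δ.Pan_eq_Res i (QuotientGroup.mk g)) ▸ hz
      rw [mem_Res, hΔ, bldg_δ_mk] at h2
      have h3 := (H694.mem_PJ e cs hcs (J := {i})).2 h2
      unfold H694.PJ at h3
      rwa [Set.image_singleton] at h3
    have h2 : a⁻¹ * u * a ∈ P.B := smul_mk_eq.1 (Si.fix _ u hu)
    refine ⟨(g⁻¹ * a) * (a⁻¹ * u * a) * (g⁻¹ * a)⁻¹, mul_mem (mul_mem h1 (B_le_parabolic P _ h2)) (inv_mem h1), ?_⟩
    show g * ((g⁻¹ * a) * (a⁻¹ * u * a) * (g⁻¹ * a)⁻¹) * g⁻¹ = u
    group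
  have h1 : Group.IsSolvable f2.range := Group.isSolvable_of_surjective f2.rangeRestrict_surjective
  exact Group.isSolvable_of_isSolvable_injective (Subgroup.inclusion_injective hle)

include S in
/-- the numbers `Q` for solvable minimal parabolic subgroups -/
theorem q_of_fsol {i : I} {Q : ℕ} (h : FNode P U (e i : K) Q) (hsol : Group.IsSolvable ↥(P.parabolic {(e i : K)})) :
    Q = 2 ∨ Q = 3 := by
  obtain ⟨M', cs', hcs'⟩ : ∃ (M : CoxeterMatrix P.S) (cs : CoxeterSystem M (WP P)),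
      ∀ s, cs.simple s = QuotientGroup.mk (⟨(s : K), P.subset s.2⟩ : P.N) := S0320.result P
  obtain ⟨V, Nd, F, _, _, hQ, ⟨N⟩⟩ := h
  have h1 := sol_fam S (Equiv.refl P.S) cs' hcs' (i := e i) hsol (QuotientGroup.mk 1)
  have h2 := sol_transport _ (iso_mk S (Equiv.refl P.S) cs' hcs' (e i) Nd N 1 fun y f => Iff.rfl) h1
  have h3 : 1 < Nat.card F := Finite.one_lt_card
  by_contra hcon
  exact H269.NotSol.not_solvable_psl2 F (by omega) h2

include S in
theorem q_of_sol {i : I} {Q : ℕ} (h : LNode P U (e i : K) Q) (hsol : Group.IsSolvable ↥(P.parabolic {(e i : K)})) :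
    Q = 2 ∨ Q = 3 ∨ Q = 8 := by
  obtain ⟨M', cs', hcs'⟩ : ∃ (M : CoxeterMatrix P.S) (cs : CoxeterSystem M (WP P)),
      ∀ s, cs.simple s = QuotientGroup.mk (⟨(s : K), P.subset s.2⟩ : P.N) := S0320.result P
  obtain ⟨V, Nd, ⟨F, _, _, hQ, ⟨N⟩⟩ | ⟨F, _, _, σ, _, q, hσ, hq, hQ, ⟨N⟩⟩⟩ := h
  · have := q_of_fsol S e ⟨V, Nd, F, _, ‹_›, hQ, ⟨N⟩⟩ hsol
    tauto
  · have h1 := sol_fam S (Equiv.refl P.S) cs' hcs' (i := e i) hsol (QuotientGroup.mk 1)
    have h2 := sol_transport _ (Uni.iso_mk S (Equiv.refl P.S) cs' hcs' (e i) Nd N 1 fun y f => Iff.rfl) h1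
    have h3 : 1 < Nat.card F := Finite.one_lt_card
    right; right
    have h4 : q = 2 := by
      by_contra hcon
      refine H269.NotSol.not_solvable_u3 σ hσ hq ?_ h2
      rcases q with _ | _ | _ | q
      · rw [hq] at h3; omega
      · rw [hq] at h3; omega
      · exact absurd rfl hcon
      · omega
    rw [hQ, h4]; norm_num

/-- **Nodes with solvable minimal parabolic subgroup.** -/
theorem px_sol {i : I} {Q : ℕ} (h : LNode P U (e i : K) Q) (hsol : Group.IsSolvable ↥(P.parabolic {(e i : K)}))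
    {r : ℕ} [Fact r.Prime] (hr2 : r ≠ 2) (h1 : ¬ r ∣ Q) (x : K ⧸ P.B) :
    PX r ((OfBN.sys e cs hcs S).fam i x) := by
  have h0 := q_of_sol S e h hsol
  induction x using QuotientGroup.induction_on with
  | _ g =>
  obtain ⟨V, Nd, ⟨F, _, _, hQ, ⟨N⟩⟩ | ⟨F, _, _, σ, _, q, hσ, hq, hQ, ⟨N⟩⟩⟩ := h
  · exact (H458.PanF.px_line F hr2 (by rwa [hQ])).map _
      (iso_mk S e cs hcs i Nd N g fun y f => Iff.rfl)
  · have h2 : q = 2 := by
      rcases h0 with h0 | h0 | h0
      · exfalso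
        rw [h0] at hQ
        have h3 : q < 2 := by
          by_contra hcon
          have := Nat.pow_le_pow_left (not_lt.1 hcon) 3
          omega
        interval_cases q <;> omega
      · exfalso
        rw [h0] at hQ
        have h3 : q < 2 := by
          by_contra hcon
          have := Nat.pow_le_pow_left (not_lt.1 hcon) 3
          omega
        interval_cases q <;> omega
      · rw [h0] at hQ
        have h3 : q < 3 := by
          by_contra hcon
          have := Nat.pow_le_pow_left (not_lt.1 hcon) 3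
          omega
        interval_cases q <;> omega
    exact (H223.PanU3.px_u3_two σ hσ (by rw [hq, h2]; norm_num) hr2).map _
      (Uni.iso_mk S e cs hcs i Nd N g fun y f => Iff.rfl)

include S in
/-- `|P_i : B| = Q + 1` -/
theorem relIndex_eq {i : I} {Q : ℕ} (h : LNode P U (e i : K) Q) :
    P.B.relIndex (P.parabolic {(e i : K)}) = Q + 1 := by
  obtain ⟨M', cs', hcs'⟩ : ∃ (M : CoxeterMatrix P.S) (cs : CoxeterSystem M (WP P)),
      ∀ s, cs.simple s = QuotientGroup.mk (⟨(s : K), P.subset s.2⟩ : P.N) := S0320.result P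
  set Δ := bldg P (Equiv.refl P.S) cs' hcs' with hΔ
  have h1 := card_pan S (Equiv.refl P.S) cs' hcs' (i := e i) h (QuotientGroup.mk 1)
  rw [← h1]
  unfold Subgroup.relIndex Subgroup.index
  have hmem : ∀ a : K, (QuotientGroup.mk a : K ⧸ P.B) ∈ Δ.Pan (e i) (QuotientGroup.mk 1) ↔
      a ∈ P.parabolic {(e i : K)} := by
    intro a
    rw [Δ.Pan_eq_Res, mem_Res, hΔ, bldg_δ_mk P (Equiv.refl P.S) cs' hcs', inv_one, one_mul]
    have h3 := H694.mem_PJ (Equiv.refl P.S) cs' hcs' (J := {e i}) (g := a)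
    unfold H694.PJ at h3
    rw [Set.image_singleton] at h3
    exact h3.symm
  refine Nat.card_congr (Equiv.ofBijective (fun q : ↥(P.parabolic {(e i : K)}) ⧸ P.B.subgroupOf _ =>
    Quotient.liftOn' q (fun m => (⟨QuotientGroup.mk (m : K), (hmem _).2 m.2⟩ : Δ.Pan (e i) (QuotientGroup.mk 1))) ?_)
    ⟨?_, ?_⟩)
  · intro a b hab
    rw [QuotientGroup.leftRel_apply, Subgroup.mem_subgroupOf] at hab
    exact Subtype.ext (mk_eq.2 hab)
  · intro a b
    refine Quotient.inductionOn₂' a b fun a b hab => ?_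
    have h2 : (QuotientGroup.mk (a : K) : K ⧸ P.B) = QuotientGroup.mk (b : K) := congrArg Subtype.val hab
    refine Quotient.sound' (QuotientGroup.leftRel_apply.2 ?_)
    rw [Subgroup.mem_subgroupOf]
    exact mk_eq.1 h2
  · rintro ⟨z, hz⟩
    obtain ⟨a, rfl⟩ := QuotientGroup.mk_surjective z
    exact ⟨Quotient.mk'' ⟨a, (hmem a).1 hz⟩, rfl⟩

end

end Cfsg.Agent.H460.PanL
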