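import Cfsg.Agent.H460.Typed
import Cfsg.Agent.H185.TypedTw
import Cfsg.Agent.FixBN.WittNodeB
import Cfsg.Agent.Nodes.WittAll

/-!
# Typed nodes of groups modelled on a Witt frame, all characteristics (helper14)

* `TypedAt R i Q` : the simple root group `X (α_i)` is parametrised by a field of order `Q`, or of unitary type with
  `Q = q ^ 3`; `TypedAt.lNode`, `hasTyped` : the conclusion in the form of `H460.Typed`;
* `inv_Z`, `inv_X`, `typedAt_X`, `typedAt_Z`, `typedAt_U` : the nodes of a model of a Witt frame (as in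
  `FixBN.WittNodeB`, without any hypothesis on the characteristic and on the ambient group);
* `hasTyped_model` : type `C_n`, torus commutative.
-/

set_option autoImplicit false

namespace Cfsg.Agent.H460.FTypWitt

open Cfsg.Agent.ChevalleyStructure.CoxeterGeom Cfsg.Agent.Tits.Roots
open Cfsg.Agent.Nodes.Comb Cfsg.Agent.Nodes.Reps Cfsg.Agent.Nodes.BNOf
open Cfsg.Agent.FixBN Cfsg.Agent.FixBN.U3Model Cfsg.Agent.FixBN.UNode Cfsg.Agent.FixBN.WittNodeA
open Cfsg.Agent.H460.Typed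
open Cfsg.Agent.H185.TypedTw (FNode HasFTyped)

section Generic

variable {l : ℕ} {Y : Type*} [Group Y] {M : CoxeterMatrix (Fin l)} {A : Fin l → Fin l → ℤ} {h : IsCartan M A} {p : ℕ}
  {T : Subgroup Y} {n : Fin l → Y} {X : (Fin l → ℤ) → Subgroup Y}

/-- The data at the node `i` of a root group datum. -/
def TypedAt (_R : RGD M.toCoxeterSystem h p T n X) (i : Fin l) (Q : ℕ) : Prop :=
  ∃ (F : Type) (_ : Field F) (_ : Finite F) (x : F → Y), Nat.card F = Q ∧ (∀ a b, x (a + b) = x a * x b) ∧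
    (∀ a, x a ∈ X (sr i)) ∧ (∀ u ∈ X (sr i), ∃ a, u = x a) ∧ (∀ a, x a = 1 → a = 0) ∧
    ∀ a, a ≠ 0 → (x (-a⁻¹) * n i)⁻¹ * (n i * x a * n i) ∈ RGD.B M.toCoxeterSystem h T X

theorem TypedAt.lNode [Finite M.Group] {R : RGD M.toCoxeterSystem h p T n X}
    (hgen : RGD.B M.toCoxeterSystem h T X ⊔ NN M.toCoxeterSystem R.nsys = ⊤) {i : Fin l} {Q : ℕ} (hi : TypedAt R i Q) :
    FNode (R.bnPair hgen) (RGD.Sup X (RGD.Pos M.toCoxeterSystem h)) (n i) Q := by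
  obtain ⟨F, _, _, x, h2, h3, h4, h5, h6, h7⟩ := hi
  exact ⟨_, NodeRGD.node R hgen i, F, _, ‹_›, h2, ⟨fieldNode R hgen i x h3 h4 h5 h6 h7⟩⟩

theorem hasTyped [Finite M.Group] (R : RGD M.toCoxeterSystem h p T n X)
    (hgen : RGD.B M.toCoxeterSystem h T X ⊔ NN M.toCoxeterSystem R.nsys = ⊤) (hT : Group.IsSolvable T)
    {Q : Fin l → ℕ} (hg : ∀ i, TypedAt R i (Q i)) : HasFTyped p Y M Q :=
  ⟨A, h, T, n, X, inferInstance, R, hgen, hT, fun i => (hg i).lNode hgen⟩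

end Generic

open Cfsg.Agent.Nodes.TypeC
open Cfsg.Agent.Nodes.WittRGD Cfsg.Agent.Nodes.RGDLib Cfsg.Agent.Nodes.WittModel
open Cfsg.Agent.TitsThree Cfsg.Agent.TitsThree.Siegel Cfsg.Agent.TitsThree.WittFrame
  Cfsg.Agent.TitsThree.WittWeyl Cfsg.Agent.TitsThree.FrameCN
open Cfsg.Agent.Nodes.WittRoot
open Cfsg.Agent.FixBN.WittNodeB (Jm Jm_w Jm_c conj_Z_eq conj_X_eq mem_B_of_eq nx_of_not mem_X_last mem_X_I Z_mul'
  X_add' X_eq_one Z_eq_one mem_T_of_mono)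

section Model

variable {F : Type*} [Field F] {V : Type*} [AddCommGroup V] [Module F V] {H : HForm F V} {n : ℕ}
  {Fr : Frame H (Fin n)} {K : Type*} [Group K] (M : Model Fr K)

theorem nX_mem' (a b : Fin n × Bool) (t : F) : nX Fr a b t ∈ M.I :=
  mul_mem (mul_mem (M.hX _ _ _) (M.hX _ _ _)) (M.hX _ _ _)

theorem nZ_mem' (a : Fin n × Bool) (p : Fr.Adm) : nZ Fr a p ∈ M.I :=
  mul_mem (mul_mem (M.hZ _ _) (M.hZ _ _)) (M.hZ _ _)

theorem nn_mem' (p0 : Fr.Adm) (i : Fin n) : Nodes.WittRGD.nn Fr p0 i ∈ M.I := by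
  unfold Nodes.WittRGD.nn
  split_ifs
  · exact nX_mem' M _ _ _
  · exact nZ_mem' M _ _

/-- The Weyl elements. -/
noncomputable def nw' (p0 : Fr.Adm) (i : Fin n) : K := M.φ ⟨Nodes.WittRGD.nn Fr p0 i, nn_mem' M p0 i⟩

variable {M} {p0 : Fr.Adm} (hp0 : p0.c ≠ 0) {W : Type*} [Group W]
  {cs : CoxeterSystem (CoxeterMatrix.B n) W} {p : ℕ} (R : RGD cs (isCartan n) p (T M) (nw' M p0) (X M))

include hp0 R in
/-- The rank one relation at the last node. -/
theorem inv_Z {i : Fin n} (hi : ¬ (i : ℕ) + 1 < n) {q : Fr.Adm} (hq : q.c ≠ 0) :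
    (M.Z (i, true) (Jm Fr p0 hp0 q) * nw' M p0 i)⁻¹ * (nw' M p0 i * M.Z (i, true) q * nw' M p0 i) ∈
      RGD.B cs (isCartan n) (T M) (X M) := by
  obtain ⟨q', p1, hp1, e⟩ := conj_Z_eq Fr (i, true) p0 hp0 q hq
  have hnn : Nodes.WittRGD.nn Fr p0 i = nZ Fr (i, true) p0 := by unfold Nodes.WittRGD.nn; rw [if_neg hi]
  have e' : nw' M p0 i * M.Z (i, true) q * (nw' M p0 i)⁻¹ =
      M.Z (i, true) (Jm Fr p0 hp0 q) * M.φ ⟨nZ Fr (i, true) p1, nZ_mem' M _ _⟩ * M.Z (i, true) q' := by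
    unfold nw' Model.Z
    rw [← map_inv, ← map_mul, ← map_mul, ← map_mul, ← map_mul]
    congr 1
    apply Subtype.ext
    show Nodes.WittRGD.nn Fr p0 i * Fr.Z (i, true) q * (Nodes.WittRGD.nn Fr p0 i)⁻¹ = _
    rw [hnn, e]
    rfl
  refine mem_B_of_eq R i e' ?_ ((mem_X_last hi).2 ⟨q', rfl⟩)
  exact mem_T_of_mono M _ _ (mono_nn hp0 i) (mono_nZ hi hp1)

include hp0 R in
/-- The rank one relation at the other nodes. -/
theorem inv_X {i : Fin n} (hi : (i : ℕ) + 1 < n) {t : F} (ht : t ≠ 0) :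
    (M.X (i, true) (nx i) (-t⁻¹) * nw' M p0 i)⁻¹ * (nw' M p0 i * M.X (i, true) (nx i) t * nw' M p0 i) ∈
      RGD.B cs (isCartan n) (T M) (X M) := by
  have hne' : ((i, true) : Fin n × Bool).1 ≠ (nx i).1 := by
    unfold nx; rw [dif_pos hi]; simp [Fin.ext_iff]
  have hnn : Nodes.WittRGD.nn Fr p0 i = nX Fr (i, true) (nx i) 1 := by unfold Nodes.WittRGD.nn; rw [if_pos hi]
  have e' : nw' M p0 i * M.X (i, true) (nx i) t * (nw' M p0 i)⁻¹ =
      M.X (i, true) (nx i) (-t⁻¹) * M.φ ⟨nX Fr (i, true) (nx i) t⁻¹, nX_mem' M _ _ _⟩ *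
        M.X (i, true) (nx i) (-t⁻¹) := by
    unfold nw' Model.X
    rw [← map_inv, ← map_mul, ← map_mul, ← map_mul, ← map_mul]
    congr 1
    apply Subtype.ext
    show Nodes.WittRGD.nn Fr p0 i * Fr.X (i, true) (nx i) t * (Nodes.WittRGD.nn Fr p0 i)⁻¹ = _
    rw [hnn, conj_X_eq Fr hne' ht]
    rfl
  refine mem_B_of_eq R i e' ?_ ((mem_X_I hi).2 ⟨_, rfl⟩)
  exact mem_T_of_mono M _ _ (mono_nn hp0 i) (mono_nX hi (inv_ne_zero ht))

end Model

section Good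

variable {F : Type} [Field F] {V : Type*} [AddCommGroup V] [Module F V] {H : HForm F V} {n : ℕ}
  {Fr : Frame H (Fin n)} {K : Type*} [Group K] {M : Model Fr K}
  {p0 : Fr.Adm} (hp0 : p0.c ≠ 0) {p : ℕ}
  (R : RGD (CoxeterMatrix.B n).toCoxeterSystem (isCartan n) p (T M) (nw' M p0) (X M))

include hp0 in
/-- The nodes of type I. -/
theorem typedAt_X [Finite F] {i : Fin n} (hi : (i : ℕ) + 1 < n) : TypedAt R i (Nat.card F) := by
  have hne' : ((i, true) : Fin n × Bool).1 ≠ (nx i).1 := by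
    unfold nx; rw [dif_pos hi]; simp [Fin.ext_iff]
  refine ⟨F, inferInstance, inferInstance, M.X (i, true) (nx i), rfl, X_add' M _ _,
    fun a => (mem_X_I hi).2 ⟨a, rfl⟩, fun u hu => (mem_X_I hi).1 hu, fun a ha => X_eq_one M hne' ha,
    fun a ha => inv_X hp0 R hi ha⟩

include hp0 in
/-- The last node: a field parametrisation of the admissible pairs. -/
theorem typedAt_Z {i : Fin n} (hi : ¬ (i : ℕ) + 1 < n) {E : Type} [Field E] [Finite E]
    (f : E → Fr.Adm) (hf : ∀ a b, f (a + b) = f a * f b) (hs : Function.Surjective f)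
    (hc : ∀ a, (f a).c = 0 → a = 0)
    (hJw : ∀ a, a ≠ 0 → (H.ε⁻¹ * H.σ p0.c * (f a).c⁻¹) • (refl Fr p0 hp0 (f a)).w = (f (-a⁻¹)).w)
    (hJc : ∀ a, a ≠ 0 → H.ε⁻¹ * (p0.c * H.σ p0.c) * (f a).c⁻¹ = (f (-a⁻¹)).c) : TypedAt R i (Nat.card E) := by
  refine ⟨E, inferInstance, inferInstance, fun a => M.Z (i, true) (f a), rfl, fun a b => ?_,
    fun a => (mem_X_last hi).2 ⟨_, rfl⟩, fun u hu => ?_, fun a ha => ?_, fun a ha => ?_⟩
  · show M.Z (i, true) (f (a + b)) = M.Z (i, true) (f a) * M.Z (i, true) (f b)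
    rw [hf, Z_mul']
  · obtain ⟨q, rfl⟩ := (mem_X_last hi).1 hu
    obtain ⟨a, rfl⟩ := hs q
    exact ⟨a, rfl⟩
  · have h1 := Z_eq_one M ha
    exact hc a (by rw [h1]; rfl)
  · have hca : (f a).c ≠ 0 := fun h => ha (hc a h)
    have h1 := inv_Z hp0 R hi hca
    have h3 : Jm Fr p0 hp0 (f a) = f (-a⁻¹) := by
      apply Frame.Adm.ext
      · rw [Jm_w, hJw a ha]
      · rw [Jm_c Fr p0 hp0 _ hca, hJc a ha]
    rw [h3] at h1
    exact h1

end Good

/-- A group modelled on a Witt frame, commutative torus, typed last node. -/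
theorem hasTyped_model {F : Type} [Field F] [Finite F] {V : Type*} [AddCommGroup V] [Module F V] [Finite V]
    {H : HForm F V} {n : ℕ} {Fr : Frame H (Fin n)} {K : Type*} [Group K] (M : Model Fr K) {p : ℕ} [Fact p.Prime]
    [CharP F p] (hA : Nodes.WittAll.AmbT Fr p M.I) {p0 : Fr.Adm} (hp0 : p0.c ≠ 0) (hn : 0 < n) (hT : Group.IsSolvable (T M))
    {Q : Fin n → ℕ} (hQ : ∀ i : Fin n, (i : ℕ) + 1 < n → Q i = Nat.card F)
    (hlast : ∀ (R : RGD (CoxeterMatrix.B n).toCoxeterSystem (isCartan n) p (T M) (nw' M p0) (X M)) (i : Fin n),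
      ¬ (i : ℕ) + 1 < n → TypedAt R i (Q i)) : HasFTyped p K (CoxeterMatrix.B n) Q := by
  have hfin : Finite (CoxeterMatrix.B n).Group := finite_W (CoxeterMatrix.B n).toCoxeterSystem
  have R : RGD (CoxeterMatrix.B n).toCoxeterSystem (isCartan n) p (T M) (nw' M p0) (X M) :=
    Nodes.WittAll.rgdC_model M hA hp0 (CoxeterMatrix.B n).toCoxeterSystem
  have hgen := NodeRGD.gen_of_top R (Nodes.WittModel.G1_eq_top M hn (CoxeterMatrix.B n).toCoxeterSystem)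
  refine hasTyped R hgen hT fun i => ?_
  by_cases hi : (i : ℕ) + 1 < n
  · rw [hQ i hi]
    exact typedAt_X hp0 R hi
  · exact hlast R i hi

end Cfsg.Agent.H460.FTypWitt
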