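import Cfsg.Agent.H460.FTypWitt
import Cfsg.Agent.FixBN.WittNodeC

/-!
# `PSp_{2m}(F)` and `PSU_n(q)` have typed root group data, every characteristic (helper14)

* `ftyped_psp` : `PSp m F`, type `B_m`, all nodes of order `|F|`;
* `ftyped_psu_even` : `PSU (2 m) F q`.
-/

set_option autoImplicit false

namespace Cfsg.Agent.H460.FTypC

open Cfsg Cfsg.Agent.LieClassical.HermBasic Cfsg.Agent.LieClassical.HermGen
open Cfsg.Agent.ChevalleyStructure.CoxeterGeom Cfsg.Agent.Tits.Roots Cfsg.Agent.Nodes.TypeC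
open Cfsg.Agent.Nodes.Comb Cfsg.Agent.Nodes.Reps Cfsg.Agent.Nodes.WittRoot Cfsg.Agent.Nodes.BNOf
open Cfsg.Agent.Nodes.WittRGD Cfsg.Agent.Nodes.RGDLib Cfsg.Agent.Nodes.WittModel Cfsg.Agent.Nodes.WittU
open Cfsg.Agent.TitsThree Cfsg.Agent.TitsThree.Siegel Cfsg.Agent.TitsThree.SiegelGen
  Cfsg.Agent.TitsThree.WittFrame Cfsg.Agent.TitsThree.WBridge Cfsg.Agent.TitsThree.WittWeyl
  Cfsg.Agent.TitsThree.FrameCN Cfsg.Agent.TitsThree.KSideU Cfsg.Agent.TitsThree.KSideUDesc
open Cfsg.Agent.FixBN Cfsg.Agent.FixBN.WittNodeA Cfsg.Agent.FixBN.WittNodeB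
open Cfsg.Agent.FixBN.WittNodeC (comm_of_frame comm_Tor isSolvable_T)
open Cfsg.Agent.H185.TypedTw (FNode HasFTyped)
open Cfsg.Agent.H460.Typed Cfsg.Agent.H460.FTypWitt
open Cfsg.Agent.Nodes.WittAll (AmbT)

/-! ### Symplectic groups -/

section Symplectic

open SpIdent SpGen

/-- **`PSp_{2m}(F)`, every characteristic.** -/
theorem ftyped_psp (F : Type) [Field F] [Finite F] {p : ℕ} [Fact p.Prime] [CharP F p] {m : ℕ} (hm : 1 ≤ m) :
    HasFTyped p (PSp m F) (CoxeterMatrix.B m) (fun _ => Nat.card F) := by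
  have h10 : (SpIdent.adm 1 : (frame m F).Adm).c ≠ 0 := one_ne_zero
  refine hasTyped_model (KInstSp.model m F) (AmbT.of_amb amb_Sp p) h10 (by omega) ?_ (fun _ _ => rfl) ?_
  · refine isSolvable_T _ fun g k hg hk => ?_
    refine comm_of_frame (wframe m F) 0 ?_ (fun x => ?_) (fun x => ?_) (by simp only [map_zero])
    · rw [Submodule.span_zero_singleton]; rfl
    · obtain ⟨l, -, e1⟩ := hg.2 x
      exact ⟨l, e1⟩
    · obtain ⟨l, -, e1⟩ := hk.2 x
      exact ⟨l, e1⟩
  · intro R i hi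
    refine typedAt_Z h10 R hi SpIdent.adm
      SpIdent.adm_add (fun q => ⟨q.c, (SpIdent.eq_adm q).symm⟩) (fun a ha => ha) (fun a ha => ?_) fun a ha => ?_
    · show _ • ((0 : Fin m ⊕ Fin m → F) + _ • (0 : Fin m ⊕ Fin m → F)) = 0
      rw [smul_zero, add_zero, smul_zero]
    · show (-1 : F)⁻¹ * (1 * 1) * a⁻¹ = -a⁻¹
      rw [inv_neg, inv_one]; ring

end Symplectic

/-! ### Unitary groups -/

section Unitary

variable {F : Type} [Field F] [Fintype F] {q N : ℕ} (hF : Fintype.card F = q ^ 2) {m : ℕ} {p : ℕ} [Fact p.Prime]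
  [CharP F p]

omit [Field F] in
include hF in
theorem natCard_F : Nat.card F = q ^ 2 := by rw [Nat.card_eq_fintype_card, hF]

include hF in
/-- Even dimension. -/
theorem typed_even (hN : 3 ≤ N) (W : WFrame (PU hF N) m) (hm : 0 < m) (hW : W.V0 = ⊥) :
    HasFTyped p (PSU N F q) (CoxeterMatrix.B m) (fun i => if (i : ℕ) + 1 < m then q ^ 2 else q) := by
  obtain ⟨c0, hc0, hc⟩ := exists_trace_zero_ne hF
  have hσc : c0 ^ q = -c0 := by linear_combination hc
  have hok : ∀ a : F, a ^ q = a → (toFrame W).ok 0 (a * c0) := by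
    intro a ha
    refine ⟨W.V0.zero_mem, ?_⟩
    rw [ok_iff, herm_zero_left, mul_pow, ha, hσc]
    ring
  let E : Subfield F := RingHom.eqLocusField ((conj hF : F ≃+* F) : F →+* F) (RingHom.id F)
  have hE : ∀ a : E, (a : F) ^ q = a := fun a => a.2
  have hcE : Nat.card E = q := card_fixed hF
  let p0 : (toFrame W).Adm := ⟨0, 1 * c0, hok 1 (one_pow q)⟩
  have hp0 : p0.c ≠ 0 := by
    show 1 * c0 ≠ 0
    rwa [one_mul]
  refine hasTyped_model (KInstU.model hF hN W) (AmbT.of_amb (amb_U hF W) p) hp0 hm ?_ ?_ ?_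
  · exact isSolvable_T _ fun g k hg hk =>
      comm_Tor W (amb_U hF W) 0 (by rw [hW, Submodule.span_zero_singleton]) hg hk
  · intro i hi
    rw [if_pos hi, natCard_F hF]
  · intro R i hi
    rw [if_neg hi]
    have h1 : TypedAt R i (Nat.card E) := by
      refine typedAt_Z hp0 R hi (E := E) (fun a => ⟨0, (a : F) * c0, hok a (hE a)⟩) ?_ ?_ ?_ ?_ ?_
      · intro a b
        apply Frame.Adm.ext
        · show (0 : Fin N → F) = 0 + 0
          rw [add_zero]
        · show ((a : F) + b) * c0 = a * c0 + b * c0 - (HU hF N).ε⁻¹ * (HU hF N).h 0 0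
          rw [HForm.zero_left]; ring
      · rintro ⟨w, c, hw, hok'⟩
        have hw0 : w = 0 := by
          rw [hW] at hw
          exact (Submodule.mem_bot F).1 hw
        subst hw0
        rw [ok_iff, herm_zero_left, neg_zero] at hok'
        refine ⟨⟨c * c0⁻¹, ?_⟩, ?_⟩
        · show (c * c0⁻¹) ^ q = c * c0⁻¹
          rw [mul_pow, inv_pow, hσc]
          have h1 : c ^ q = -c := by linear_combination hok'
          rw [h1]
          field_simp
        · apply Frame.Adm.ext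
          · rfl
          · show c * c0⁻¹ * c0 = c
            field_simp
      · intro a ha
        change (a : F) * c0 = 0 at ha
        exact Subtype.ext ((mul_eq_zero.1 ha).resolve_right hc0)
      · intro a ha
        show _ • ((0 : Fin N → F) + _ • (0 : Fin N → F)) = 0
        rw [smul_zero, add_zero, smul_zero]
      · intro a ha
        have ha' : (a : F) ≠ 0 := fun h => ha (Subtype.ext h)
        show (1 : F)⁻¹ * ((1 * c0) * (1 * c0) ^ q) * ((a : F) * c0)⁻¹ = (-(a : F)⁻¹) * c0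
        rw [one_mul, hσc]
        field_simp
    rwa [hcE] at h1

include hF in
/-- **`PSU_{2m}(q)`, every characteristic.** -/
theorem ftyped_psu_even (hm : 2 ≤ m) :
    HasFTyped p (PSU (2 * m) F q) (CoxeterMatrix.B m) (fun i => if (i : ℕ) + 1 < m then q ^ 2 else q) := by
  obtain ⟨W, hW⟩ := exists_wframe_even hF (N := 2 * m) (m := m) rfl
  exact typed_even hF (by omega) W (by omega) hW

end Unitary

end Cfsg.Agent.H460.FTypC
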