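import Cfsg.Agent.H839.Rad.HNFive
import Cfsg.Agent.H478.HN3E
import Cfsg.Agent.CpAutHN.Main
import Cfsg.Agent.H235.AA.Row
import Cfsg.Agent.H235.AA.Center

/-!
# The `AA` problem for `HN`: assembly (helper460; the prime 3 by helper478, the prime 5 by helper839 and helper235)
-/

set_option autoImplicit false

namespace Cfsg.Agent.H460.HNRow

open Subgroup Cfsg Cfsg.Agent.H460.AA Cfsg.Agent.H459.Rad Cfsg.Agent.H839.Rad
open Cfsg.Agent.H235.AA.Tools

theorem np_three : NP 3 Cfsg.Spor.HN := NP.of_rc fun _ hx hR => Cfsg.Agent.H478.HNThree.false_of_rc hx hR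

theorem np_five : NP 5 Cfsg.Spor.HN := by
  have : Finite Cfsg.Spor.HN := Nat.finite_of_card_ne_zero (by rw [Cfsg.Agent.KFacts.HN.Classes.card_HN]; norm_num)
  refine Cfsg.Agent.H235.AA.Center.np_of_index HN.centre (by norm_num) HN.isPGroup_Q HN.not_dvd_card ?_ HN.norm
  exact le_trans (by norm_num) (Nat.le_of_dvd Nat.card_pos HN.pow_five_dvd_card_Q)

theorem core {K : Type*} [Group K] [Finite K] (h : Cfsg.Spor.IsoHN K) : Core K := by
  obtain ⟨e⟩ := h
  have hf : Finite Cfsg.Spor.HN := Finite.of_equiv K e.toEquiv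
  refine Core.of_equiv e ?_
  have hs : IsSimpleGroup Cfsg.Spor.HN := Cfsg.Agent.S1701.result.1
  refine core_of_card (s := 2 ^ 14 * 3 ^ 6 * 5 ^ 6) (m := 7 * 11 * 19)
    (by rw [Cfsg.Agent.KFacts.HN.Classes.card_HN]; norm_num) ?_ (by norm_num)
    (fun p hp hp2 x hx => Cfsg.Agent.CpAutHN.Main.autInner p hp.out hp2 x hx) ?_
  · rw [Nat.squarefree_mul_iff, Nat.squarefree_mul_iff]
    refine ⟨by norm_num, ⟨by norm_num, ?_, ?_⟩, ?_⟩
    · exact Irreducible.squarefree (by norm_num : Nat.Prime 7)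
    · exact Irreducible.squarefree (by norm_num : Nat.Prime 11)
    · exact Irreducible.squarefree (by norm_num : Nat.Prime 19)
  · intro p hp hp2 hd
    rcases (Nat.Prime.dvd_mul hp).1 hd with h1 | h1
    · rcases (Nat.Prime.dvd_mul hp).1 h1 with h2 | h2
      · exact absurd ((Nat.prime_dvd_prime_iff_eq hp Nat.prime_two).1 (hp.dvd_of_dvd_pow h2)) hp2
      · rw [(Nat.prime_dvd_prime_iff_eq hp Nat.prime_three).1 (hp.dvd_of_dvd_pow h2)]
        exact np_three
    · rw [(Nat.prime_dvd_prime_iff_eq hp (by norm_num : Nat.Prime 5)).1 (hp.dvd_of_dvd_pow h1)]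
      exact np_five

end Cfsg.Agent.H460.HNRow
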