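import Cfsg.Agent.H460.FamB
import Cfsg.Agent.H491.AA.Alt
import Cfsg.Agent.H654.AAPsl2
import Cfsg.Agent.H953.CorePsu3
import Cfsg.Agent.H521.AASz
import Cfsg.Agent.H521.AARee
import Cfsg.Agent.H84.CoreTwF
import Cfsg.Agent.H102.AACore
import Cfsg.Agent.H561.AAFi22
import Cfsg.Agent.H561.AAFi23
import Cfsg.Agent.H561.AAFi24
import Cfsg.Agent.H561.AAB
import Cfsg.Agent.H561.AAM
import Cfsg.Agent.H235.AA.Th3
import Cfsg.Agent.H460.HNRow
import Cfsg.Agent.H177.AAHS
import Cfsg.Agent.H177.AACo3
import Cfsg.Agent.H177.AACo2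
import Cfsg.Agent.H177.AACo1
import Cfsg.Agent.H164.AATits
import Cfsg.Agent.H177.AAMcL
import Cfsg.Agent.H164.AASuz
import Cfsg.Agent.H235.AA.J4
import Cfsg.Agent.H235.AA.Ly
import Cfsg.Agent.H235.AA.Ru
import Cfsg.Agent.H235.AA.He
import Cfsg.Agent.H235.AA.ON
import Cfsg.Agent.H422.OwnAll

/-!
# `Core` of all known simple groups (helper460)

`core_known` : all known simple groups.
-/

set_option autoImplicit false

namespace Cfsg.Agent.H460.Fam

open Cfsg Subgroup Cfsg.Agent.H460.AA

section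

variable {K L : Type*} [Group K] [Group L]

/-- transport of `Core` along an isomorphism, the simplicity too -/
theorem core_tr [Finite K] [IsSimpleGroup K] (h : IsSimpleGroup L → Core L) (e : K ≃* L) : Core K :=
  Core.of_equiv e (h (e.symm.isSimpleGroup))

end

variable {K : Type*} [Group K] [Finite K] [IsSimpleGroup K]

theorem core_isPSL (h : IsPSL K) : Core K := by
  obtain ⟨F, _, _, n, hn, h4, ⟨e⟩⟩ := h
  rcases hn.eq_or_lt with rfl | hn
  · exact Core.of_equiv e (H654.AAPsl2.core_psl2 F (by rw [Nat.card_eq_fintype_card]; exact h4 rfl))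
  · rcases (Nat.succ_le_of_lt hn).eq_or_lt with h3 | h3
    · obtain rfl : n = 3 := by omega
      exact core_tr (fun _ => core_psl3 fun h3 => H422.OwnAll.own3_PSL3 h3) e
    · obtain ⟨m, rfl⟩ : ∃ m, n = m + 1 := ⟨n - 1, by omega⟩
      exact core_tr (fun _ => core_psl_ge (by omega)) e

theorem core_isPSp (h : IsPSp K) : Core K := by
  obtain ⟨F, _, _, m, hm, h2, ⟨e⟩⟩ := h
  exact core_tr (fun _ => core_psp hm h2 fun h3 h4 => by subst h3; exact H422.OwnAll.own3_PSp4 h4) e

theorem core_isPSU (h : IsPSU K) : Core K := by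
  obtain ⟨F, _, _, n, q, hF, h3, h2, ⟨e⟩⟩ := h
  rcases Nat.even_or_odd' n with ⟨m, rfl | rfl⟩
  · refine core_tr (fun _ => core_psu_even hF (by omega) fun hm hq => ?_) e
    subst hm
    exact H422.OwnAll.own3_PSU4 hF hq
  · rcases Nat.lt_or_ge m 2 with h4 | h4
    · obtain rfl : m = 1 := by omega
      have hq : 3 ≤ q := by
        by_contra hcon
        have h5 : 1 < Fintype.card F := Fintype.one_lt_card
        rw [hF] at h5
        have h6 : q ≠ 2 := fun h => h2 ⟨rfl, h⟩
        interval_cases q <;> omega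
      exact core_tr (fun _ => H953.CorePsu3.core_psu3 hF hq) e
    · exact core_tr (fun _ => core_psu_odd hF h4) e

theorem core_isPOmegaOdd (h : IsPOmegaOdd K) : Core K := by
  obtain ⟨F, _, _, m, hm, hq, ⟨e⟩⟩ := h
  exact core_tr (fun _ => core_odd hm (by rw [Nat.card_eq_fintype_card]; exact hq)) e

theorem core_isPOmegaPlus (h : IsPOmegaPlus K) : Core K := by
  obtain ⟨F, _, _, m, hm, ⟨e⟩⟩ := h
  exact core_tr (fun _ => core_plus hm) e

theorem core_isPOmegaMinus (h : IsPOmegaMinus K) : Core K := by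
  obtain ⟨F, _, _, m, a, b, hm, hab, ⟨e⟩⟩ := h
  exact core_tr (fun _ => core_minus hm a b hab) e

theorem core_exc (h : IsExceptionalLieType K) : Core K := by
  rcases h with h | h | h | h | h | h | h | h | h | h | h
  · obtain ⟨F, _, _, h3, ⟨e⟩⟩ := h
    exact core_tr (fun _ => core_G2 F (by rw [Nat.card_eq_fintype_card]; exact h3)
      fun h4 => H422.OwnAll.own3_G2 F h4) e
  · obtain ⟨F, _, _, ⟨e⟩⟩ := h
    exact core_tr (fun _ => core_F4 F) e
  · obtain ⟨F, _, _, ⟨e⟩⟩ := h
    exact core_tr (fun _ => core_E6 F) e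
  · obtain ⟨F, _, _, ⟨e⟩⟩ := h
    exact core_tr (fun _ => core_E7 F) e
  · obtain ⟨F, _, _, ⟨e⟩⟩ := h
    exact core_tr (fun _ => core_E8 F) e
  · obtain ⟨F, _, _, q, hq, hF, ⟨e⟩⟩ := h
    exact core_tr (fun _ => core_2E6 hq (by rw [Nat.card_eq_fintype_card]; exact hF)) e
  · obtain ⟨F, _, _, q, hq, hF, ⟨e⟩⟩ := h
    exact core_tr (fun _ => core_3D4 hq hF fun h3 => H422.OwnAll.own3_3D4 hF h3) e
  · exact H521.AASz.core_sz h
  · exact H521.AARee.core_ree h
  · exact H84.CoreTwF.core_2F4 h
  · exact H164.AATits.core_tits h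

theorem core_spor (hna : ¬ IsMulCommutative K) (h : IsSporadicGroup K) : Core K := by
  rcases h with h | h | h | h | h | h | h | h | h | h | h | h | h | h | h | h | h | h | h | h | h | h | h | h | h | h
  · exact H102.AACore.core_m11 hna h
  · exact H102.AACore.core_m12 hna h
  · exact H102.AACore.core_m22 hna h
  · exact H102.AACore.core_m23 hna h
  · exact H102.AACore.core_m24 hna h
  · exact H102.AACore.core_j1 hna h
  · exact H102.AACore.core_j2 hna h
  · exact H102.AACore.core_j3 hna h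
  · exact H235.AA.J4.core h
  · exact H177.AACo1.core_co1 h
  · exact H177.AACo2.core_co2 h
  · exact H177.AACo3.core_co3 h
  · exact H177.AAMcL.core_mcl h
  · exact H177.AAHS.core_hs h
  · exact H164.AASuz.core_suz h
  · exact H235.AA.He.core h
  · exact H235.AA.Ru.core h
  · exact H235.AA.ON.core h
  · exact H235.AA.Ly.core h
  · exact H561.AAFi22.core h
  · exact H561.AAFi23.core h
  · exact H561.AAFi24.core h
  · exact HNRow.core h
  · exact H235.AA.Th3.core h
  · exact H561.AAB.core h
  · exact H561.AAM.core h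

/-- **`Core` of all known simple groups.** -/
theorem core_known (hna : ¬ IsMulCommutative K) (h : IsKnownSimple' K) : Core K := by
  rcases h with h | h | h | h | h | h | h | h | h | h
  · exact absurd (by
      have : Fact (Nat.card K).Prime := ⟨h⟩
      exact (isCyclic_of_prime_card (p := Nat.card K) rfl).isMulCommutative) hna
  · obtain ⟨n, hn, ⟨e⟩⟩ := h
    exact Core.of_equiv e (H491.AA.core_alt n hn)
  · exact core_isPSL h
  · exact core_isPSp h
  · exact core_isPSU h
  · exact core_isPOmegaOdd h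
  · exact core_isPOmegaPlus h
  · exact core_isPOmegaMinus h
  · exact core_exc h
  · exact core_spor hna h

end Cfsg.Agent.H460.Fam
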