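import Cfsg.Agent.H460.EllPan

/-!
# Elliptic automorphisms, central opposition (helper460, AA-engine)

`t.θ` type preserving, in no proper residue. `Full cs w`: `w` lies in no proper standard parabolic subgroup.
* `exists_delta'` : every full `w` is a displacement;
* `three_false` : `θ ^ 3 = 1` is impossible if some full `w` has `ℓ (w * w) = 2 * ℓ w`;
* `central_false` : the conclusion for `w0` central.
-/

set_option autoImplicit false
set_option linter.unusedSectionVars false

open scoped Pointwise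

namespace Cfsg.Agent.H460.EllC

open Cfsg.Agent.Tits.Core Cfsg.Agent.Tits.Core.Bldg Cfsg.Agent.Tits.Exchange Cfsg.Agent.Tits
open Cfsg.Agent.FixBN (Sys famStab mem_famStab)
open Cfsg.Agent.FixBN.Cox (Par Ad)
open Cfsg.Agent.FixOdd (Tw)
open Cfsg.Agent.H460.OppPanel Cfsg.Agent.H460.AA Cfsg.Agent.H460.EllPan Cfsg.Agent.H460.Pan

variable {I : Type*} {M : CoxeterMatrix I} {W : Type*} [Group W] {cs : CoxeterSystem M W} {C : Type*}

variable {Δ : Bldg cs C} {G : Type*} [Group G] [MulAction G C] {p : ℕ} (S : Sys Δ G p) {t : Tw Δ G}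

/-- `w` lies in no proper standard parabolic subgroup -/
def Full (cs : CoxeterSystem M W) (w : W) : Prop := ∀ K : Set I, w ∈ WJ cs K → K = Set.univ

/-- `θ` maps no chamber into a proper residue of it -/
def Elliptic (t : Tw Δ G) : Prop := ∀ (y : C) (J : Set I), t.θ y ∈ Δ.Res J y → J = Set.univ

variable [F : OppRes.Cox cs]

theorem full_w0 : Full cs (w0 cs) := by
  intro K hK
  refine Set.eq_univ_of_forall fun i => F.descent_mem K _ hK i ?_
  have h1 := F.len_mul_w0 (cs.simple i)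
  have h2 := F.len_w0_mul (cs.simple i)
  rw [cs.length_simple] at h2
  omega

theorem φ_eq (hσ : ∀ i, t.σ i = i) (w : W) : t.φ w = w := by
  have h : (t.φ : W →* W) = MonoidHom.id W := by
    refine cs.ext_simple fun i => ?_
    change t.φ (cs.simple i) = cs.simple i
    rw [t.φ_simple, hσ]
  exact DFunLike.congr_fun h w

section

variable [Finite I] [Finite C] [hp : Fact p.Prime] (hth : Δ.Thick) (hσ : ∀ i, t.σ i = i) (hell : Elliptic t)

include S hth hσ hell

/-- every full element is a displacement -/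
theorem exists_delta' [hC : Nonempty C] {w : W} (hw : Full cs w) : ∃ y, Δ.δ y (t.θ y) = w := by
  obtain ⟨x⟩ := hC
  have hmem : ∀ y : C, y ∈ Δ.Res Set.univ x := fun y => by rw [Δ.Res_univ]; trivial
  obtain ⟨y, -, hy⟩ := OppTrace.exists_delta (Δ := Δ) (J := Set.univ) (x := x) (p := p) (φ := t.φ) (σ := t.σ)
    (θ := t.θ) t.φ_simple (fun i _ => trivial) t.δ_θ (fun y _ => hmem _) (fun y _ => hmem _)
    (fun y _ K _ _ h => hell y K h) (fun i _ a _ => S.card_Pan_eq hth a i) one_pos
    (by rw [pow_one]; exact Equiv.ext hσ) (w := w) (by rw [WJ_univ]; trivial)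
    (fun K _ _ h => hw K h)
  exact ⟨y, hy⟩

/-- **Order three.** -/
theorem three_false [Nonempty C] (h3 : t.θ ^ 3 = 1) {w : W} (hw : Full cs w) (hl : cs.length (w * w) = 2 * cs.length w)
    (hpos : 0 < cs.length w) : False := by
  obtain ⟨y, hy⟩ := exists_delta' S hth hσ hell hw
  have h1 : Δ.δ (t.θ y) (t.θ (t.θ y)) = w := by rw [t.δ_θ, hy, φ_eq hσ]
  have h2 : Δ.δ y (t.θ (t.θ y)) = w * w := Δ.δ_mul_of hy h1 (by rw [hl]; ring)
  have h4 : t.θ (t.θ (t.θ y)) = y := by
    have := DFunLike.congr_fun h3 y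
    simpa [pow_succ] using this
  have h5 : Δ.δ (t.θ (t.θ y)) y = w := by
    have h6 : Δ.δ (t.θ (t.θ y)) (t.θ (t.θ (t.θ y))) = w := by rw [t.δ_θ, h1, φ_eq hσ]
    rwa [h4] at h6
  have h6 : w * w = w⁻¹ := by rw [← h2, Δ.symm (t.θ (t.θ y)) y, h5]
  have h7 := congrArg cs.length h6
  rw [hl, cs.length_inv] at h7
  omega

/-- The permutation of a panel of a chamber opposite its image. -/
theorem exists_pan' [Finite G] (hw0 : ∀ i, w0 cs * cs.simple i * w0 cs = cs.simple i) {r : ℕ} [hr : Fact r.Prime]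
    (hP : ∀ g : G, PE r (t.θ * MulAction.toPerm g * t.θ * (MulAction.toPerm g)⁻¹ : Equiv.Perm C)) {y : C}
    (hy : Δ.δ y (t.θ y) = w0 cs) (i : I) :
    ∃ f ∈ famStab (S.fam i y), f ⟨y, Δ.self_mem_Pan i y⟩ ≠ ⟨y, Δ.self_mem_Pan i y⟩ ∧
      (∀ m ∈ ⨆ z, S.fam i y z, PE r (f * (m * f * m⁻¹))) ∧
      ∀ c : Δ.Pan i y, f c ≠ c → Δ.δ (c : C) (t.θ c) = w0 cs := by
  obtain ⟨b, hA⟩ := exists_ad_self (cs := cs) (φ := t.φ) (σ := t.σ) t.φ_simple hσ (K := {i})
    (fun j hj => ⟨j, hj, hw0 j⟩)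
  have hV := opp_OppV hA hy
  obtain ⟨f, h1, h2, h3, h4⟩ := exists_pan S hth hA hV hP
  have hwi : wJ cs ({i} : Set I) = cs.simple i := by
    have h5 := F.wJ_mem ({i} : Set I)
    have h6 : wJ cs ({i} : Set I) ≠ 1 := by
      intro h7
      have := F.len_wJ_mul (simple_mem_WJ cs (Set.mem_singleton i))
      rw [h7, one_mul, cs.length_simple, cs.length_one] at this
      omega
    have h7 := F.len_wJ_mul (simple_mem_WJ cs (Set.mem_singleton i))
    -- elements of `W_i`
    have h8 : ∀ w ∈ WJ cs ({i} : Set I), w = 1 ∨ w = cs.simple i := by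
      intro w hw
      unfold WJ at hw
      rw [Set.image_singleton] at hw
      obtain ⟨n, rfl⟩ := Subgroup.mem_closure_singleton.1 hw
      have hs : cs.simple i ^ (2 : ℤ) = 1 := by
        have := cs.simple_sq i
        exact_mod_cast this
      rcases Int.even_or_odd' n with ⟨k, rfl | rfl⟩
      · left; rw [zpow_mul, hs, one_zpow]
      · right; rw [zpow_add, zpow_mul, hs, one_zpow, one_mul, zpow_one]
    exact (h8 _ h5).resolve_left h6
  have hlong : cs.simple i * b = w0 cs := by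
    have := hA.long'
    rwa [hwi] at this
  have hne : b ≠ w0 cs := by
    intro h5
    rw [h5] at hlong
    have h6 : cs.simple i = 1 := mul_eq_right.1 hlong
    have := cs.length_simple i
    rw [h6, cs.length_one] at this
    omega
  refine ⟨f, h1, ?_, h3, ?_⟩
  · intro h5
    have h6 := (h2 _).1 h5
    change Δ.δ y (t.θ y) = b at h6
    rw [hy] at h6
    exact hne h6.symm
  · intro c hc
    have h5 := h4 c
    -- `δ c (f c) = s_i`
    have h6 : Δ.δ (c : C) (f c : C) = cs.simple i :=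
      Δ.δ_eq_of_mem_Pan c.2 (f c).2 fun h => hc (Subtype.ext h.symm)
    have h7 : cs.length (cs.simple i * b) = cs.length (cs.simple i) + cs.length b := by
      have h8 := hA.par.minL (cs.simple i) (simple_mem_WJ cs (Set.mem_singleton i))
      rw [h8]
    rw [Δ.δ_mul_of h6 h5 h7, hlong]

/-- **Central opposition.** -/
theorem central_false [Finite G] [hC : Nonempty C] (hw0 : ∀ i, w0 cs * cs.simple i * w0 cs = cs.simple i) {r : ℕ}
    [hr : Fact r.Prime]
    (hP : ∀ g : G, PE r (t.θ * MulAction.toPerm g * t.θ * (MulAction.toPerm g)⁻¹ : Equiv.Perm C))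
    (hN : ∀ i y, ¬ r ∣ Nat.card (Δ.Pan i y) → PN r (S.fam i y))
    (hF : (∃ i, ∀ y, ¬ r ∣ Nat.card (Δ.Pan i y)) ∨ ∀ i y, PF r (S.fam i y))
    {w : W} (hw : Full cs w) (hne : w ≠ w0 cs) : False := by
  rcases hF with ⟨i, hi⟩ | hF
  · obtain ⟨y, hy⟩ := exists_delta' S hth hσ hell (full_w0 (cs := cs))
    obtain ⟨f, h1, h2, h3, h4⟩ := exists_pan' S hth hσ hell hw0 hP hy i
    apply h2
    rw [hN i y (hi y) f h1 h3]
    rfl
  · -- all chambers are opposite their images
    have hadj : ∀ y, Δ.δ y (t.θ y) = w0 cs → ∀ i z, Δ.δ y z = cs.simple i → Δ.δ z (t.θ z) = w0 cs := by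
      intro y hy i z hz
      obtain ⟨f, h1, h2, h3, h4⟩ := exists_pan' S hth hσ hell hw0 hP hy i
      refine h4 ⟨z, Or.inr hz⟩ fun h5 => h2 ?_
      rw [hF i y f h1 ⟨_, h5⟩ h3]
      rfl
    obtain ⟨y, hy⟩ := exists_delta' S hth hσ hell (full_w0 (cs := cs))
    have hall : ∀ z, Δ.δ z (t.θ z) = w0 cs := by
      intro z
      refine Δ.Res_induction (J := Set.univ) (x := y) (p := fun z => Δ.δ z (t.θ z) = w0 cs) hy ?_
        (by rw [Δ.Res_univ]; trivial)
      intro a _ b i _ hab ha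
      exact hadj a ha i b hab
    obtain ⟨z, hz⟩ := exists_delta' S hth hσ hell hw
    rw [hall z] at hz
    exact hne hz.symm

end

end Cfsg.Agent.H460.EllC
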