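import Cfsg.Agent.H460.OppPanel
import Cfsg.Agent.H460.Pan
import Cfsg.Agent.FixBN.GoodFam
import Cfsg.Agent.FixBN.TraceSys

/-!
# The permutation `proj ∘ θ` of a residue opposite its image permutes the root groups (helper460)

* `exists_U_of_pElem` : an element acting on `V ∋ z` as a `p`-element fixing `z` acts as an element of `U z`;
* `exists_ad_self` : adjacency data for a type `K` stable under the opposition;
* `opp_OppV` : a chamber opposite its image gives `OppV`;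
* `exists_pan` : the permutation `f` of the panel `Pan i y`.
-/

set_option autoImplicit false
set_option linter.unusedSectionVars false

open scoped Pointwise

namespace Cfsg.Agent.H460.EllPan

open Cfsg.Agent.Tits.Core Cfsg.Agent.Tits.Core.Bldg Cfsg.Agent.Tits.Exchange Cfsg.Agent.Tits
open Cfsg.Agent.FixBN (Sys eq_of_isMinR par_transfer famStab mem_famStab)
open Cfsg.Agent.FixBN.Cox (Par Ad)
open Cfsg.Agent.FixOdd (Tw)
open Cfsg.Agent.H460.OppPanel Cfsg.Agent.H460.AA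

variable {I : Type*} {M : CoxeterMatrix I} {W : Type*} [Group W] {cs : CoxeterSystem M W} {C : Type*}

variable {Δ : Bldg cs C} {G : Type*} [Group G] [MulAction G C] {p : ℕ} (S : Sys Δ G p) (t : Tw Δ G)

/-! ### Elements of `U z` -/

theorem pow_smul_eq {V : Set C} {w : Equiv.Perm V} {k : G} (hk : ∀ c : V, (w c : C) = k • (c : C)) (n : ℕ) (c : V) :
    ((w ^ n) c : C) = k ^ n • (c : C) := by
  induction n with
  | zero => simp
  | succ n ih => rw [pow_succ', Equiv.Perm.mul_apply, hk, ih, ← mul_smul, pow_succ']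

include S in
/-- An element acting on `V ∋ z` as a `p`-element fixing `z` acts as an element of `U z`. -/
theorem exists_U_of_pElem [hp : Fact p.Prime] [Finite G] {V : Set C} {w : Equiv.Perm V} {k : G}
    (hk : ∀ c : V, (w c : C) = k • (c : C)) {z : V} (hz : w z = z) {N : ℕ} (hN : w ^ p ^ N = 1) :
    ∃ u ∈ S.U (z : C), ∀ c : V, (w c : C) = u • (c : C) := by
  have ho : 0 < orderOf k := orderOf_pos k
  obtain ⟨a, m, hm, hkm⟩ := Nat.exists_eq_pow_mul_and_not_dvd ho.ne' p hp.out.ne_one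
  have hcop : Nat.Coprime m (p ^ N) := Nat.Coprime.pow_right _ ((Nat.Prime.coprime_iff_not_dvd hp.out).2 hm).symm
  obtain ⟨e, he1, he2⟩ : ∃ e, e ≡ 1 [MOD p ^ N] ∧ m ∣ e := by
    obtain ⟨e, h1, h2⟩ := Nat.chineseRemainder hcop.symm 1 0
    exact ⟨e, h1, (Nat.modEq_zero_iff_dvd).1 h2⟩
  have hw : w ^ e = w := by
    have h1 : orderOf w ∣ p ^ N := orderOf_dvd_of_pow_eq_one hN
    have h2 : e ≡ 1 [MOD orderOf w] := Nat.ModEq.of_dvd h1 he1
    have h3 := (pow_eq_pow_iff_modEq (x := w) (n := e) (m := 1)).2 h2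
    rwa [pow_one] at h3
  have hke : ∀ c : V, (w c : C) = k ^ e • (c : C) := by
    intro c
    rw [← pow_smul_eq hk, hw]
  have hpe : (k ^ e) ^ p ^ a = 1 := by
    obtain ⟨j, rfl⟩ := he2
    rw [← pow_mul]
    have h1 : m * j * p ^ a = orderOf k * j := by rw [hkm]; ring
    rw [h1, pow_mul, pow_orderOf_eq_one, one_pow]
  refine ⟨k ^ e, ?_, hke⟩
  have h1 : IsPGroup p (Subgroup.zpowers (k ^ e)) := by
    obtain ⟨j, -, hj⟩ := (Nat.dvd_prime_pow hp.out).1 (orderOf_dvd_of_pow_eq_one hpe)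
    exact IsPGroup.of_card (n := j) (by rw [Nat.card_zpowers, hj])
  refine S.max z _ h1 ?_ (Subgroup.mem_zpowers _)
  have h2 : k ^ e • (z : C) = z := by rw [← hke z, hz]
  have h3 : Subgroup.zpowers (k ^ e) ≤ MulAction.stabilizer G (z : C) := by
    rw [Subgroup.zpowers_le]; exact h2
  exact fun v hv => h3 hv

/-- In a finite symmetric group one inclusion suffices. -/
theorem mem_famStab_of_forward {Om : Type*} [Finite Om] {U : Om → Subgroup (Equiv.Perm Om)} {f : Equiv.Perm Om}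
    (h : ∀ z, ∀ g ∈ U z, f * g * f⁻¹ ∈ U (f z)) : f ∈ famStab U := by
  have h1 : ∀ n : ℕ, ∀ z, ∀ g ∈ U z, f ^ n * g * (f ^ n)⁻¹ ∈ U ((f ^ n) z) := by
    intro n
    induction n with
    | zero => intro z g hg; simpa using hg
    | succ n ih =>
      intro z g hg
      have h2 := h _ _ (ih z g hg)
      rw [pow_succ', Equiv.Perm.mul_apply]
      have e : f * f ^ n * g * (f * f ^ n)⁻¹ = f * (f ^ n * g * (f ^ n)⁻¹) * f⁻¹ := by group
      rwa [e]
  intro z g
  refine ⟨h z g, fun hg => ?_⟩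
  have hfin : 0 < orderOf f := orderOf_pos f
  have h2 := h1 (orderOf f - 1) _ _ hg
  have h3 : f ^ (orderOf f - 1) = f⁻¹ := by
    rw [eq_inv_iff_mul_eq_one, ← pow_succ, Nat.sub_add_cancel hfin, pow_orderOf_eq_one]
  rw [h3] at h2
  have e : f⁻¹ * (f * g * f⁻¹) * f⁻¹⁻¹ = g := by group
  have e2 : f⁻¹ (f z) = z := f.symm_apply_apply z
  rwa [e, e2] at h2

/-! ### Adjacency data -/

variable [F : OppRes.Cox cs]

/-- Adjacency data for a type stable under the opposition. -/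
theorem exists_ad_self {φ : W ≃* W} {σ : I → I} (hφ : ∀ i, φ (cs.simple i) = cs.simple (σ i)) (hσ : ∀ i, σ i = i)
    {K : Set I} (hK : ∀ i ∈ K, ∃ j ∈ K, w0 cs * cs.simple i * w0 cs = cs.simple j) :
    ∃ b, Ad cs φ σ Set.univ K K b := by
  obtain ⟨J', b, hA⟩ := FixBN.Cox.exists_ad (T := Set.univ) (J := K) hφ (fun i => by rw [hσ, hσ])
    (fun i _ => trivial) (fun i hi => by rw [hσ]; exact hi) (Set.subset_univ K)
  have hw0 : w0 cs = wJ cs (Set.univ : Set I) := rfl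
  have hww : w0 cs * w0 cs = 1 := F.w0_mul_self
  have hb : b = wJ cs K * w0 cs := by
    rw [hw0, ← hA.long', ← mul_assoc, F.wJ_mul_self, one_mul]
  have hb' : b⁻¹ = w0 cs * wJ cs K := by
    rw [hb, mul_inv_rev, F.w0_inv, F.wJ_inv]
  -- conjugation by `w_K`
  have hop : ∀ j ∈ K, ∃ k ∈ K, wJ cs K * cs.simple j * wJ cs K = cs.simple k := by
    intro j hj
    obtain ⟨k, hk, h1⟩ := F.exists_opJ hj
    refine ⟨k, hk, ?_⟩
    rw [mul_assoc, ← h1, ← mul_assoc, F.wJ_mul_self, one_mul]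
  have hJ' : J' = K := by
    apply Set.Subset.antisymm
    · intro j hj
      obtain ⟨k, hk, h1⟩ := hA.par.fwd j hj
      obtain ⟨k', hk', h2⟩ := hop k hk
      obtain ⟨k'', hk'', h3⟩ := hK k' hk'
      have h4 : cs.simple j = cs.simple k'' := by
        calc cs.simple j = b⁻¹ * (b * cs.simple j) := by group
          _ = b⁻¹ * (cs.simple k * b) := by rw [h1]
          _ = w0 cs * (wJ cs K * cs.simple k * wJ cs K) * w0 cs := by rw [hb', hb]; simp only [mul_assoc]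
          _ = cs.simple k'' := by rw [h2, h3]
      rw [F.inj h4]
      exact hk''
    · intro k hk
      obtain ⟨k1, hk1, h1⟩ := hK k hk
      obtain ⟨k2, hk2, h2⟩ := hop k1 hk1
      obtain ⟨j, hj, h3⟩ := hA.par.bwd k2 hk2
      have h4 : cs.simple j = cs.simple k := by
        have h5 : wJ cs K * cs.simple k2 * wJ cs K = cs.simple k1 := by
          rw [← h2]
          calc wJ cs K * (wJ cs K * cs.simple k1 * wJ cs K) * wJ cs K =
              (wJ cs K * wJ cs K) * cs.simple k1 * (wJ cs K * wJ cs K) := by simp only [mul_assoc]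
            _ = cs.simple k1 := by rw [F.wJ_mul_self, one_mul, mul_one]
        calc cs.simple j = b⁻¹ * (b * cs.simple j) := by group
          _ = b⁻¹ * (cs.simple k2 * b) := by rw [h3]
          _ = w0 cs * (wJ cs K * cs.simple k2 * wJ cs K) * w0 cs := by rw [hb', hb]; simp only [mul_assoc]
          _ = w0 cs * (w0 cs * cs.simple k * w0 cs) * w0 cs := by rw [h5, ← h1]
          _ = (w0 cs * w0 cs) * cs.simple k * (w0 cs * w0 cs) := by simp only [mul_assoc]
          _ = cs.simple k := by rw [hww, one_mul, mul_one]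
      rw [← F.inj h4]
      exact hj
  rw [hJ'] at hA
  exact ⟨b, hA⟩

variable {t}

/-- A chamber opposite its image. -/
theorem opp_OppV {K : Set I} {b : W} (hA : Ad cs t.φ t.σ Set.univ K K b) {y : C} (hy : Δ.δ y (t.θ y) = w0 cs)
    [Finite I] : OppV t b K y := by
  -- the chamber of `Res K (θ y)` at distance `b`
  obtain ⟨z, hz, hz'⟩ : ∃ z ∈ Δ.Res K (t.θ y), Δ.δ y z = b := by
    obtain ⟨z, hz, h1⟩ := Δ.exists_δ_mul_mem_Res (J := K) (x := t.θ y) (y := t.θ y) y (Δ.self_mem_Res K _)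
      (F.wJ_mem K)
    refine ⟨z, hz, ?_⟩
    rw [h1, hy]
    change wJ cs (Set.univ : Set I) * wJ cs K = b
    rw [← hA.long, mul_assoc, F.wJ_mul_self, mul_one]
  refine ⟨y, Δ.self_mem_Res K y, t.θ.symm z, ?_, ?_⟩
  · rw [← FixOdd.Tw.θ_mem_Res_iff (t := t) hA.st', Equiv.apply_symm_apply]
    exact hz
  · rw [Equiv.apply_symm_apply, hz']

/-! ### Elements acting on a residue -/

/-- permutations of `V` induced by elements of `G` -/
def ActG (G : Type*) [Group G] [MulAction G C] (V : Set C) : Subgroup (Equiv.Perm V) where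
  carrier := {m | ∃ l : G, ∀ c : V, (m c : C) = l • (c : C)}
  one_mem' := ⟨1, fun c => by rw [one_smul]; rfl⟩
  mul_mem' := fun {a b} ha hb => by
    obtain ⟨u, ha⟩ := ha
    obtain ⟨v, hb⟩ := hb
    refine ⟨u * v, fun z => ?_⟩
    rw [Equiv.Perm.mul_apply, ha, hb, mul_smul]
  inv_mem' := fun {a} ha => by
    obtain ⟨u, ha⟩ := ha
    refine ⟨u⁻¹, fun z => ?_⟩
    have h1 : a (a⁻¹ z) = z := a.apply_symm_apply z
    rw [eq_inv_smul_iff, ← ha, h1]

theorem mem_ActG {V : Set C} {m : Equiv.Perm V} : m ∈ ActG G V ↔ ∃ l : G, ∀ c : V, (m c : C) = l • (c : C) := Iff.rfl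

theorem stab_of_act {V : Set C} {m : Equiv.Perm V} {l : G} (h : ∀ c : V, (m c : C) = l • (c : C)) (c : C) :
    l • c ∈ V ↔ c ∈ V := by
  constructor
  · intro hc
    obtain ⟨d, hd⟩ := m.surjective ⟨l • c, hc⟩
    have h1 := h d
    rw [hd] at h1
    have h2 : c = d := smul_left_cancel l h1
    rw [h2]
    exact d.2
  · intro hc
    rw [← h ⟨c, hc⟩]
    exact (m ⟨c, hc⟩).2

theorem act_eq {V : Set C} {m : Equiv.Perm V} {l : G} (h : ∀ c : V, (m c : C) = l • (c : C)) :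
    act l (stab_of_act h) = m := by
  ext c
  rw [act_apply, h]

/-- `θ * g * θ⁻¹ = τ g` on the chambers -/
theorem conj_toPerm (t : Tw Δ G) (g : G) :
    t.θ * (MulAction.toPerm g : Equiv.Perm C) * t.θ⁻¹ = MulAction.toPerm (t.τ g) := by
  ext c
  change t.θ (g • t.θ⁻¹ c) = t.τ g • c
  rw [t.θ_smul]
  congr 1
  exact t.θ.apply_symm_apply c

include S in
/-- **The permutation `f` normalises the permutations induced by `G`.** -/
theorem conj_act (hth : Δ.Thick) {K : Set I} {b : W} {y : C} (hA : Ad cs t.φ t.σ Set.univ K K b) (hy : OppV t b K y)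
    [Finite C] {m : Equiv.Perm (Δ.Res K y)} (hm : m ∈ ActG G (Δ.Res K y)) :
    f hA hy * m * (f hA hy)⁻¹ ∈ ActG G (Δ.Res K y) := by
  obtain ⟨l, hl⟩ := hm
  obtain ⟨g, hg⟩ := exists_comm S hth hA hy l (stab_of_act hl)
  rw [act_eq hl] at hg
  have h1 : f hA hy * m * (f hA hy)⁻¹ = (f hA hy * m * (f hA hy)⁻¹ * m⁻¹) * m := by group
  rw [h1]
  refine mul_mem ?_ ⟨l, hl⟩
  refine ⟨t.τ g * g⁻¹, fun c => ?_⟩
  rw [← hg c, conj_toPerm, mul_smul]
  rfl

include S in
/-- **Products.** -/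
theorem mul_act (hth : Δ.Thick) {K : Set I} {b : W} {y : C} (hA : Ad cs t.φ t.σ Set.univ K K b) (hy : OppV t b K y)
    [Finite C] {m : Equiv.Perm (Δ.Res K y)} (hm : m ∈ ActG G (Δ.Res K y)) {r : ℕ} [hr : Fact r.Prime]
    (hP : ∀ g : G, PE r (t.θ * MulAction.toPerm g * t.θ * (MulAction.toPerm g)⁻¹ : Equiv.Perm C)) :
    PE r (f hA hy * (m * f hA hy * m⁻¹)) := by
  obtain ⟨l, hl⟩ := hm
  obtain ⟨g, hg⟩ := exists_mul S hth hA hy l (stab_of_act hl)
  rw [act_eq hl] at hg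
  obtain ⟨k, hk⟩ := PE.pow_eq_one_iff.1 (hP g)
  refine PE.pow_eq_one_iff.2 ⟨k, ?_⟩
  have e : f hA hy * (m * f hA hy * m⁻¹) = f hA hy * m * f hA hy * m⁻¹ := by group
  rw [e]
  exact mul_power _ _ hg hk

/-- conjugates of the root groups -/
theorem fam_le_ActG {i : I} {y : C} (z : Δ.Pan i y) : S.fam i y z ≤ ActG G (Δ.Pan i y) := by
  rintro m ⟨u, -, hu⟩
  exact ⟨u, hu⟩

/-- **The permutation of a panel.** -/
theorem exists_pan [Finite G] [Finite C] [hp : Fact p.Prime] (hth : Δ.Thick) {i : I} {b : W} {y : C}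
    (hA : Ad cs t.φ t.σ Set.univ {i} {i} b) (hy : OppV t b {i} y) {r : ℕ} [hr : Fact r.Prime]
    (hP : ∀ g : G, PE r (t.θ * MulAction.toPerm g * t.θ * (MulAction.toPerm g)⁻¹ : Equiv.Perm C)) :
    ∃ f ∈ famStab (S.fam i y), (∀ c : Δ.Pan i y, f c = c ↔ Δ.δ (c : C) (t.θ c) = b) ∧
      (∀ m ∈ ⨆ z, S.fam i y z, PE r (f * (m * f * m⁻¹))) ∧
      ∀ c : Δ.Pan i y, Δ.δ (f c : C) (t.θ c) = b := by
  have hPR : Δ.Pan i y = Δ.Res {i} y := Δ.Pan_eq_Res i y
  -- everything for the set `V = Pan i y`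
  obtain ⟨f', hf1, hf2, hf3, hf4⟩ : ∃ f' : Equiv.Perm (Δ.Pan i y),
      (∀ c : Δ.Pan i y, f' c = c ↔ Δ.δ (c : C) (t.θ c) = b) ∧
      (∀ m ∈ ActG G (Δ.Pan i y), f' * m * f'⁻¹ ∈ ActG G (Δ.Pan i y)) ∧
      (∀ m ∈ ActG G (Δ.Pan i y), PE r (f' * (m * f' * m⁻¹))) ∧
      ∀ c : Δ.Pan i y, Δ.δ (f' c : C) (t.θ c) = b := by
    rw [hPR]
    exact ⟨f hA hy, fun c => f_eq_self_iff hA hy c, fun m hm => conj_act S hth hA hy hm,
      fun m hm => mul_act S hth hA hy hm hP, fun c => f_spec hA hy c⟩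
  refine ⟨f', mem_famStab_of_forward ?_, hf1, fun m hm => hf3 m ?_, hf4⟩
  · intro z g hg
    obtain ⟨k, hk⟩ := hf2 g (fam_le_ActG S z hg)
    obtain ⟨u, hu, hgu⟩ := hg
    obtain ⟨n, hn⟩ := (S.isP z) ⟨u, hu⟩
    have hn' : u ^ p ^ n = 1 := by simpa using congrArg Subtype.val hn
    have hgn : g ^ p ^ n = 1 := by
      ext c
      rw [pow_smul_eq hgu, hn', one_smul]
      rfl
    have hwn : (f' * g * f'⁻¹) ^ p ^ n = 1 := by
      rw [conj_pow, hgn, mul_one, mul_inv_cancel]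
    have hgz : g z = z := Subtype.ext (by rw [hgu, S.fix z u hu])
    have hwz : (f' * g * f'⁻¹) (f' z) = f' z := by
      rw [Equiv.Perm.mul_apply, Equiv.Perm.mul_apply]
      have : f'⁻¹ (f' z) = z := f'.symm_apply_apply z
      rw [this, hgz]
    obtain ⟨v, hv, h⟩ := exists_U_of_pElem S hk hwz hwn
    exact ⟨v, hv, h⟩
  · exact (iSup_le fun z => fam_le_ActG S z) hm

end Cfsg.Agent.H460.EllPan
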