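import Cfsg.Agent.H459.Gallery

/-!
# Radical automorphisms: the star lemma (helper460, AA-engine)

`x : MulAut K` radical of prime order `p`, normalising a proper parabolic subgroup but no Borel subgroup. Then all nodes
but one commute, have solvable minimal parabolic subgroups, and `p` divides the size of their panels.
-/

set_option autoImplicit false
set_option linter.unusedSectionVars false

namespace Cfsg.Agent.H460.RCStar

open Cfsg Subgroup Cfsg.Agent.SignalizersComponents.ComponentExists Cfsg.Agent.H459.Rad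
open Cfsg.Agent.Schreier.BNSch Cfsg.Agent.H459.Gallery

variable {K : Type*} [Group K] [Finite K] (P : BNPair K)

theorem cx_pow {x : MulAut K} {p : ℕ} (hxp : x ^ p = 1) (g : K) : (cx x g) ^ p = 1 := by
  have e : cx x g = (MulAut.conj g)⁻¹ * x * ((MulAut.conj g)⁻¹)⁻¹ := by rw [inv_inv]; rfl
  rw [e, conj_pow, hxp, mul_one, mul_inv_cancel]

/-- All automorphisms in the coset `Inn K x` which normalise `B` normalise the minimal parabolic subgroups. -/
def Rig (x : MulAut K) : Prop :=
  ∀ a : K, Iv (MulAut.conj a * x) P.B → ∀ s ∈ P.S, Iv (MulAut.conj a * x) (P.parabolic {s})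

theorem cx_eq (x : MulAut K) (g : K) : cx x g = MulAut.conj (g⁻¹ * x g) * x := by
  ext k
  rw [cx_apply', MulAut.mul_apply, MulAut.conj_apply]

variable {P} in
theorem Rig.cx {x : MulAut K} (h : Rig P x) (g : K) : Rig P (cx x g) := by
  intro a ha
  rw [cx_eq, ← mul_assoc, ← map_mul] at ha ⊢
  exact h _ ha

/-- An automorphism normalising `P_J` normalises all `P_L`, `J ⊆ L`. -/
theorem iv_mono {r : ℕ} [Fact r.Prime] (U : Sylow r K)
    (hU : normalizer ((U : Subgroup K) : Set K) = P.B) {y : MulAut K}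
    (hrig : Rig P y)
    {J L : Set K} (hLS : L ⊆ P.S) (hJL : J ⊆ L) (hg : Iv y (P.parabolic J)) : Iv y (P.parabolic L) := by
  obtain ⟨m, hm, hmB⟩ := exists_conj_fix P U hU (B_le_parabolic P J) hg
  have hzs := hrig m hmB
  have hzL : Iv (MulAut.conj m * y) (P.parabolic L) := by
    have h1 : P.parabolic L ≤ (P.parabolic L).comap (MulAut.conj m * y).toMonoidHom := by
      refine sup_le ?_ ?_
      · intro b hb
        exact B_le_parabolic P _ (hmB b hb)
      · rw [closure_le]
        intro t ht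
        exact parabolic_mono P (Set.singleton_subset_iff.2 ht) (hzs t (hLS ht) t (mem_parabolic_self P t))
    exact h1
  have hmL : m ∈ P.parabolic L := parabolic_mono P hJL hm
  intro a ha
  have h1 := hzL a ha
  rw [MulAut.mul_apply, MulAut.conj_apply] at h1
  have h2 := mul_mem (mul_mem (inv_mem hmL) h1) hmL
  have e : m⁻¹ * (m * y a * m⁻¹) * m = y a := by group
  rwa [e] at h2

/-- `R(M) B` is invariant. -/
theorem iv_rad_sup {y : MulAut K} (hyR : RC y) {M : Subgroup K} (hMt : M ≠ ⊤) (hBM : P.B ≤ M) (hg : Iv y M) :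
    Iv y (radIn M ⊔ P.B) := by
  have hradM : (radIn M).map y.toMonoidHom = radIn M := by
    have := radIn_map (y : K ≃* K) (M := M)
    rw [show (M.map (y : K ≃* K).toMonoidHom) = M from hg.map_eq] at this
    exact this
  have h2 : radIn M ⊔ P.B ≤ (radIn M ⊔ P.B).comap y.toMonoidHom := by
    refine sup_le ?_ ?_
    · intro a ha
      rw [mem_comap]
      refine mem_sup_left ?_
      rw [← hradM]
      exact ⟨a, ha, rfl⟩
    · intro b hb
      rw [mem_comap]
      have h3 := hyR M hMt hg b (hBM hb)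
      have h4 : y b = b * (b⁻¹ * y b) := by group
      show y b ∈ _
      rw [h4]
      exact mul_mem (mem_sup_right hb) (mem_sup_left h3)
  exact h2

theorem parabolic_ne_top {J : Set K} (hJS : J ⊆ P.S) (hJne : J ≠ P.S) : P.parabolic J ≠ ⊤ := by
  intro hMt
  have h1 : P.parabolic P.S ≤ P.parabolic J := by rw [hMt]; exact le_top
  rw [parabolic_le_iff P le_rfl hJS] at h1
  exact hJne (Set.Subset.antisymm hJS h1)

/-- the reduction step: a node `s` with `p ∤ |P_s : B|` can be removed from `J` -/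
theorem reduce_step {r p : ℕ} [Fact r.Prime] [Fact p.Prime] (U : Sylow r K)
    (hU : normalizer ((U : Subgroup K) : Set K) = P.B) {x : MulAut K} (hxp : x ^ p = 1)
    (hrig : Rig P x)
    {J : Set K} (hJS : J ⊆ P.S) {g : K} (hg : Iv (cx x g) (P.parabolic J)) {s : K} (hsJ : s ∈ J)
    (hcomm : ∀ t ∈ J, t ≠ s → s * t * s⁻¹ * t⁻¹ ∈ P.B) (hnd0 : ¬ p ∣ P.B.relIndex (P.parabolic {s})) :
    ∃ k, Iv (cx x k) (P.parabolic (J \ {s})) := by
  classical
  have hfin : Finite K := inferInstance
  set y := cx x g with hy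
  have hyp : y ^ p = 1 := cx_pow hxp g
  set M := P.parabolic J with hM
  have hBM : P.B ≤ M := B_le_parabolic P _
  have hsS : s ∈ P.S := hJS hsJ
  set J' := J \ {s} with hJ'
  have hJ'S : J' ⊆ P.S := Set.sdiff_subset.trans hJS
  have hsJ' : s ∉ J' := fun h => h.2 rfl
  have hins : insert s J' = J := by
    rw [hJ', Set.insert_sdiff_singleton, Set.insert_eq_of_mem hsJ]
  set P' := P.parabolic J' with hP'
  have hP'M : P' ≤ M := parabolic_mono P Set.sdiff_subset
  have hnorm : normalizer (P' : Set K) = P' := Cfsg.Agent.S0312.result P hJ'S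
  have hidx' : P'.relIndex M = P.B.relIndex (P.parabolic {s}) := by
    have := relIndex_insert P hJ'S hsS hsJ' (fun t ht => hcomm t ht.1 ht.2)
    rwa [hins] at this
  have hnd : ¬ p ∣ P'.relIndex M := by
    rw [hidx']
    exact hnd0
  -- `y` maps `P'` to a conjugate
  obtain ⟨m, hm, hmB⟩ := exists_conj_fix P U hU hBM hg
  have hzs := hrig.cx g m hmB
  rw [← hy] at hzs
  set z := MulAut.conj m * y with hz
  have hzP' : Iv z P' := by
    have h1 : P' ≤ P'.comap z.toMonoidHom := by
      refine sup_le ?_ ?_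
      · intro b hb
        exact B_le_parabolic P _ (hmB b hb)
      · rw [closure_le]
        intro t ht
        exact parabolic_mono P (Set.singleton_subset_iff.2 ht) (hzs t (hJ'S ht) t (mem_parabolic_self P t))
    exact h1
  -- the set of conjugates
  let X : Set (Subgroup K) := {A | ∃ k ∈ M, A = P'.map (MulAut.conj k).toMonoidHom}
  have hyP' : ∃ k ∈ M, P'.map y.toMonoidHom = P'.map (MulAut.conj k).toMonoidHom := by
    refine ⟨m⁻¹, inv_mem hm, ?_⟩
    have h1 : y = MulAut.conj m⁻¹ * z := by rw [hz, ← mul_assoc, ← map_mul, inv_mul_cancel, map_one, one_mul]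
    conv_lhs => rw [h1]
    have h2 : (MulAut.conj m⁻¹ * z).toMonoidHom = (MulAut.conj m⁻¹).toMonoidHom.comp z.toMonoidHom := rfl
    rw [h2, ← Subgroup.map_map, hzP'.map_eq]
  have hcomp : ∀ (f : MulAut K) (k : K) (A : Subgroup K), (A.map (MulAut.conj k).toMonoidHom).map f.toMonoidHom =
      (A.map f.toMonoidHom).map (MulAut.conj (f k)).toMonoidHom := by
    intro f k A
    rw [Subgroup.map_map, Subgroup.map_map]
    congr 1
    ext a
    simp
  have hXy : ∀ A ∈ X, A.map y.toMonoidHom ∈ X := by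
    rintro _ ⟨k, hk, rfl⟩
    obtain ⟨l, hl, h1⟩ := hyP'
    refine ⟨y k * l, mul_mem (hg k hk) hl, ?_⟩
    rw [hcomp, h1, Subgroup.map_map]
    congr 1
    ext a
    simp [mul_assoc]
  let π : X → X := fun A => ⟨A.1.map y.toMonoidHom, hXy A.1 A.2⟩
  have hπ : Function.Injective π := by
    intro A B hAB
    have h1 : A.1.map y.toMonoidHom = B.1.map y.toMonoidHom := congrArg Subtype.val hAB
    exact Subtype.ext (Subgroup.map_injective y.injective h1)
  have hXfin : Finite X := inferInstance
  let σ : Equiv.Perm X := Equiv.ofBijective π (Finite.injective_iff_bijective.1 hπ)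
  have hσpow : ∀ n (A : X), (((σ ^ n) A : X) : Subgroup K) = (A : Subgroup K).map (y ^ n).toMonoidHom := by
    intro n
    induction n with
    | zero =>
      intro A
      rw [pow_zero, pow_zero]
      exact (Subgroup.map_id _).symm
    | succ n ih =>
      intro A
      rw [pow_succ', Equiv.Perm.mul_apply, pow_succ']
      show (((σ ^ n) A : X) : Subgroup K).map y.toMonoidHom = _
      rw [ih, Subgroup.map_map]
      rfl
  have hσp : σ ^ p ^ 1 = 1 := by
    rw [pow_one]
    apply Equiv.ext
    intro A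
    apply Subtype.ext
    rw [hσpow, hyp]
    exact Subgroup.map_id _
  have hcardX : Nat.card X = P'.relIndex M := by
    unfold Subgroup.relIndex Subgroup.index
    symm
    refine Nat.card_congr (Equiv.ofBijective (fun q : M ⧸ P'.subgroupOf M => Quotient.liftOn' q
      (fun m : M => (⟨P'.map (MulAut.conj (m : K)).toMonoidHom, m, m.2, rfl⟩ : X)) ?_) ⟨?_, ?_⟩)
    · intro a b hab
      rw [QuotientGroup.leftRel_apply, mem_subgroupOf] at hab
      apply Subtype.ext
      show P'.map (MulAut.conj (a : K)).toMonoidHom = P'.map (MulAut.conj (b : K)).toMonoidHom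
      have h1 : P'.map (MulAut.conj (((a⁻¹ * b : M) : K))).toMonoidHom = P' :=
        Subgroup.mem_normalizer_iff_map_conj_eq.1 (le_normalizer hab)
      conv_lhs => rw [← h1]
      rw [Subgroup.map_map]
      congr 1
      ext k
      simp [mul_assoc]
    · intro q q'
      refine Quotient.inductionOn₂' q q' fun a b hab => ?_
      have h1 : P'.map (MulAut.conj (a : K)).toMonoidHom = P'.map (MulAut.conj (b : K)).toMonoidHom :=
        congrArg Subtype.val hab
      refine Quotient.sound' (QuotientGroup.leftRel_apply.2 ?_)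
      rw [mem_subgroupOf, ← hnorm, Subgroup.mem_normalizer_iff_map_conj_eq]
      have h2 : (P'.map (MulAut.conj (b : K)).toMonoidHom).map (MulAut.conj ((a : K)⁻¹)).toMonoidHom =
          P'.map (MulAut.conj (((a⁻¹ * b : M) : K))).toMonoidHom := by
        rw [Subgroup.map_map]
        congr 1
        ext k
        simp [mul_assoc]
      have h3 : P'.map (MulAut.conj (((a⁻¹ * b : M) : K))).toMonoidHom = P' := by
        rw [← h2, ← h1, Subgroup.map_map]
        conv_rhs => rw [← Subgroup.map_id P']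
        congr 1
        ext k
        simp [mul_assoc]
      exact h3
    · rintro ⟨A, k, hk, rfl⟩
      exact ⟨Quotient.mk'' ⟨k, hk⟩, rfl⟩
  have : Fintype X := Fintype.ofFinite X
  obtain ⟨⟨A, k, hk, rfl⟩, hA⟩ := Equiv.Perm.exists_fixed_point_of_prime (p := p) (n := 1)
    (by rw [← Nat.card_eq_fintype_card, hcardX]; exact hnd) hσp
  have hA' : (P'.map (MulAut.conj k).toMonoidHom).map y.toMonoidHom = P'.map (MulAut.conj k).toMonoidHom :=
    congrArg Subtype.val hA
  refine ⟨g * k, ?_⟩
  rw [← cx_cx]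
  intro a ha
  have h1 : y (k * a * k⁻¹) ∈ P'.map (MulAut.conj k).toMonoidHom := by
    rw [← hA']
    exact ⟨k * a * k⁻¹, ⟨a, ha, rfl⟩, rfl⟩
  obtain ⟨c, hc, h2⟩ := h1
  rw [cx_apply]
  have h3 : k * c * k⁻¹ = y (k * a * k⁻¹) := h2
  rw [← hy, ← h3]
  have : k⁻¹ * (k * c * k⁻¹) * k = c := by group
  rwa [this]

theorem comm_symm {s t : K} (h : s * t * s⁻¹ * t⁻¹ ∈ P.B) : t * s * t⁻¹ * s⁻¹ ∈ P.B := by
  have e : t * s * t⁻¹ * s⁻¹ = (s * t * s⁻¹ * t⁻¹)⁻¹ := by group
  rw [e]
  exact inv_mem h

/-- **The star lemma.** -/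
theorem star {r p : ℕ} [Fact r.Prime] [Fact p.Prime] (U : Sylow r K)
    (hU : normalizer ((U : Subgroup K) : Set K) = P.B) {x : MulAut K} (h : RC x) (hxp : x ^ p = 1)
    (hBs : Group.IsSolvable P.B) (hirr : P.Irreducible) (hrig : Rig P x)
    {J₀ : Set K} (hJ₀ : J₀ ⊆ P.S) (hne : J₀ ≠ P.S) {g₀ : K} (hg₀ : Iv (cx x g₀) (P.parabolic J₀))
    (hno : ¬ ∃ g, Iv (cx x g) P.B) :
    ∃ c ∈ P.S, ∀ s ∈ P.S, s ≠ c → Group.IsSolvable (P.parabolic {s}) ∧ p ∣ P.B.relIndex (P.parabolic {s}) ∧
      ∀ t ∈ P.S, t ≠ c → s ≠ t → s * t * s⁻¹ * t⁻¹ ∈ P.B := by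
  classical
  have hfin : Finite K := inferInstance
  obtain ⟨J, hJ⟩ := Set.exists_min_image {J : Set K | J ⊆ P.S ∧ J ≠ P.S ∧ ∃ g, Iv (cx x g) (P.parabolic J)}
    Set.ncard (Set.toFinite _) ⟨J₀, hJ₀, hne, g₀, hg₀⟩
  obtain ⟨⟨hJS, hJne, g, hg⟩, hmin⟩ := hJ
  have hJ0 : J ≠ ∅ := by
    rintro rfl
    rw [parabolic_empty] at hg
    exact hno ⟨g, hg⟩
  set y := cx x g with hy
  have hyR : RC y := h.cx g
  have hyp : y ^ p = 1 := cx_pow hxp g
  -- invariant parabolic subgroups above `P_J`
  have key : ∀ L : Set K, L ⊆ P.S → L ≠ P.S → J ⊆ L →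
      ∃ L' ⊆ L, J ⊆ L' ∧ radIn (P.parabolic L) ⊔ P.B = P.parabolic L' := by
    intro L hLS hLne hJL
    have hLt := parabolic_ne_top P hLS hLne
    have hBL : P.B ≤ P.parabolic L := B_le_parabolic P L
    have hyL := iv_mono P U hU (hrig.cx g) hLS hJL hg
    have h1 := iv_rad_sup P hyR hLt hBL hyL
    obtain ⟨L', hL'S, hL'e⟩ := Cfsg.Agent.S0311.result P (radIn (P.parabolic L) ⊔ P.B) le_sup_right
    have hL'L : L' ⊆ L := by
      rw [← parabolic_le_iff P hL'S hLS, ← hL'e]
      exact sup_le (radIn_le _) hBL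
    refine ⟨L', hL'L, ?_, hL'e⟩
    have h2 : Iv y (P.parabolic (L' ∩ J)) := by
      rw [← Cfsg.Agent.S0315.result P hL'S hJS, ← hL'e]
      intro a ha
      exact ⟨h1 a ha.1, hg a ha.2⟩
    have h3 := hmin (L' ∩ J) ⟨Set.inter_subset_right.trans hJS, fun h => hJne
      (Set.Subset.antisymm hJS (h ▸ Set.inter_subset_right)), g, h2⟩
    have h4 : L' ∩ J = J := Set.eq_of_subset_of_ncard_le Set.inter_subset_right h3 (Set.toFinite _)
    exact Set.inter_eq_right.1 h4
  -- `P_J` is solvable
  have hMsol : Group.IsSolvable (P.parabolic J) := by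
    obtain ⟨L', h1, h2, h3⟩ := key J hJS hJne le_rfl
    have h4 : L' = J := Set.Subset.antisymm h1 h2
    rw [h4] at h3
    have h5 := isSolvable_sup (radIn_le (P.parabolic J)) (B_le_parabolic P J)
      (fun g hg a ha => radIn_conj_mem hg ha) (radIn_solvable _) hBs
    rw [h3] at h5
    exact h5
  have hcJ : ∀ s ∈ J, ∀ t ∈ J, s ≠ t → s * t * s⁻¹ * t⁻¹ ∈ P.B := by
    intro s hs t ht hst
    refine comm_of_solvable P (hJS hs) (hJS ht) hst (isSolvable_of_le (parabolic_mono P ?_) hMsol)
    rintro y (rfl | rfl)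
    · exact hs
    · exact ht
  have hsolv : ∀ s ∈ J, Group.IsSolvable (P.parabolic {s}) := fun s hs =>
    isSolvable_of_le (parabolic_mono P (Set.singleton_subset_iff.2 hs)) hMsol
  have hdvd : ∀ s ∈ J, p ∣ P.B.relIndex (P.parabolic {s}) := by
    intro s hs
    by_contra hnd
    obtain ⟨k, hk⟩ := reduce_step P U hU hxp hrig hJS hg hs (fun t ht hts => hcJ s hs t ht hts.symm) hnd
    have h1 := hmin (J \ {s}) ⟨Set.sdiff_subset.trans hJS, fun h => hJne
      (Set.Subset.antisymm hJS (h ▸ Set.sdiff_subset)), k, hk⟩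
    have h2 : (J \ {s}).ncard < J.ncard := Set.ncard_sdiff_singleton_lt_of_mem hs (Set.toFinite _)
    omega
  -- a node `c` such that `J ∪ {c}` is not everything commutes with `J`
  have hout : ∀ c ∈ P.S, c ∉ J → insert c J ≠ P.S → ∀ j ∈ J, j * c * j⁻¹ * c⁻¹ ∈ P.B := by
    intro c hc hcJ' hne' j hj
    have hLS : insert c J ⊆ P.S := Set.insert_subset hc hJS
    obtain ⟨L', h1, h2, h3⟩ := key (insert c J) hLS hne' (Set.subset_insert c J)
    by_cases hcL : c ∈ L'
    · have h4 : L' = insert c J := Set.Subset.antisymm h1 (Set.insert_subset hcL h2)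
      rw [h4] at h3
      have h5 := isSolvable_sup (radIn_le (P.parabolic (insert c J))) (B_le_parabolic P _)
        (fun g hg a ha => radIn_conj_mem hg ha) (radIn_solvable _) hBs
      rw [h3] at h5
      refine comm_of_solvable P (hJS hj) hc (fun e => hcJ' (e ▸ hj)) (isSolvable_of_le (parabolic_mono P ?_) h5)
      rintro y (rfl | rfl)
      · exact Set.mem_insert_of_mem _ hj
      · exact Set.mem_insert _ _
    · have h4 : L' = J := by
        refine Set.Subset.antisymm ?_ h2
        intro l hl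
        rcases h1 hl with e | e
        · exact absurd (e ▸ hl) hcL
        · exact e
      rw [h4] at h3
      -- the normal subgroup of the parabolic subgroup
      set G' := P.parabolic (insert c J) with hG'
      set Q : BNPair G' := Cfsg.Agent.LieRecognition.BNCox.sub P (insert c J) hLS with hQ
      have hQB : Q.B = P.B.subgroupOf G' := rfl
      have hQS : Q.S = {x : G' | (x : K) ∈ insert c J} := rfl
      have hmG : ∀ t ∈ insert c J, t ∈ G' := fun t ht => (le_sup_right : closure (insert c J) ≤ G') (subset_closure ht)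
      have hN : ((radIn G').subgroupOf G').Normal := by
        refine ⟨fun n hn g => ?_⟩
        rw [mem_subgroupOf] at hn ⊢
        exact radIn_conj_mem g.2 hn
      set J' : Set G' := {x : G' | (x : K) ∈ J} with hJ'
      have hJ'S : J' ⊆ Q.S := fun x hx => Set.mem_insert_of_mem _ hx
      have hsup : (radIn G').subgroupOf G' ⊔ Q.B = Q.parabolic J' := by
        have hpar : Q.parabolic J' = (P.parabolic J).subgroupOf G' := by
          apply Subgroup.map_injective G'.subtype_injective
          have e1 : (Q.parabolic J').map G'.subtype = P.parabolic J := by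
            change (Q.B ⊔ closure J').map G'.subtype = P.B ⊔ closure J
            rw [Subgroup.map_sup, hQB, Subgroup.subgroupOf_map_subtype, inf_eq_left.2 (B_le_parabolic P _),
              MonoidHom.map_closure]
            congr 2
            ext k
            constructor
            · rintro ⟨a, ha, rfl⟩
              exact ha
            · intro hk
              exact ⟨⟨k, hmG k (Set.mem_insert_of_mem _ hk)⟩, hk, rfl⟩
          rw [e1, Subgroup.subgroupOf_map_subtype, inf_eq_left.2 (parabolic_mono P (Set.subset_insert c J))]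
        rw [hpar, ← h3, hQB]
        exact (Subgroup.subgroupOf_sup (radIn_le G') (B_le_parabolic P _)).symm
      have h5 := Cfsg.Agent.S0319.commute_of_normal Q ((radIn G').subgroupOf G') hJ'S hsup
        (s := ⟨j, hmG j (Set.mem_insert_of_mem _ hj)⟩) (s' := ⟨c, hmG c (Set.mem_insert _ _)⟩) hj
        ⟨Set.mem_insert _ _, hcJ'⟩
      exact h5
  -- only one node is missing
  obtain ⟨c, hcS, hcJ'⟩ : ∃ c ∈ P.S, c ∉ J := by
    by_contra hcon
    push Not at hcon
    exact hJne (Set.Subset.antisymm hJS hcon)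
  have hall : insert c J = P.S := by
    by_contra hne'
    -- then no node outside is joined to `J`
    obtain ⟨j, hj, d, hd, hjd⟩ := hirr J hJS (Set.nonempty_iff_ne_empty.2 hJ0) ⟨c, hcS, hcJ'⟩
    apply hjd
    by_cases hdc : d = c
    · rw [hdc]; exact hout c hcS hcJ' hne' j hj
    · refine hout d hd.1 hd.2 (fun e => ?_) j hj
      have h1 : c ∈ insert d J := by rw [e]; exact hcS
      rcases h1 with h1 | h1
      · exact hdc h1.symm
      · exact hcJ' h1
  have hmemJ : ∀ s ∈ P.S, s ≠ c → s ∈ J := by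
    intro s hs hsc
    rw [← hall] at hs
    exact hs.resolve_left hsc
  refine ⟨c, hcS, fun s hs hsc => ?_⟩
  have hsJ := hmemJ s hs hsc
  exact ⟨hsolv s hsJ, hdvd s hsJ, fun t ht htc hst => hcJ s hsJ t (hmemJ t ht htc) hst⟩

end Cfsg.Agent.H460.RCStar
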