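import Cfsg.Agent.H460.Eng
import Cfsg.Agent.H460.RCStar
import Cfsg.Agent.H459.RgdRad

/-!
# The engine: automorphisms normalising a proper parabolic subgroup (helper460)

* `fixed_iff`, `wt_cx` : fixed chambers; `rig_of_sigma`;
* `exists_par` : an automorphism which is not elliptic normalises a proper parabolic subgroup;
* `fix_pan`, `hnode_of_px` : panels with a fixed chamber;
* `eq_one_of_borel`; `fix_main` : the conclusion.
-/

set_option autoImplicit false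
set_option linter.unusedSectionVars false

namespace Cfsg.Agent.H460.Engine

open Cfsg Subgroup Cfsg.Agent.LieExceptional.BNPairCore Cfsg.Agent.Tits.Core Cfsg.Agent.Tits.Core.Bldg
  Cfsg.Agent.Tits.OfBN Cfsg.Agent.Schreier.BNSch Cfsg.Agent.Tits.OppRes Cfsg.Agent.FixBN.OfBN
open Cfsg.Agent.FixBN (Sys Split famStab mem_famStab)
open Cfsg.Agent.FixOdd (Tw)
open Cfsg.Agent.H460.Typed Cfsg.Agent.H460.Pan Cfsg.Agent.H460.AA Cfsg.Agent.H460.EllC Cfsg.Agent.H460.PanL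
  Cfsg.Agent.H185.TypedTw Cfsg.Agent.H459.Rad Cfsg.Agent.H459.Gallery Cfsg.Agent.H460.EllPan
open Cfsg.Agent.H694 (PJ PJ_sub mem_PJ)

variable {K : Type*} [Group K] [Finite K] {ℓ : ℕ} [Fact ℓ.Prime] {l : ℕ} {M : CoxeterMatrix (Fin l)} {Q : Fin l → ℕ}
  {E : Eng ℓ K M Q}

/-! ### Fixed chambers -/

theorem theta_smul_mk (t : Tw E.Δ K) (g a : K) :
    t.θ (QuotientGroup.mk (a * g)) = t.τ a • t.θ (QuotientGroup.mk g) := by
  rw [← t.θ_smul, smul_mk]

/-- a chamber is fixed iff its stabiliser is invariant -/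
theorem fixed_iff (t : Tw E.Δ K) (g : K) :
    t.θ (QuotientGroup.mk g) = QuotientGroup.mk g ↔ Iv (cx t.τ g) E.P.B := by
  constructor
  · intro h b hb
    rw [cx_apply]
    have h1 : (QuotientGroup.mk (g * b * g⁻¹ * g) : K ⧸ E.P.B) = QuotientGroup.mk g := by
      rw [mk_eq]
      have e : (g * b * g⁻¹ * g)⁻¹ * g = b⁻¹ := by group
      rw [e]; exact inv_mem hb
    have h2 := theta_smul_mk t g (g * b * g⁻¹)
    rw [h1, h] at h2
    exact smul_mk_eq.1 h2.symm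
  · intro h
    obtain ⟨g', hg'⟩ := QuotientGroup.mk_surjective (t.θ (QuotientGroup.mk g))
    rw [← hg', mk_eq]
    have h1 : ∀ b ∈ E.P.B, g'⁻¹ * t.τ (g * b * g⁻¹) * g' ∈ E.P.B := by
      intro b hb
      have h2 := theta_smul_mk t g (g * b * g⁻¹)
      have h3 : (QuotientGroup.mk (g * b * g⁻¹ * g) : K ⧸ E.P.B) = QuotientGroup.mk g := by
        rw [mk_eq]
        have e : (g * b * g⁻¹ * g)⁻¹ * g = b⁻¹ := by group
        rw [e]; exact inv_mem hb
      rw [h3, ← hg'] at h2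
      exact smul_mk_eq.1 h2.symm
    have h2 : g⁻¹ * g' ∈ E.P.B := by
      apply Cfsg.Agent.FixBN.TwOfBN.mem_of_conj E.S
      intro b hb
      rw [← h.map_eq] at hb
      obtain ⟨c, hc, rfl⟩ := hb
      have h4 := h1 c hc
      have h5 : (cx t.τ g).toMonoidHom c = g⁻¹ * t.τ (g * c * g⁻¹) * g := cx_apply _ _ _
      rw [h5]
      have e : (g⁻¹ * g')⁻¹ * (g⁻¹ * t.τ (g * c * g⁻¹) * g) * (g⁻¹ * g') = g'⁻¹ * t.τ (g * c * g⁻¹) * g' := by group
      rw [e]
      exact h4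
    have e : g'⁻¹ * g = (g⁻¹ * g')⁻¹ := by group
    rw [e]
    exact inv_mem h2

theorem theta_mk_of_fixed {t : Tw E.Δ K} {g : K} (h : t.θ (QuotientGroup.mk g) = QuotientGroup.mk g) (k : K) :
    t.θ (QuotientGroup.mk (g * k)) = QuotientGroup.mk (g * cx t.τ g k) := by
  have e : g * k = (g * k * g⁻¹) * g := by group
  rw [e, theta_smul_mk, h, smul_mk, cx_apply]
  congr 1
  group

/-- `cx x g` preserves the double cosets. -/
theorem wt_cx {t : Tw E.Δ K} (hσ : ∀ i, t.σ i = i) {g : K} (h : t.θ (QuotientGroup.mk g) = QuotientGroup.mk g) (k : K) :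
    wt E.P (cx t.τ g k) = wt E.P k := by
  have h1 := t.δ_θ (QuotientGroup.mk g) (QuotientGroup.mk (g * k))
  rw [h, theta_mk_of_fixed h, φ_eq hσ, bldg_δ_mk, bldg_δ_mk, inv_mul_cancel_left, inv_mul_cancel_left] at h1
  exact h1

theorem iv_PJ {t : Tw E.Δ K} (hσ : ∀ i, t.σ i = i) {g : K} (h : Iv (cx t.τ g) E.P.B) (J : Set (Fin l)) :
    Iv (cx t.τ g) (PJ E.P E.e J) := by
  intro k hk
  rw [mem_PJ E.e E.cs E.hcs] at hk ⊢
  rwa [wt_cx hσ ((fixed_iff t g).2 h)]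

theorem PJ_singleton (i : Fin l) : PJ E.P E.e {i} = E.P.parabolic {(E.e i : K)} := by
  unfold PJ
  rw [Set.image_singleton]

theorem iv_parabolic {t : Tw E.Δ K} (hσ : ∀ i, t.σ i = i) {g : K} (h : Iv (cx t.τ g) E.P.B) {s : K} (hs : s ∈ E.P.S) :
    Iv (cx t.τ g) (E.P.parabolic {s}) := by
  obtain ⟨i, hi⟩ := E.e.surjective ⟨s, hs⟩
  have h1 : (E.e i : K) = s := congrArg Subtype.val hi
  have := iv_PJ hσ h {i}
  rwa [PJ_singleton, h1] at this

/-- multiplication by an inner automorphism -/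
def twConj (t : Tw E.Δ K) (a : K) : Tw E.Δ K where
  τ := MulAut.conj a * t.τ
  θ := MulAction.toPerm a * t.θ
  φ := t.φ
  σ := t.σ
  φ_simple := t.φ_simple
  δ_θ x y := by
    rw [← t.δ_θ]
    exact E.sys.iso a _ _
  θ_smul g x := by
    show a • t.θ (g • x) = (a * t.τ g * a⁻¹) • (a • t.θ x)
    rw [t.θ_smul]
    simp only [smul_smul]
    congr 1
    group

theorem rig_of_sigma {t : Tw E.Δ K} (hσ : ∀ i, t.σ i = i) : RCStar.Rig E.P t.τ := by
  intro a ha s hs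
  have h1 : Iv (cx (twConj t a).τ 1) E.P.B := by rw [cx_one]; exact ha
  have h2 := iv_parabolic (t := twConj t a) hσ h1 hs
  rwa [cx_one] at h2

/-! ### Non elliptic automorphisms -/

theorem exists_par {t : Tw E.Δ K} (hσ : ∀ i, t.σ i = i) (h : ¬ Elliptic t) :
    ∃ J : Set (Fin l), J ≠ Set.univ ∧ ∃ g, Iv (cx t.τ g) (PJ E.P E.e J) := by
  have hC : Cox E.cs := inferInstance
  unfold Elliptic at h
  push Not at h
  obtain ⟨y, J, hy, hJ⟩ := h
  obtain ⟨g, rfl⟩ := QuotientGroup.mk_surjective y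
  obtain ⟨g', hg'⟩ := QuotientGroup.mk_surjective (t.θ (QuotientGroup.mk g))
  refine ⟨J, hJ, g, fun k hk => ?_⟩
  rw [← hg', mem_Res, bldg_δ_mk, ← mem_PJ E.e E.cs E.hcs] at hy
  have h1 : t.θ (QuotientGroup.mk (g * k)) = QuotientGroup.mk (t.τ (g * k * g⁻¹) * g') := by
    have e : g * k = (g * k * g⁻¹) * g := by group
    conv_lhs => rw [e]
    rw [theta_smul_mk, ← hg', smul_mk]
  have h2 := t.δ_θ (QuotientGroup.mk g) (QuotientGroup.mk (g * k))
  rw [h1, ← hg', φ_eq hσ, bldg_δ_mk, bldg_δ_mk, inv_mul_cancel_left] at h2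
  have h3 : g'⁻¹ * (t.τ (g * k * g⁻¹) * g') ∈ PJ E.P E.e J := by
    rw [mem_PJ E.e E.cs E.hcs, h2, ← mem_PJ E.e E.cs E.hcs]
    exact hk
  rw [cx_apply]
  have e : g⁻¹ * t.τ (g * k * g⁻¹) * g = (g⁻¹ * g') * (g'⁻¹ * (t.τ (g * k * g⁻¹) * g')) * (g⁻¹ * g')⁻¹ := by group
  rw [e]
  exact mul_mem (mul_mem hy h3) (inv_mem hy)

/-! ### Panels with a fixed chamber -/

theorem restr_pow {C : Type*} {V : Set C} {w : Equiv.Perm V} {y : Equiv.Perm C} (h : ∀ z : V, (w z : C) = y z) (n : ℕ)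
    (z : V) : ((w ^ n) z : C) = (y ^ n) z := by
  induction n with
  | zero => rfl
  | succ n ih =>
    rw [pow_succ', pow_succ', Equiv.Perm.mul_apply, Equiv.Perm.mul_apply, h, ih]

/-- **A panel with a fixed chamber.** -/
theorem fix_pan {t : Tw E.Δ K} (hσ : ∀ i, t.σ i = i) {c : K ⧸ E.P.B} (hc : t.θ c = c) (i : Fin l) {r : ℕ}
    [Fact r.Prime] (hθ : t.θ ^ r = 1)
    (hP : ∀ g : K, PE r (t.θ * MulAction.toPerm g * t.θ * (MulAction.toPerm g)⁻¹ : Equiv.Perm (K ⧸ E.P.B)))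
    (hX : PX r (E.sys.fam i c)) : ∀ z ∈ E.Δ.Pan i c, t.θ z = z := by
  have hfin : Finite (K ⧸ E.P.B) := inferInstance
  have hmem : ∀ z, z ∈ E.Δ.Pan i c ↔ t.θ z ∈ E.Δ.Pan i c := by
    intro z
    rw [E.Δ.Pan_eq_Res, mem_Res, mem_Res]
    have h1 := t.δ_θ c z
    rw [hc, φ_eq hσ] at h1
    rw [h1]
  let f : Equiv.Perm (E.Δ.Pan i c) := t.θ.subtypePerm fun z => (hmem z).symm
  have hf : ∀ z, (f z : K ⧸ E.P.B) = t.θ z := fun z => rfl
  have hfi : ∀ z, ((f⁻¹) z : K ⧸ E.P.B) = t.θ⁻¹ z := by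
    intro z
    have h1 : f (f⁻¹ z) = z := f.apply_symm_apply z
    have h2 := congrArg Subtype.val h1
    rw [hf] at h2
    rw [Equiv.Perm.eq_inv_iff_eq]
    exact h2
  have hone : f = 1 := by
    refine hX f (mem_famStab_of_forward ?_) ?_ ⟨⟨c, E.Δ.self_mem_Pan i c⟩, Subtype.ext (by rw [hf]; exact hc)⟩ ?_
    · intro z g hg
      obtain ⟨u, hu, hgu⟩ := hg
      have hk : ∀ a : E.Δ.Pan i c, ((f * g * f⁻¹) a : K ⧸ E.P.B) = t.τ u • (a : K ⧸ E.P.B) := by
        intro a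
        rw [Equiv.Perm.mul_apply, Equiv.Perm.mul_apply, hf, hgu, t.θ_smul, hfi]
        congr 1
        exact t.θ.apply_symm_apply _
      obtain ⟨n, hn⟩ := (E.sys.isP z) ⟨u, hu⟩
      have hn' : u ^ ℓ ^ n = 1 := by simpa using congrArg Subtype.val hn
      have hgn : g ^ ℓ ^ n = 1 := by
        ext a
        rw [pow_smul_eq hgu, hn', one_smul]
        rfl
      have hwn : (f * g * f⁻¹) ^ ℓ ^ n = 1 := by
        rw [conj_pow, hgn, mul_one, mul_inv_cancel]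
      have hgz : g z = z := Subtype.ext (by rw [hgu, E.sys.fix z u hu])
      have hwz : (f * g * f⁻¹) (f z) = f z := by
        rw [Equiv.Perm.mul_apply, Equiv.Perm.mul_apply]
        have : f⁻¹ (f z) = z := f.symm_apply_apply z
        rw [this, hgz]
      obtain ⟨v, hv, h⟩ := exists_U_of_pElem E.sys hk hwz hwn
      exact ⟨v, hv, h⟩
    · refine PE.pow_eq_one_iff.2 ⟨1, ?_⟩
      ext z
      rw [restr_pow hf, pow_one, hθ]
      rfl
    · intro m hm
      obtain ⟨k, hk⟩ := (iSup_le fun z => fam_le_ActG E.sys z) hm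
      obtain ⟨n, hn⟩ := PE.pow_eq_one_iff.1 (hP k)
      refine PE.pow_eq_one_iff.2 ⟨n, ?_⟩
      have hki : ∀ z, ((m⁻¹) z : K ⧸ E.P.B) = k⁻¹ • (z : K ⧸ E.P.B) := by
        intro z
        rw [eq_inv_smul_iff, ← hk]
        congr 1
        exact m.apply_symm_apply z
      have h1 : ∀ z, ((f * (m * f * m⁻¹)) z : K ⧸ E.P.B) =
          (t.θ * MulAction.toPerm k * t.θ * (MulAction.toPerm k)⁻¹ : Equiv.Perm (K ⧸ E.P.B)) z := by
        intro z
        simp only [Equiv.Perm.mul_apply]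
        rw [hf, hk, hf, hki]
        rfl
      ext z
      rw [restr_pow h1, hn]
      rfl
  intro z hz
  have h1 := hf ⟨z, hz⟩
  rw [hone] at h1
  exact h1.symm

theorem hnode_of_px {t : Tw E.Δ K} (hσ : ∀ i, t.σ i = i) {g : K} (hg : Iv (cx t.τ g) E.P.B) (i : Fin l) {r : ℕ}
    [Fact r.Prime] (hθ : t.θ ^ r = 1)
    (hP : ∀ g : K, PE r (t.θ * MulAction.toPerm g * t.θ * (MulAction.toPerm g)⁻¹ : Equiv.Perm (K ⧸ E.P.B)))
    (hX : PX r (E.sys.fam i (QuotientGroup.mk g))) :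
    ∀ k ∈ E.P.parabolic {(E.e i : K)}, k⁻¹ * cx t.τ g k ∈ E.P.B := by
  intro k hk
  have hc := (fixed_iff t g).2 hg
  have h1 : (QuotientGroup.mk (g * k) : K ⧸ E.P.B) ∈ E.Δ.Pan i (QuotientGroup.mk g) := by
    rw [E.Δ.Pan_eq_Res, mem_Res, bldg_δ_mk, inv_mul_cancel_left, ← mem_PJ E.e E.cs E.hcs, PJ_singleton]
    exact hk
  have h2 := fix_pan hσ hc i hθ hP hX _ h1
  rw [theta_mk_of_fixed hc, eq_comm, mk_eq] at h2
  have e : (g * k)⁻¹ * (g * cx t.τ g k) = k⁻¹ * cx t.τ g k := by group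
  rwa [e] at h2

/-! ### The diagram -/

theorem comm_iff {i j : Fin l} (hij : i ≠ j) :
    (E.e i : K) * (E.e j : K) * (E.e i : K)⁻¹ * (E.e j : K)⁻¹ ∈ E.P.B ↔ M i j = 2 := by
  have hi := E.P.subset (E.e i).2
  have hj := E.P.subset (E.e j).2
  have hN : (E.e i : K) * (E.e j : K) * (E.e i : K)⁻¹ * (E.e j : K)⁻¹ ∈ E.P.N :=
    mul_mem (mul_mem (mul_mem hi hj) (inv_mem hi)) (inv_mem hj)
  have h1 : (QuotientGroup.mk (⟨_, hN⟩ : E.P.N) : WP E.P) =
      E.cs.simple i * E.cs.simple j * (E.cs.simple i)⁻¹ * (E.cs.simple j)⁻¹ := by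
    rw [E.hcs, E.hcs]
    rfl
  have h2 : (E.e i : K) * (E.e j : K) * (E.e i : K)⁻¹ * (E.e j : K)⁻¹ ∈ E.P.B ↔
      E.cs.simple i * E.cs.simple j * (E.cs.simple i)⁻¹ * (E.cs.simple j)⁻¹ = 1 := by
    rw [← h1, QuotientGroup.eq_one_iff, Subgroup.mem_subgroupOf]
    exact ⟨fun h => ⟨h, hN⟩, fun h => h.1⟩
  rw [h2, E.cs.inv_simple, E.cs.inv_simple]
  have h3 : E.cs.simple i * E.cs.simple j * E.cs.simple i * E.cs.simple j = (E.cs.simple i * E.cs.simple j) ^ 2 := by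
    rw [pow_two]; group
  rw [h3]
  constructor
  · intro h
    have h4 := orderOf_dvd_of_pow_eq_one h
    rw [LieRecognition.CoxForm.orderOf_eq E.cs, Nat.dvd_prime Nat.prime_two] at h4
    exact h4.resolve_left (M.off_diagonal i j hij)
  · intro h
    have := E.cs.simple_mul_simple_pow i j
    rwa [h] at this

theorem irreducible (irr : ∀ J : Set (Fin l), J.Nonempty → J ≠ Set.univ → ∃ a ∈ J, ∃ b, b ∉ J ∧ M a b ≠ 2) :
    E.P.Irreducible := by
  rintro J hJ ⟨s, hs⟩ ⟨s', hs', hsJ'⟩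
  obtain ⟨a, ha, b, hb, hab⟩ := irr {i | (E.e i : K) ∈ J} (by
      obtain ⟨i, hi⟩ := E.e.surjective ⟨s, hJ hs⟩
      exact ⟨i, by rw [Set.mem_ofPred_eq, hi]; exact hs⟩) (by
      intro h
      obtain ⟨i, hi⟩ := E.e.surjective ⟨s', hs'⟩
      have h1 : i ∈ {i | (E.e i : K) ∈ J} := by rw [h]; trivial
      rw [Set.mem_ofPred_eq, hi] at h1
      exact hsJ' h1)
  have hne : a ≠ b := fun h => hb (h ▸ ha)
  refine ⟨_, ha, E.e b, ⟨(E.e b).2, hb⟩, fun h => hab ((comm_iff hne).1 h)⟩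

/-- a non-trivial extension of the diagram: the neighbour argument in rank at least three -/
theorem hnode_of_neighbour {t : Tw E.Δ K} (hσ : ∀ i, t.σ i = i) (h : RC t.τ) {g : K} (hgB : Iv (cx t.τ g) E.P.B)
    {i j : Fin l} (hij : i ≠ j) (hM : M i j ≠ 2) (hne : ∃ k, k ≠ i ∧ k ≠ j) :
    ∀ k ∈ E.P.parabolic {(E.e i : K)}, k⁻¹ * cx t.τ g k ∈ E.P.B := by
  have hLS : ({(E.e i : K), (E.e j : K)} : Set K) ⊆ E.P.S := by
    rintro u (rfl | rfl)
    · exact (E.e i).2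
    · exact (E.e j).2
  have hLne : ({(E.e i : K), (E.e j : K)} : Set K) ≠ E.P.S := by
    intro he
    obtain ⟨k, hki, hkj⟩ := hne
    have h1 : (E.e k : K) ∈ ({(E.e i : K), (E.e j : K)} : Set K) := by rw [he]; exact (E.e k).2
    rcases h1 with h1 | h1
    · exact hki (E.e.injective (Subtype.ext h1))
    · exact hkj (E.e.injective (Subtype.ext h1))
  have hst : (E.e i : K) * (E.e j : K) * (E.e i : K)⁻¹ * (E.e j : K)⁻¹ ∉ E.P.B := fun h => hM ((comm_iff hij).1 h)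
  have hne' : (E.e i : K) ≠ (E.e j : K) := fun h => hij (E.e.injective (Subtype.ext h))
  obtain ⟨L', hL', hLe', -, hc⟩ := H459.NonEll.radIn_sup E.P E.sol hLS
  have hsL : (E.e i : K) ∉ L' := fun h1 => hst (hc _ h1 _ (Or.inr rfl) hne')
  have htL : (E.e j : K) ∉ L' := fun h1 => by
    have h2 := hc _ h1 _ (Or.inl rfl) hne'.symm
    apply hst
    have e : (E.e i : K) * (E.e j : K) * (E.e i : K)⁻¹ * (E.e j : K)⁻¹ =
        ((E.e j : K) * (E.e i : K) * (E.e j : K)⁻¹ * (E.e i : K)⁻¹)⁻¹ := by group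
    rw [e]
    exact inv_mem h2
  have hL0 : L' = ∅ := by
    rw [Set.eq_empty_iff_forall_notMem]
    intro u hu
    rcases hL' hu with rfl | rfl
    · exact hsL hu
    · exact htL hu
  rw [hL0, parabolic_empty] at hLe'
  intro k hk
  have h4 := (h.cx g) _ (H459.NonEll.parabolic_ne_top E.P hLS hLne)
    (H459.NonEll.iv_parabolic E.P hgB (fun s hs => iv_parabolic hσ hgB hs) hLS) k
    (parabolic_mono E.P (Set.singleton_subset_iff.2 (Or.inl rfl)) hk)
  exact hLe'.le (mem_sup_left h4)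

theorem singleton_ne_top (h2 : 2 ≤ l) {s : K} (hs : s ∈ E.P.S) : E.P.parabolic {s} ≠ ⊤ := by
  refine H459.NonEll.parabolic_ne_top E.P (Set.singleton_subset_iff.2 hs) fun he => ?_
  have h0 : ∀ i : Fin l, (E.e i : K) = s := fun i => by
    have : (E.e i : K) ∈ ({s} : Set K) := by rw [he]; exact (E.e i).2
    exact this
  have h1 : E.e ⟨0, by omega⟩ = E.e ⟨1, by omega⟩ := Subtype.ext ((h0 _).trans (h0 _).symm)
  have h2 := congrArg Fin.val (E.e.injective h1)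
  exact absurd h2 (by norm_num)

/-- **From a fixed chamber to the identity.** -/
theorem eq_one_of_borel (h2 : 2 ≤ l) {t : Tw E.Δ K} (hσ : ∀ i, t.σ i = i) (hR : RC t.τ) {g₀ : K}
    (hg₀ : Iv (cx t.τ g₀) E.P.B)
    (hnode : ∀ i, Group.IsSolvable ↥(E.P.parabolic {(E.e i : K)}) → ∀ g, Iv (cx t.τ g) E.P.B →
      ∀ k ∈ E.P.parabolic {(E.e i : K)}, k⁻¹ * cx t.τ g k ∈ E.P.B) : t.τ = 1 := by
  have hall := all_fixed E.P (hR.cx g₀) E.sol (fun s hs => singleton_ne_top h2 hs)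
    (fun g' hg' s hs => by rw [cx_cx] at hg' ⊢; exact iv_parabolic hσ hg' hs)
    (fun g' hg' s hs hsol k hk => by
      rw [cx_cx] at hg' ⊢
      obtain ⟨i, hi⟩ := E.e.surjective ⟨s, hs⟩
      have h1 : (E.e i : K) = s := congrArg Subtype.val hi
      subst h1
      exact hnode i hsol _ hg' k hk) hg₀
  have h1 := eq_one E.P E.core hall
  have h3 : t.τ = MulAut.conj g₀ * cx t.τ g₀ * (MulAut.conj g₀)⁻¹ := by
    unfold cx
    group
  rw [h3, h1, mul_one, mul_inv_cancel]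

/-! ### The theorem -/

/-- the orders `Q i` are powers of `ℓ` -/
theorem Eng.q_pow (E : Eng ℓ K M Q) (i : Fin l) : ∃ n, Q i = ℓ ^ n := by
  obtain ⟨a, ha⟩ := Cfsg.Agent.H459.NonEll.index_node E.P (r := ℓ) (U := E.U) E.S.le E.S.isP E.S.cover (E.e i).2
  rw [relIndex_eq E.S E.e (E.node i)] at ha
  exact ⟨a, by omega⟩

theorem Eng.q_ne (E : Eng ℓ K M Q) (i : Fin l) {r : ℕ} (hr : r.Prime) (hrl : r ≠ ℓ) : ¬ r ∣ Q i := by
  intro hd
  obtain ⟨n, hn⟩ := E.q_pow i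
  rw [hn] at hd
  exact hrl ((Nat.prime_dvd_prime_iff_eq hr Fact.out).1 (hr.dvd_of_dvd_pow hd))

/-- **Automorphisms normalising a proper parabolic subgroup.** -/
theorem fix_main (irr : ∀ J : Set (Fin l), J.Nonempty → J ≠ Set.univ → ∃ a ∈ J, ∃ b, b ∉ J ∧ M a b ≠ 2)
    (h2 : 2 ≤ l) {r : ℕ} [hr : Fact r.Prime] (hr2 : r ≠ 2) {t : Tw E.Δ K} (hx : orderOf t.τ = r) (hR : RC t.τ)
    (hP : PA r t.τ) (hθ : t.θ ^ r = 1) (hσ : ∀ i, t.σ i = i) (hne : r = ℓ ∨ ¬ Elliptic t) :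
    (r ≠ ℓ ∧ (¬ ∃ g, Iv (cx t.τ g) E.P.B) ∧ ∃ c : Fin l,
      (∀ i, i ≠ c → Group.IsSolvable ↥(E.P.parabolic {(E.e i : K)}) ∧ r ∣ Q i + 1) ∧
        ∀ i j, i ≠ c → j ≠ c → i ≠ j → M i j = 2) ∨
      (r = ℓ ∧ l = 2 ∧ ∃ i, Group.IsSolvable ↥(E.P.parabolic {(E.e i : K)})) := by
  have hPθ := fun g => E.pe_theta rfl hP g
  have hx1 : t.τ ≠ 1 := by
    intro h
    rw [h, orderOf_one] at hx
    exact hr.out.one_lt.ne hx
  have hxr : t.τ ^ r = 1 := by rw [← hx]; exact pow_orderOf_eq_one _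
  by_cases hrl : r = ℓ
  · right
    refine ⟨hrl, ?_⟩
    -- a fixed chamber
    obtain ⟨c, hc⟩ : ∃ c, t.θ c = c := by
      have : Fintype (K ⧸ E.P.B) := Fintype.ofFinite _
      have h1 : ¬ r ∣ Fintype.card (K ⧸ E.P.B) := by
        rw [← Nat.card_eq_fintype_card]
        intro hd
        have h2 : Nat.card (K ⧸ E.P.B) ≡ 1 [MOD r] := by
          rw [hrl]
          exact card_modEq (P := E.P) E.S
        have h3 := (h2.dvd_iff (dvd_refl r)).1 hd
        exact hr.out.one_lt.ne' (Nat.dvd_one.1 h3)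
      exact Equiv.Perm.exists_fixed_point_of_prime (p := r) (n := 1) h1 (by rw [pow_one]; exact hθ)
    obtain ⟨g, rfl⟩ := QuotientGroup.mk_surjective c
    have hg := (fixed_iff t g).1 hc
    by_contra hcon
    apply hx1
    refine eq_one_of_borel h2 hσ hR hg fun i hsol g' hg' => ?_
    have hl : l ≠ 2 := fun h => hcon ⟨h, i, hsol⟩
    obtain ⟨a, ha, j, hj, haj⟩ := irr {i} (Set.singleton_nonempty i) (by
      intro h
      have h0 : (⟨0, by omega⟩ : Fin l) ∈ ({i} : Set (Fin l)) := by rw [h]; trivial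
      have h1 : (⟨1, by omega⟩ : Fin l) ∈ ({i} : Set (Fin l)) := by rw [h]; trivial
      have h2 := congrArg Fin.val (h0.trans h1.symm)
      exact absurd h2 (by norm_num))
    rw [Set.mem_singleton_iff] at ha hj
    subst ha
    refine hnode_of_neighbour hσ hR hg' (Ne.symm hj) haj ?_
    by_contra hk
    push Not at hk
    have h3 : Fintype.card (Fin l) ≤ 2 := by
      have h4 : (Finset.univ : Finset (Fin l)) ⊆ {a, j} := by
        intro k _
        by_cases h5 : k = a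
        · simp [h5]
        · simp [hk k h5]
      rw [← Finset.card_univ]
      exact (Finset.card_le_card h4).trans Finset.card_le_two
    rw [Fintype.card_fin] at h3
    omega
  · left
    have hno : ¬ ∃ g, Iv (cx t.τ g) E.P.B := by
      rintro ⟨g, hg⟩
      apply hx1
      exact eq_one_of_borel h2 hσ hR hg fun i hsol g' hg' =>
        hnode_of_px hσ hg' i hθ hPθ (px_sol E.S E.e E.cs E.hcs (E.node i) hsol hr2 (E.q_ne i hr.out hrl) _)
    refine ⟨hrl, hno, ?_⟩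
    obtain ⟨J, hJ, g, hg⟩ := exists_par hσ (hne.resolve_left hrl)
    obtain ⟨U', hU'⟩ := Cfsg.Agent.H459.RgdRad.exists_sylow E.S
    have hN : normalizer ((U' : Subgroup K) : Set K) = E.P.B := by rw [hU']; exact E.S.normalizer_eq
    obtain ⟨c, hc, hs⟩ := RCStar.star E.P U' hN hR hxr E.sol (irreducible irr) (rig_of_sigma hσ) (PJ_sub E.e J) (by
      intro h
      apply hJ
      refine Set.eq_univ_of_forall fun i => ?_
      have h1 : (E.e i : K) ∈ (fun i => (E.e i : K)) '' J := by rw [h]; exact (E.e i).2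
      obtain ⟨j, hj, h3⟩ := h1
      rw [← E.e.injective (Subtype.ext h3)]
      exact hj) hg hno
    obtain ⟨c', hc'⟩ := E.e.surjective ⟨c, hc⟩
    have hcc : (E.e c' : K) = c := congrArg Subtype.val hc'
    have hne : ∀ i, i ≠ c' → (E.e i : K) ≠ c := fun i hi h => hi (E.e.injective (Subtype.ext (h.trans hcc.symm)))
    refine ⟨c', fun i hi => ?_, fun i j hi hj hij => ?_⟩
    · obtain ⟨h3, h4, -⟩ := hs _ (E.e i).2 (hne i hi)
      rw [relIndex_eq E.S E.e (E.node i)] at h4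
      exact ⟨h3, h4⟩
    · obtain ⟨-, -, h5⟩ := hs _ (E.e i).2 (hne i hi)
      exact (comm_iff hij).1 (h5 _ (E.e j).2 (hne j hj) fun h => hij (E.e.injective (Subtype.ext h)))

end Cfsg.Agent.H460.Engine
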