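import Cfsg.Agent.H460.EngFix

/-!
# The engine: conclusion (helper460)

* `Dg M` : the diagram conditions;
* `eng_main` : an automorphism `x` of odd prime order `r` with `RC` and `PA` of a group with typed nodes: `x` is in one of
  the two small situations (`r = 3`).
-/

set_option autoImplicit false
set_option linter.unusedSectionVars false

namespace Cfsg.Agent.H460.Engine

open Cfsg Subgroup Cfsg.Agent.LieExceptional.BNPairCore Cfsg.Agent.Tits.Core Cfsg.Agent.Tits.Core.Bldg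
  Cfsg.Agent.Tits.OfBN Cfsg.Agent.Schreier.BNSch Cfsg.Agent.Tits.OppRes Cfsg.Agent.FixBN.OfBN
open Cfsg.Agent.FixBN (Sys Split famStab mem_famStab)
open Cfsg.Agent.FixBN.U3Model
open Cfsg.Agent.FixOdd (Tw)
open Cfsg.Agent.H460.Typed Cfsg.Agent.H460.Pan Cfsg.Agent.H460.AA Cfsg.Agent.H460.EllC Cfsg.Agent.H460.PanL
  Cfsg.Agent.H185.TypedTw Cfsg.Agent.H459.Rad Cfsg.Agent.H459.Gallery Cfsg.Agent.H460.EllPan

/-- The conditions on the diagram: connected, bipartite, of rank at least two, not `A₂`. -/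
structure Dg {l : ℕ} (M : CoxeterMatrix (Fin l)) : Prop where
  two : 2 ≤ l
  irr : ∀ J : Set (Fin l), J.Nonempty → J ≠ Set.univ → ∃ a ∈ J, ∃ b, b ∉ J ∧ M a b ≠ 2
  bip : Bip M
  notA : ¬ ∃ i j, M i j = 3 ∧ ∀ k, k = i ∨ k = j
  odd : ∀ i j, i ≠ j → (∀ k, k = i ∨ k = j) → Odd (M i j) → M i j = 3

/-- No diagram automorphisms of order `r`. -/
def NoAut {l : ℕ} (M : CoxeterMatrix (Fin l)) (r : ℕ) : Prop :=
  ∀ σ : Equiv.Perm (Fin l), (∀ i j, M (σ i) (σ j) = M i j) → σ ^ r = 1 → σ = 1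

variable {K : Type*} [Group K] [Finite K] {ℓ : ℕ} [Fact ℓ.Prime] {l : ℕ} {M : CoxeterMatrix (Fin l)} {Q : Fin l → ℕ}

/-- the star situation -/
def Star (E : Eng ℓ K M Q) (r : ℕ) (x : MulAut K) : Prop :=
  r ≠ ℓ ∧ (¬ ∃ g, Iv (cx x g) E.P.B) ∧ (∃ t : Tw E.Δ K, t.τ = x ∧ t.θ ^ r = 1 ∧ (∀ i, t.σ i = i) ∧ ¬ Elliptic t) ∧
    ∃ c : Fin l, (∀ i, i ≠ c → Group.IsSolvable ↥(E.P.parabolic {(E.e i : K)}) ∧ r ∣ Q i + 1) ∧
        ∀ i j, i ≠ c → j ≠ c → i ≠ j → M i j = 2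

/-- the situation in the defining characteristic -/
def Own (E : Eng ℓ K M Q) (r : ℕ) : Prop :=
  r = ℓ ∧ l = 2 ∧ ∃ i, Group.IsSolvable ↥(E.P.parabolic {(E.e i : K)})

/-- **The type preserving automorphisms.** -/
theorem eng_sigma {E : Eng ℓ K M Q} (hD : Dg M) {r : ℕ} [hr : Fact r.Prime] (hr2 : r ≠ 2) {x : MulAut K}
    (hx : orderOf x = r) (hR : RC x) (hP : PA r x) {t : Tw E.Δ K} (ht : t.τ = x) (hθ : t.θ ^ r = 1)
    (hσ : ∀ i, t.σ i = i) (hPF : 5 ≤ r → (∀ i, r ∣ Q i + 1) → ∀ i x, PF r (E.sys.fam i x)) :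
    Star E r x ∨ Own E r := by
  subst ht
  have hxr : t.τ ^ r = 1 := by rw [← hx]; exact pow_orderOf_eq_one _
  by_cases hne : r = ℓ ∨ ¬ Elliptic t
  · rcases fix_main hD.irr hD.two hr2 hx hR hP hθ hσ hne with ⟨h1, h2, h3⟩ | h
    · exact Or.inl ⟨h1, h2, ⟨t, rfl, hθ, hσ, hne.resolve_left h1⟩, h3⟩
    · exact Or.inr h
  · push Not at hne
    exact (ell_false hD.bip hD.irr hD.notA hD.two hr2 hne.1 hxr hP rfl hθ hσ hne.2 hD.odd hPF).elim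

theorem eng_main {E : Eng ℓ K M Q} (hD : Dg M) {r : ℕ} [hr : Fact r.Prime] (hr2 : r ≠ 2) (hA : NoAut M r)
    {x : MulAut K} (hx : orderOf x = r) (hR : RC x) (hP : PA r x)
    (hPF : 5 ≤ r → (∀ i, r ∣ Q i + 1) → ∀ i x, PF r (E.sys.fam i x)) : Star E r x ∨ Own E r := by
  obtain ⟨t, ht, h1⟩ := E.exists_t x
  have hxr : x ^ r = 1 := by rw [← hx]; exact pow_orderOf_eq_one _
  have hθ := h1 r hxr
  have hσ : t.σ = 1 := hA t.σ (E.sigma_M t) (E.sigma_pow hθ)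
  exact eng_sigma hD hr2 hx hR hP ht hθ (fun i => by rw [hσ]; rfl) hPF

/-! ### Panels with a fixed chamber -/

/-- `PF` for the unitary families -/
def PFU : Prop := ∀ (F : Type) [Field F] [Finite F] (σ : F →+* F) [Inv2 σ], (∃ x, σ x ≠ x) → ∀ q : ℕ,
  Nat.card F = q ^ 2 → q ≠ 2 → ∀ (r : ℕ) [Fact r.Prime], r ≠ 2 → ¬ r ∣ q → PF r (Cfsg.Agent.FixBN.RankOneU3.u3Fam σ)

theorem pf_pan (hU : PFU) (E : Eng ℓ K M Q) {r : ℕ} [hr : Fact r.Prime] (h5 : 5 ≤ r) (i : Fin l) (hi : r ∣ Q i + 1)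
    (x : K ⧸ E.P.B) : PF r (E.sys.fam i x) := by
  have hr2 : r ≠ 2 := by omega
  have hrQ : ¬ r ∣ Q i := by
    intro h
    have h1 := (Nat.dvd_add_right h).1 hi
    have := Nat.le_of_dvd one_pos h1
    omega
  have hQ := E.node i
  induction x using QuotientGroup.induction_on with
  | _ g =>
  obtain ⟨V, Nd, ⟨F, _, _, hQ, ⟨N⟩⟩ | ⟨F, _, _, σ, _, q, hσ, hq, hQ, ⟨N⟩⟩⟩ := hQ
  · refine (H458.PanF.pf_line F hr2 (by rwa [hQ]) ?_).map _ (H14.CycNode.iso_mk E.S E.e E.cs E.hcs i Nd N g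
      fun y f => Iff.rfl)
    rw [hQ]
    intro h
    rw [h] at hi
    have := Nat.le_of_dvd (by norm_num) hi
    omega
  · refine (hU F σ hσ q hq ?_ r hr2 (fun hd => hrQ (by rw [hQ]; exact dvd_pow hd (by norm_num)))).map _
      (H14.CycNode.Uni.iso_mk E.S E.e E.cs E.hcs i Nd N g fun y f => Iff.rfl)
    rintro rfl
    rw [hQ] at hi
    have h9 : r ∣ 3 * 3 := hi
    rcases hr.out.dvd_mul.1 h9 with h | h <;>
      · have := Nat.le_of_dvd (by norm_num) h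
        omega

/-! ### Numbers -/

theorem Star.q {E : Eng ℓ K M Q} {r : ℕ} {x : MulAut K} [hr : Fact r.Prime] (hr2 : r ≠ 2) (hl : 2 ≤ l)
    (h : Star E r x) : r = 3 ∧ ℓ = 2 ∧ ∃ c : Fin l, (∀ i, i ≠ c → Q i = 2 ∨ Q i = 8) ∧
        ∀ i j, i ≠ c → j ≠ c → i ≠ j → M i j = 2 := by
  obtain ⟨h1, h2, -, c, h3, h4⟩ := h
  have key : ∀ i, i ≠ c → r = 3 ∧ (Q i = 2 ∨ Q i = 8) := by
    intro i hi
    obtain ⟨h5, h6⟩ := h3 i hi
    rcases q_of_sol E.S E.e (E.node i) h5 with h7 | h7 | h7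
    · rw [h7] at h6
      exact ⟨(Nat.prime_dvd_prime_iff_eq hr.out Nat.prime_three).1 h6, Or.inl h7⟩
    · rw [h7] at h6
      exfalso
      have h8 : r ∣ 2 * 2 := h6
      rcases hr.out.dvd_mul.1 h8 with h9 | h9 <;>
        exact hr2 ((Nat.prime_dvd_prime_iff_eq hr.out Nat.prime_two).1 h9)
    · rw [h7] at h6
      have h8 : r ∣ 3 * 3 := h6
      refine ⟨?_, Or.inr h7⟩
      rcases hr.out.dvd_mul.1 h8 with h9 | h9 <;>
        exact (Nat.prime_dvd_prime_iff_eq hr.out Nat.prime_three).1 h9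
  obtain ⟨i, hi⟩ : ∃ i : Fin l, i ≠ c := by
    by_contra hcon
    push Not at hcon
    have h5 := (hcon ⟨0, by omega⟩).trans (hcon ⟨1, by omega⟩).symm
    have := congrArg Fin.val h5
    exact absurd this (by norm_num)
  refine ⟨(key i hi).1, ?_, c, fun i hi => (key i hi).2, h4⟩
  obtain ⟨n, hn⟩ := E.q_pow i
  have h6 : 2 ∣ ℓ ^ n := by
    rw [← hn]
    rcases (key i hi).2 with h | h <;> rw [h]
    norm_num
  exact ((Nat.prime_dvd_prime_iff_eq Nat.prime_two Fact.out).1 (Nat.prime_two.dvd_of_dvd_pow h6)).symm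

/-- with nodes over fields -/
theorem Star.qF {E : Eng ℓ K M Q} (hF : ∀ i, FNode E.P E.U (E.e i : K) (Q i)) {r : ℕ} {x : MulAut K}
    [hr : Fact r.Prime] (hr2 : r ≠ 2) (hl : 2 ≤ l)
    (h : Star E r x) : r = 3 ∧ ℓ = 2 ∧ ∃ c : Fin l, (∀ i, i ≠ c → Q i = 2) ∧
        ∀ i j, i ≠ c → j ≠ c → i ≠ j → M i j = 2 := by
  obtain ⟨h1, h2, -⟩ := h.q hr2 hl
  obtain ⟨-, -, -, c, h3, h4⟩ := h
  refine ⟨h1, h2, c, fun i hi => ?_, h4⟩
  obtain ⟨h5, h6⟩ := h3 i hi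
  rcases q_of_fsol E.S E.e (hF i) h5 with h7 | h7
  · exact h7
  · rw [h7, h1] at h6
    exact absurd h6 (by norm_num)

theorem Own.q {E : Eng ℓ K M Q} {r : ℕ} [hr : Fact r.Prime] (hr2 : r ≠ 2) (h : Own E r) :
    r = 3 ∧ ℓ = 3 ∧ l = 2 ∧ ∃ i, Q i = 3 := by
  obtain ⟨h1, h2, i, h3⟩ := h
  obtain ⟨n, hn⟩ := E.q_pow i
  have hl2 : ℓ ≠ 2 := by rw [← h1]; exact hr2
  have key : ¬ 2 ∣ Q i := by
    intro h
    rw [hn] at h
    exact hl2 ((Nat.prime_dvd_prime_iff_eq Nat.prime_two Fact.out).1 (Nat.prime_two.dvd_of_dvd_pow h)).symm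
  rcases q_of_sol E.S E.e (E.node i) h3 with h7 | h7 | h7
  · exact absurd (by rw [h7]) key
  · have h8 : ℓ = 3 := by
      rw [h7] at hn
      have h9 : 3 ∣ ℓ ^ n := by rw [← hn]
      exact ((Nat.prime_dvd_prime_iff_eq Nat.prime_three Fact.out).1 (Nat.prime_three.dvd_of_dvd_pow h9)).symm
    exact ⟨h1.trans h8, h8, h2, i, h7⟩
  · exact absurd (by rw [h7]; norm_num) key

end Cfsg.Agent.H460.Engine
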