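import Cfsg.Agent.H460.EngMain

/-!
# The engine: supplements (helper460)

* `no_par_of_elliptic` : an elliptic automorphism normalises no proper parabolic subgroup;
* `star_two` : the star situation in rank two;
* `inner_of_two` : type preserving automorphisms are inner if all panels have three chambers.
-/

set_option autoImplicit false
set_option linter.unusedSectionVars false

namespace Cfsg.Agent.H460.Engine

open Cfsg Subgroup Cfsg.Agent.LieExceptional.BNPairCore Cfsg.Agent.Tits.Core Cfsg.Agent.Tits.Core.Bldg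
  Cfsg.Agent.Tits.OfBN Cfsg.Agent.Schreier.BNSch Cfsg.Agent.Tits.OppRes Cfsg.Agent.FixBN.OfBN
open Cfsg.Agent.FixBN (Sys Split)
open Cfsg.Agent.FixOdd (Tw)
open Cfsg.Agent.H460.Typed Cfsg.Agent.H460.AA Cfsg.Agent.H460.EllC Cfsg.Agent.H460.PanL
  Cfsg.Agent.H459.Rad Cfsg.Agent.H459.Gallery
open Cfsg.Agent.H694 (PJ PJ_sub mem_PJ)

variable {K : Type*} [Group K] [Finite K] {ℓ : ℕ} [Fact ℓ.Prime] {l : ℕ} {M : CoxeterMatrix (Fin l)} {Q : Fin l → ℕ}
  {E : Eng ℓ K M Q}

/-- the group `U` as a Sylow subgroup -/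
theorem Eng.exists_U (E : Eng ℓ K M Q) : ∃ U' : Sylow ℓ K, (U' : Subgroup K) = E.U ∧
    normalizer ((U' : Subgroup K) : Set K) = E.P.B := by
  obtain ⟨U', hU'⟩ := Cfsg.Agent.H459.RgdRad.exists_sylow E.S
  exact ⟨U', hU', by rw [hU']; exact E.S.normalizer_eq⟩

/-- normalisers of Sylow subgroups are conjugates of `B` -/
theorem Eng.normalizer_sylow (E : Eng ℓ K M Q) (V : Sylow ℓ K) :
    ∃ g : K, normalizer ((V : Subgroup K) : Set K) = E.P.B.map (MulAut.conj g).toMonoidHom := by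
  obtain ⟨U', -, hN⟩ := E.exists_U
  obtain ⟨g, hg⟩ := MulAction.exists_smul_eq K U' V
  refine ⟨g, ?_⟩
  rw [← hN, ← hg, Sylow.coe_subgroup_smul]
  exact (Subgroup.map_equiv_normalizer_eq (U' : Subgroup K) (MulAut.conj g)).symm

/-- **Elliptic automorphisms normalise no proper parabolic subgroup.** -/
theorem no_par_of_elliptic {t : Tw E.Δ K} (hell : Elliptic t) (V : Sylow ℓ K) (H : Subgroup K)
    (hH : H ≠ ⊤) (hle : normalizer ((V : Subgroup K) : Set K) ≤ H) : ∃ h ∈ H, t.τ h ∉ H := by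
  by_contra hcon
  push Not at hcon
  obtain ⟨U', -, hN⟩ := E.exists_U
  obtain ⟨g, hg⟩ := E.normalizer_sylow V
  set H0 : Subgroup K := H.map (MulAut.conj g⁻¹).toMonoidHom with hH0
  have hmem : ∀ k, k ∈ H0 ↔ g * k * g⁻¹ ∈ H := by
    intro k
    constructor
    · rintro ⟨h, hh, rfl⟩
      have e : g * ((MulAut.conj g⁻¹).toMonoidHom h) * g⁻¹ = h := by
        simp [mul_assoc]
      rwa [e]
    · intro h
      refine ⟨_, h, ?_⟩
      simp [mul_assoc]
  have hBH : E.P.B ≤ H0 := by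
    intro b hb
    rw [hmem]
    apply hle
    rw [hg]
    exact ⟨b, hb, by simp⟩
  have hH0t : H0 ≠ ⊤ := by
    intro h
    apply hH
    rw [eq_top_iff]
    intro k _
    have h1 : g⁻¹ * k * g ∈ H0 := by rw [h]; trivial
    rw [hmem] at h1
    have e : g * (g⁻¹ * k * g) * g⁻¹ = k := by group
    rwa [e] at h1
  obtain ⟨J0, hJ0, hJe⟩ := Cfsg.Agent.S0311.result E.P H0 hBH
  set J : Set (Fin l) := {i | (E.e i : K) ∈ J0} with hJ
  have hJJ : (fun i => (E.e i : K)) '' J = J0 := by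
    ext s
    constructor
    · rintro ⟨i, hi, rfl⟩
      exact hi
    · intro hs
      obtain ⟨i, hi⟩ := E.e.surjective ⟨s, hJ0 hs⟩
      have h1 : (E.e i : K) = s := congrArg Subtype.val hi
      exact ⟨i, by rw [hJ, Set.mem_ofPred_eq, h1]; exact hs, h1⟩
  have hPJ : PJ E.P E.e J = H0 := by
    unfold PJ
    rw [hJJ, hJe]
  have hiv : Iv (cx t.τ g) H0 := by
    intro k hk
    rw [hmem] at hk ⊢
    rw [cx_apply]
    have e : g * (g⁻¹ * t.τ (g * k * g⁻¹) * g) * g⁻¹ = t.τ (g * k * g⁻¹) := by group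
    rw [e]
    exact hcon _ hk
  obtain ⟨m, hm, hmB⟩ := exists_conj_fix E.P U' hN hBH hiv
  have h1 : MulAut.conj m * cx t.τ g = (twConj t (m * (g⁻¹ * t.τ g))).τ := by
    show _ = MulAut.conj (m * (g⁻¹ * t.τ g)) * t.τ
    rw [RCStar.cx_eq, ← mul_assoc, ← map_mul]
  have h2 : (twConj t (m * (g⁻¹ * t.τ g))).θ (QuotientGroup.mk 1) = QuotientGroup.mk 1 := by
    rw [fixed_iff, cx_one, ← h1]
    exact hmB
  have h3 : (m * (g⁻¹ * t.τ g)) • t.θ (QuotientGroup.mk 1) = QuotientGroup.mk 1 := h2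
  have h4 : t.θ (QuotientGroup.mk g) = QuotientGroup.mk (g * m⁻¹) := by
    have h5 := theta_smul_mk t 1 g
    rw [mul_one] at h5
    rw [h5]
    have h6 : t.θ (QuotientGroup.mk 1) = (m * (g⁻¹ * t.τ g))⁻¹ • (QuotientGroup.mk 1 : K ⧸ E.P.B) := by
      rw [eq_inv_smul_iff, h3]
    rw [h6, smul_mk, smul_mk]
    congr 1
    group
  have h5 : J = Set.univ := by
    refine hell (QuotientGroup.mk g) J ?_
    rw [h4, mem_Res, bldg_δ_mk, ← mem_PJ E.e E.cs E.hcs, inv_mul_cancel_left, hPJ]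
    exact inv_mem hm
  apply hH0t
  rw [← hPJ, h5, eq_top_iff, ← sup_closure_eq_top E.P]
  unfold PJ
  have h6 : (fun i => (E.e i : K)) '' Set.univ = E.P.S := by
    ext s
    constructor
    · rintro ⟨i, -, rfl⟩
      exact (E.e i).2
    · intro hs
      obtain ⟨i, hi⟩ := E.e.surjective ⟨s, hs⟩
      exact ⟨i, trivial, congrArg Subtype.val hi⟩
  rw [h6]
  exact le_rfl

/-- **The star situation in rank two.** -/
theorem star_two {r : ℕ} {x : MulAut K} (h : Star E r x) (hR : RC x) (hl : l = 2) :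
    ∃ i, Group.IsSolvable ↥(E.P.parabolic {(E.e i : K)}) ∧ ∃ g, Iv (cx x g) (E.P.parabolic {(E.e i : K)}) := by
  obtain ⟨-, hno, ⟨t, rfl, -, hσ, hne⟩, -⟩ := h
  obtain ⟨J, hJ, g, hg⟩ := exists_par hσ hne
  -- `J` is a point
  obtain ⟨i, hi⟩ : ∃ i, J ⊆ {i} := by
    obtain ⟨j, hj⟩ := (Set.ne_univ_iff_exists_notMem J).1 hJ
    subst hl
    refine ⟨1 - j, fun k hk => ?_⟩
    have hkj : k ≠ j := fun h => hj (h ▸ hk)
    rw [Set.mem_singleton_iff]
    have key : ∀ k j : Fin 2, k ≠ j → k = 1 - j := by decide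
    exact key k j hkj
  have hne' : J = {i} := by
    rcases Set.subset_singleton_iff_eq.1 hi with h1 | h1
    · exfalso
      apply hno
      refine ⟨g, ?_⟩
      rw [h1] at hg
      unfold PJ at hg
      rwa [Set.image_empty, parabolic_empty] at hg
    · exact h1
  rw [hne', PJ_singleton] at hg
  refine ⟨i, ?_, g, hg⟩
  obtain ⟨L, hL, hLe, hLs, -⟩ := H459.NonEll.radIn_sup E.P E.sol (Set.singleton_subset_iff.2 (E.e i).2)
  rcases Set.subset_singleton_iff_eq.1 hL with h1 | h1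
  · exfalso
    apply hno
    refine ⟨g, ?_⟩
    have h2 := H459.NonEll.iv_of_sub E.P (hR.cx g) (singleton_ne_top (by omega) (E.e i).2) hL hg
      (by rw [← hLe]; exact le_sup_left)
    rwa [h1, parabolic_empty] at h2
  · rwa [h1] at hLs

/-- **Type preserving automorphisms are inner if all panels have three chambers.** -/
theorem inner_of_two (hQ : ∀ i, Q i = 2) {t : Tw E.Δ K} (hσ : ∀ i, t.σ i = i) : ∃ a, t.τ = MulAut.conj a := by
  classical
  have hC : Cox E.cs := inferInstance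
  obtain ⟨g, hg⟩ := OddHalf.Table.AutBldg.exists_conj_keep E.S t.τ
  have h1 : Iv (cx (twConj t g).τ 1) E.P.B := by
    rw [cx_one]
    exact fun b hb => (hg b).2 hb
  have h2 := (fixed_iff (twConj t g) 1).2 h1
  have hwt : ∀ k, wt E.P ((MulAut.conj g * t.τ) k) = wt E.P k := by
    intro k
    have := wt_cx (t := twConj t g) hσ h2 k
    rwa [cx_one] at this
  have hsg : ∀ i, OddHalf.Table.AutBldg.sg E.e E.cs E.hcs hg i = i := by
    intro i
    apply hC.inj
    rw [← OddHalf.Table.AutBldg.fW_simple' E.e E.cs E.hcs hg]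
    obtain ⟨k, hk⟩ := Cfsg.Agent.FixBN.TwOfBN.exists_wt (P := E.P) (E.cs.simple i)
    rw [← hk, Cfsg.Agent.FixBN.TwOfBN.fW_wt _ hg, hwt]
  have h3 : ∀ i, ∀ x y z, E.Δ.δ (QuotientGroup.mk 1) x = E.cs.simple i →
      E.Δ.δ (QuotientGroup.mk 1) y = E.cs.simple i → E.Δ.δ (QuotientGroup.mk 1) z = E.cs.simple i →
      x = y ∨ x = z ∨ y = z := by
    intro i x y z hx hy hz
    by_contra hcon
    push Not at hcon
    obtain ⟨h4, h5, h6⟩ := hcon
    have h7 := card_pan E.S E.e E.cs E.hcs (E.node i) (QuotientGroup.mk 1)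
    rw [hQ] at h7
    have hfin : Finite (E.Δ.Pan i (QuotientGroup.mk 1)) := Nat.finite_of_card_ne_zero (by rw [h7]; norm_num)
    have := Fintype.ofFinite (E.Δ.Pan i (QuotientGroup.mk 1))
    have hne : ∀ w, E.Δ.δ (QuotientGroup.mk 1) w = E.cs.simple i → w ≠ QuotientGroup.mk 1 := by
      rintro w hw rfl
      rw [Bldg.δ_self] at hw
      have h8 := E.cs.length_simple i
      rw [← hw, E.cs.length_one] at h8
      omega
    have h8 : Fintype.card (Fin 4) ≤ Fintype.card (E.Δ.Pan i (QuotientGroup.mk 1)) := by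
      refine Fintype.card_le_of_injective (fun n : Fin 4 => match n with
        | 0 => ⟨QuotientGroup.mk 1, E.Δ.self_mem_Pan i _⟩
        | 1 => ⟨x, Or.inr hx⟩
        | 2 => ⟨y, Or.inr hy⟩
        | 3 => ⟨z, Or.inr hz⟩) ?_
      intro a b hab
      have hx' := hne x hx
      have hy' := hne y hy
      have hz' := hne z hz
      fin_cases a <;> fin_cases b <;> first | rfl | (exfalso; have h9 := congrArg Subtype.val hab; simp only at h9; first | exact hx' h9 | exact hx' h9.symm | exact hy' h9 | exact hy' h9.symm | exact hz' h9 | exact hz' h9.symm | exact h4 h9 | exact h4 h9.symm | exact h5 h9 | exact h5 h9.symm | exact h6 h9 | exact h6 h9.symm)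
    rw [← Nat.card_eq_fintype_card (α := E.Δ.Pan i (QuotientGroup.mk 1)), h7, Fintype.card_fin] at h8
    omega
  obtain ⟨u, -, hu⟩ := OddHalf.Table.AutBldg.exists_eq_conj E.e E.cs E.hcs E.S h3 hg hsg
  refine ⟨g⁻¹ * u, ?_⟩
  rw [map_mul, ← hu, map_inv]
  group

end Cfsg.Agent.H460.Engine
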