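import Cfsg.Agent.H460.Dgs
import Cfsg.Agent.H521.PFU3
import Cfsg.Agent.H594.TypedAE
import Cfsg.Agent.H14.TypC
import Cfsg.Agent.H185.TypedO
import Cfsg.Agent.H826.AASmall.UFive
import Cfsg.Agent.H826.AASmall.DInst

/-!
# `Core` for families of Lie type, I (helper460)

Orthogonal groups of odd dimension and of minus type, unitary groups of odd dimension, `F₄`, `E₆`, `E₇`, `E₈`, `²E₆`,
`³D₄`.
-/

set_option autoImplicit false

namespace Cfsg.Agent.H460.Fam

open Cfsg Subgroup Cfsg.Agent.H460.Engine Cfsg.Agent.H460.AA Cfsg.Agent.H460.Dgs Cfsg.Agent.H538.MFacts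
open Cfsg.Agent.H459.Rad Cfsg.Agent.H459.Gallery Cfsg.Agent.H460.Typed Cfsg.Agent.H185.TypedTw
open Cfsg.Agent.LieRecognition.BNCox (cA)
open Cfsg.Agent.Nodes

theorem pfu : PFU := fun _F _ _ σ _ hσ _q hq hq2 _r _ hr2 h1 => H521.PFU3.pf_u3 σ hσ hq hq2 hr2 h1

section General

variable {K : Type*} [Group K] [Finite K] {ℓ : ℕ} [Fact ℓ.Prime] {l : ℕ} {M : CoxeterMatrix (Fin l)} {Q : Fin l → ℕ}

/-- the engine for a given prime -/
theorem main {E : Eng ℓ K M Q} (hD : Dg M) {r : ℕ} [hr : Fact r.Prime] (hr2 : r ≠ 2) (hA : NoAut M r)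
    {x : MulAut K} (hx : orderOf x = r) (hR : RC x) (hP : PA r x) : Star E r x ∨ Own E r :=
  eng_main hD hr2 hA hx hR hP fun h5 hall i y => pf_pan pfu E h5 i (hall i) y

/-- rank at least three, not a star -/
theorem core_of_not_star [IsSimpleGroup K] (H : HasTyped ℓ K M Q) (h3 : 3 ≤ l) (hD : Dg M)
    (hA : ∀ r, r.Prime → r ≠ 2 → NoAut M r)
    (hs : ¬ ∃ c, ∀ i j, i ≠ c → j ≠ c → i ≠ j → M i j = 2) : Core K := by
  intro r hr hr2 x hx hR hP
  obtain ⟨E⟩ := exists_eng (by omega) H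
  rcases main (E := E) hD hr2 (hA r hr.out hr2) hx hR hP with h | h
  · obtain ⟨-, -, c, -, h1⟩ := h.q hr2 hD.two
    exact hs ⟨c, h1⟩
  · obtain ⟨-, -, h1, -⟩ := h.q hr2
    omega

end General

section Chev

open Cfsg.Lie Cfsg.Agent.Nodes.RGDChev

variable (F : Type) [Field F] [Finite F]

theorem core_F4 [IsSimpleGroup ↥(chevF4.group F)] : Core ↥(chevF4.group F) := by
  obtain ⟨p, hp⟩ := CharP.exists F
  have : Fact p.Prime := ⟨CharP.char_is_prime F p⟩
  exact core_of_not_star (ℓ := p) (H594.TypedAE.typed_chev (l := 4) (M := CoxeterMatrix.F₄) (by simp [IsType, typeList]) F p) (by norm_num) dg_F4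
    (fun r hr hr2 σ hσ h => aut_F4 σ hσ r hr hr2 h) star_F4

theorem core_E6 [IsSimpleGroup ↥(chevE6.group F)] : Core ↥(chevE6.group F) := by
  obtain ⟨p, hp⟩ := CharP.exists F
  have : Fact p.Prime := ⟨CharP.char_is_prime F p⟩
  exact core_of_not_star (ℓ := p) (H594.TypedAE.typed_chev (l := 6) (M := CoxeterMatrix.E₆) (by simp [IsType, typeList]) F p) (by norm_num) dg_E6
    (fun r hr hr2 σ hσ h => aut_E6 σ hσ r hr hr2 h) star_E6

theorem core_E7 [IsSimpleGroup ↥(chevE7.group F)] : Core ↥(chevE7.group F) := by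
  obtain ⟨p, hp⟩ := CharP.exists F
  have : Fact p.Prime := ⟨CharP.char_is_prime F p⟩
  exact core_of_not_star (ℓ := p) (H594.TypedAE.typed_chev (l := 7) (M := CoxeterMatrix.E₇) (by simp [IsType, typeList]) F p) (by norm_num) dg_E7
    (fun r hr hr2 σ hσ h => aut_E7 σ hσ r hr hr2 h) star_E7

theorem core_E8 [IsSimpleGroup ↥(chevE8.group F)] : Core ↥(chevE8.group F) := by
  obtain ⟨p, hp⟩ := CharP.exists F
  have : Fact p.Prime := ⟨CharP.char_is_prime F p⟩
  exact core_of_not_star (ℓ := p) (H594.TypedAE.typed_chev (l := 8) (M := CoxeterMatrix.E₈) (by simp [IsType, typeList]) F p) (by norm_num) dg_E8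
    (fun r hr hr2 σ hσ h => aut_E8 σ hσ r hr hr2 h) star_E8

variable {F}

theorem core_2E6 {q : ℕ} (hq : IsPrimePow q) (hF : Nat.card F = q ^ 2) [IsSimpleGroup ↥(twistedE6 F q)] :
    Core ↥(twistedE6 F q) := by
  obtain ⟨p, hp⟩ := CharP.exists F
  have : Fact p.Prime := ⟨CharP.char_is_prime F p⟩
  exact core_of_not_star (ℓ := p) (ftyped_2E6 F hq hF).typed (by norm_num) dg_F4
    (fun r hr hr2 σ hσ h => aut_F4 σ hσ r hr hr2 h) star_F4

end Chev

section Orth

variable {F : Type} [Field F] [Finite F] {m : ℕ}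

/-- orthogonal groups of odd dimension -/
theorem core_odd (hm : 3 ≤ m) (hq : Odd (Nat.card F)) [IsSimpleGroup (POmega F (quadFormOdd m F))] :
    Core (POmega F (quadFormOdd m F)) := by
  obtain ⟨p, hp⟩ := CharP.exists F
  have : Fact p.Prime := ⟨CharP.char_is_prime F p⟩
  have : Finite (POmega F (quadFormOdd m F)) := Quotient.finite _
  intro r hr hr2 x hx hR hP
  obtain ⟨E⟩ := exists_eng (by omega) (H185.TypedO.typed_odd_card (F := F) (p := p) (m := m) (by omega) hq)
  rcases main (E := E) (dg_B m (by omega)) hr2 (fun σ hσ h => aut_B m σ hσ r hr.out hr2 h) hx hR hP with h | h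
  · obtain ⟨-, h2, -⟩ := h.q hr2 (by omega)
    subst h2
    exact H185.TypedO.two_ne_zero_of_card (F := F) hq (CharP.cast_eq_zero F 2)
  · obtain ⟨-, -, h1, -⟩ := h.q hr2
    omega

/-- orthogonal groups of minus type -/
theorem core_minus (hm : 4 ≤ m) (a b : F)
    (hab : ∀ z₁ z₂ : F, z₁ ^ 2 + a * z₁ * z₂ + b * z₂ ^ 2 = 0 → z₁ = 0 ∧ z₂ = 0)
    [IsSimpleGroup (POmega F (quadFormMinus (m - 1) F a b))] : Core (POmega F (quadFormMinus (m - 1) F a b)) := by
  obtain ⟨p, hp⟩ := CharP.exists F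
  have : Fact p.Prime := ⟨CharP.char_is_prime F p⟩
  have : Finite (POmega F (quadFormMinus (m - 1) F a b)) := Quotient.finite _
  obtain ⟨n, rfl⟩ : ∃ n, m = n + 1 := ⟨m - 1, by omega⟩
  rw [Nat.add_sub_cancel] at *
  intro r hr hr2 x hx hR hP
  obtain ⟨E⟩ := exists_eng (by omega) (H185.TypedO.typed_minus' (F := F) (p := p) (m := n) (by omega) a b hab)
  rcases main (E := E) (dg_B n (by omega)) hr2 (fun σ hσ h => aut_B n σ hσ r hr.out hr2 h) hx hR hP with h | h
  · obtain ⟨-, -, c, h3, h4⟩ := h.q hr2 (by omega)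
    rcases Nat.lt_or_ge 3 n with hn | hn
    · exact star_B n hn ⟨c, h4⟩
    · obtain rfl : n = 3 := by omega
      have hc := mid_B3 h4
      have h5 := h3 2 (by rw [hc]; decide)
      have h6 : Nat.card F ^ 2 = 2 ∨ Nat.card F ^ 2 = 8 := h5
      have h7 : Nat.card F < 3 := by
        by_contra hcon
        have := Nat.pow_le_pow_left (not_lt.1 hcon) 2
        omega
      interval_cases (Nat.card F) <;> omega
  · obtain ⟨-, -, h1, -⟩ := h.q hr2
    omega

end Orth

section Unitary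

variable {F : Type} [Field F] [Fintype F] {q m : ℕ}

/-- unitary groups of odd dimension at least five -/
theorem core_psu_odd (hF : Fintype.card F = q ^ 2) (hm : 2 ≤ m) [IsSimpleGroup (PSU (2 * m + 1) F q)] :
    Core (PSU (2 * m + 1) F q) := by
  obtain ⟨p, hp⟩ := CharP.exists F
  have : Fact p.Prime := ⟨CharP.char_is_prime F p⟩
  have : Finite (PSU (2 * m + 1) F q) := Quotient.finite _
  intro r hr hr2 x hx hR hP
  obtain ⟨E⟩ := exists_eng (by omega) (H14.TypC.typed_psu_odd (F := F) (p := p) hF (m := m) (by omega))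
  rcases main (E := E) (dg_B m hm) hr2 (fun σ hσ h => aut_B m σ hσ r hr.out hr2 h) hx hR hP with h | h
  · obtain ⟨h3r, -, c, h3, h4⟩ := h.q hr2 hm
    have hq2 : ¬ (q ^ 2 = 2 ∨ q ^ 2 = 8) := by
      intro h6
      have h7 : q < 3 := by
        by_contra hcon
        have := Nat.pow_le_pow_left (not_lt.1 hcon) 2
        omega
      interval_cases q <;> omega
    rcases Nat.lt_or_ge 3 m with hn | hn
    · exact star_B m hn ⟨c, h4⟩
    · rcases hn.eq_or_lt with rfl | hn
      · have hc := mid_B3 h4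
        exact hq2 (h3 0 (by rw [hc]; decide))
      · obtain rfl : m = 2 := by omega
        by_cases hc : c = 0
        · have h5 := h3 1 (by rw [hc]; decide)
          have h6 : q ^ 3 = 2 ∨ q ^ 3 = 8 := h5
          have h7 : q < 3 := by
            by_contra hcon
            have := Nat.pow_le_pow_left (not_lt.1 hcon) 3
            omega
          have h8 : q = 2 := by interval_cases q <;> omega
          subst h8
          subst h3r
          exact H826.AASmall.u5 (by rw [hF]; norm_num) x hx hR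
        · exact hq2 (h3 0 (Ne.symm hc))
  · obtain ⟨-, -, h1, i, h2⟩ := h.q hr2
    subst h1
    have h5 : q ^ 2 = 3 ∨ q ^ 3 = 3 := by
      fin_cases i
      · exact Or.inl h2
      · exact Or.inr h2
    have h7 : q < 2 := by
      by_contra hcon
      have h8 := Nat.pow_le_pow_left (not_lt.1 hcon) 2
      have h9 := Nat.pow_le_pow_left (not_lt.1 hcon) 3
      omega
    interval_cases q <;> omega

end Unitary

end Cfsg.Agent.H460.Fam
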