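import Cfsg.Agent.H460.FamA
import Cfsg.Agent.H460.EngMore
import Cfsg.Agent.H460.FTypedAE
import Cfsg.Agent.H460.FTypC
import Cfsg.Agent.H460.FTypO
import Cfsg.Agent.H289.Tri.Main
import Cfsg.Agent.H826.AASmall.Low
import Cfsg.Agent.H826.AASmall.Sp
import Cfsg.Agent.H826.AASmall.OEight
import Cfsg.Agent.H953.EllPsl3

/-!
# `Core` for families of Lie type, II (helper460)

Linear, symplectic, unitary groups of even dimension, orthogonal groups of plus type, `G₂`, `³D₄`; the groups of rank two
over the field with three elements at the prime `3` are hypotheses (`Own3`).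
-/

set_option autoImplicit false

namespace Cfsg.Agent.H460.Fam

open Cfsg Subgroup Cfsg.Agent.H460.Engine Cfsg.Agent.H460.AA Cfsg.Agent.H460.Dgs Cfsg.Agent.H538.MFacts
open Cfsg.Agent.H459.Rad Cfsg.Agent.H459.Gallery Cfsg.Agent.H460.Typed Cfsg.Agent.H185.TypedTw
open Cfsg.Agent.LieRecognition.BNCox (cA)
open Cfsg.Agent.Nodes
open Cfsg.Agent.FixOdd (Tw)

/-- the statement for the prime `3` only -/
def Own3 (K : Type*) [Group K] : Prop := ∀ x : MulAut K, orderOf x = 3 → RC x → PA 3 x → False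

section Chev

open Cfsg.Lie Cfsg.Agent.Nodes.RGDChev

/-- `G₂(q)`, `q ≥ 3` -/
theorem core_G2 (F : Type) [Field F] [Finite F] (h3 : 3 ≤ Nat.card F) [IsSimpleGroup ↥(chevG2.group F)]
    (own : Nat.card F = 3 → Own3 ↥(chevG2.group F)) : Core ↥(chevG2.group F) := by
  obtain ⟨p, hp⟩ := CharP.exists F
  have : Fact p.Prime := ⟨CharP.char_is_prime F p⟩
  intro r hr hr2 x hx hR hP
  obtain ⟨E, hF⟩ := exists_engF (by norm_num)
    (FTypedAE.ftyped_chev (D := chevG2) (l := 2) (M := CoxeterMatrix.G₂) (by simp [IsType, typeList]) F p)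
  rcases main (E := E) dg_G2 hr2 (fun σ hσ h => aut_G2 σ hσ r hr.out hr2 h) hx hR hP with h | h
  · obtain ⟨-, -, c, h4, -⟩ := h.qF hF hr2 le_rfl
    have h5 : Nat.card F = 2 := by
      rcases eq_or_ne (0 : Fin 2) c with h6 | h6
      · exact h4 1 (by rw [← h6]; decide)
      · exact h4 0 h6
    omega
  · obtain ⟨h4, -, -, i, h5⟩ := h.q hr2
    subst h4
    exact own h5 x hx hR hP

/-- `³D₄(q)` -/
theorem core_3D4 {F : Type} [Field F] [Fintype F] {q : ℕ} (hq : IsPrimePow q) (hF : Fintype.card F = q ^ 3)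
    [IsSimpleGroup ↥(twistedD4 F q)] (own : q = 3 → Own3 ↥(twistedD4 F q)) : Core ↥(twistedD4 F q) := by
  obtain ⟨p, hp⟩ := CharP.exists F
  have : Fact p.Prime := ⟨CharP.char_is_prime F p⟩
  intro r hr hr2 x hx hR hP
  have hF' : Nat.card F = q ^ 3 := by rw [Nat.card_eq_fintype_card, hF]
  obtain ⟨E, hFN⟩ := exists_engF (ℓ := p) (by norm_num) (ftyped_3D4 F hq hF')
  rcases main (E := E) dg_G2 hr2 (fun σ hσ h => aut_G2 σ hσ r hr.out hr2 h) hx hR hP with h | h
  · have hstar := h
    obtain ⟨hr3, hp2, c, h4, -⟩ := h.qF hFN hr2 le_rfl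
    have hq2 : q = 2 := by
      rcases eq_or_ne (0 : Fin 2) c with h6 | h6
      · have h7 : q ^ 3 = 2 := h4 1 (by rw [← h6]; decide)
        have h8 : q < 2 := by
          by_contra hcon
          have := Nat.pow_le_pow_left (not_lt.1 hcon) 3
          omega
        interval_cases q <;> omega
      · exact h4 0 h6
    subst hr3 hp2 hq2
    obtain ⟨i, hsol, g, hg⟩ := star_two hstar hR rfl
    have hQi : (![2, 2 ^ 3] : Fin 2 → ℕ) i = 2 := by
      have := PanL.q_of_fsol E.S E.e (hFN i) hsol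
      fin_cases i
      · rfl
      · rcases this with h | h
        · exact h
        · exact absurd h (by norm_num)
    obtain ⟨U', hU', hN⟩ := E.exists_U
    -- the Sylow subgroup and the parabolic subgroup
    set V : Sylow 2 ↥(twistedD4 F 2) := g • U' with hV
    have hNV : normalizer ((V : Subgroup ↥(twistedD4 F 2)) : Set ↥(twistedD4 F 2)) =
        E.P.B.map (MulAut.conj g).toMonoidHom := by
      rw [← hN, hV, Sylow.coe_subgroup_smul]
      exact (Subgroup.map_equiv_normalizer_eq (U' : Subgroup ↥(twistedD4 F 2)) (MulAut.conj g)).symm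
    have hmem : ∀ (A : Subgroup ↥(twistedD4 F 2)) k, k ∈ A.map (MulAut.conj g).toMonoidHom ↔ g⁻¹ * k * g ∈ A := by
      intro A k
      constructor
      · rintro ⟨h, hh, rfl⟩
        have e : g⁻¹ * ((MulAut.conj g).toMonoidHom h) * g = h := by
          simp [mul_assoc]
        rwa [e]
      · intro h
        refine ⟨_, h, ?_⟩
        simp [mul_assoc]
    refine H826.AASmall.d4 (by rw [hF]; norm_num) x hx hR V ((E.P.parabolic {(E.e i : ↥(twistedD4 F 2))}).map
      (MulAut.conj g).toMonoidHom) ?_ ?_ ?_ ?_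
    · rw [hNV]
      exact Subgroup.map_mono le_sup_left
    · intro h hh
      rw [hmem] at hh ⊢
      have h1 := hg _ hh
      rw [cx_apply] at h1
      have e : g * (g⁻¹ * h * g) * g⁻¹ = h := by group
      rwa [e] at h1
    · rw [hNV, Subgroup.relIndex_map_map_of_injective _ _ (MulAut.conj g).injective,
        PanL.relIndex_eq E.S E.e (E.node i), hQi]
    · intro W hW
      obtain ⟨w, hw⟩ := E.normalizer_sylow W
      refine hstar.2.1 ⟨w, fun b hb => ?_⟩
      have h1 : w * b * w⁻¹ ∈ normalizer ((W : Subgroup ↥(twistedD4 F 2)) : Set ↥(twistedD4 F 2)) := by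
        rw [hw]
        exact ⟨b, hb, rfl⟩
      have h2 := hW _ h1
      rw [hw] at h2
      obtain ⟨c, hc, h3⟩ := h2
      rw [cx_apply, ← h3]
      have e : w⁻¹ * ((MulAut.conj w).toMonoidHom c) * w = c := by
        simp [mul_assoc]
      rwa [e]
  · obtain ⟨h4, -, -, i, h5⟩ := h.q hr2
    subst h4
    refine own ?_ x hx hR hP
    fin_cases i
    · exact h5
    · have h7 : q ^ 3 = 3 := h5
      have h8 : q < 2 := by
        by_contra hcon
        have := Nat.pow_le_pow_left (not_lt.1 hcon) 3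
        omega
      interval_cases q <;> omega

end Chev

section Linear

open Matrix

/-- `PSL_{n+1}(F)`, `n ≥ 3` -/
theorem core_psl_ge {F : Type} [Field F] [Fintype F] {n : ℕ} (hn : 3 ≤ n)
    [IsSimpleGroup (ProjectiveSpecialLinearGroup (Fin (n + 1)) F)] :
    Core (ProjectiveSpecialLinearGroup (Fin (n + 1)) F) := by
  obtain ⟨p, hp⟩ := CharP.exists F
  have : Fact p.Prime := ⟨CharP.char_is_prime F p⟩
  have : Finite (ProjectiveSpecialLinearGroup (Fin (n + 1)) F) := Quotient.finite _
  intro r hr hr2 x hx hR hP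
  obtain ⟨E, hF⟩ := exists_engF (ℓ := p) (by omega) (FTypedAE.ftyped_psl F (n := n) (by omega))
  rcases main (E := E) (dg_A n hn) hr2 (fun σ hσ h => aut_A n σ hσ r hr.out hr2 h) hx hR hP with h | h
  · obtain ⟨-, -, c, h4, h5⟩ := h.qF hF hr2 (by omega)
    rcases Nat.lt_or_ge 3 n with h6 | h6
    · exact star_A n h6 ⟨c, h5⟩
    · obtain rfl : n = 3 := by omega
      have hc := mid_A3 h5
      have h7 : Nat.card F = 2 := h4 0 (by rw [hc]; decide)
      rw [Nat.card_eq_fintype_card] at h7
      exact H826.AASmall.Low.core_psl4_two h7 r hr2 x hx hR hP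
  · obtain ⟨-, -, h1, -⟩ := h.q hr2
    omega

/-- `PSL_3(F)` -/
theorem core_psl3 {F : Type} [Field F] [Fintype F]
    [IsSimpleGroup (ProjectiveSpecialLinearGroup (Fin 3) F)]
    (own : Fintype.card F = 3 → Own3 (ProjectiveSpecialLinearGroup (Fin 3) F)) :
    Core (ProjectiveSpecialLinearGroup (Fin 3) F) := by
  obtain ⟨p, hp⟩ := CharP.exists F
  have : Fact p.Prime := ⟨CharP.char_is_prime F p⟩
  have : Finite (ProjectiveSpecialLinearGroup (Fin 3) F) := Quotient.finite _
  intro r hr hr2 x hx hR hP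
  obtain ⟨E, hF⟩ := exists_engF (ℓ := p) (by norm_num) (FTypedAE.ftyped_psl F (n := 2) (by omega))
  obtain ⟨t, ht, h1⟩ := E.exists_t x
  have hxr : x ^ r = 1 := by rw [← hx]; exact pow_orderOf_eq_one _
  have hθ := h1 r hxr
  have hσ : t.σ = 1 := aut_A 2 t.σ (E.sigma_M t) r hr.out hr2 (E.sigma_pow hθ)
  have hσ' : ∀ i, t.σ i = i := fun i => by rw [hσ]; rfl
  subst ht
  by_cases hne : r = p ∨ ¬ EllC.Elliptic t
  · have key : Star E r t.τ ∨ Own E r := by
      rcases fix_main (irr_A 2) le_rfl hr2 hx hR hP hθ hσ' hne with ⟨h1, h2, h3⟩ | h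
      · exact Or.inl ⟨h1, h2, ⟨t, rfl, hθ, hσ', hne.resolve_left h1⟩, h3⟩
      · exact Or.inr h
    rcases key with h | h
    · obtain ⟨-, -, c, h4, -⟩ := h.qF hF hr2 le_rfl
      have h5 : Nat.card F = 2 := by
        rcases eq_or_ne (0 : Fin 2) c with h6 | h6
        · exact h4 1 (by rw [← h6]; decide)
        · exact h4 0 h6
      rw [Nat.card_eq_fintype_card] at h5
      exact H826.AASmall.Low.core_psl3_two h5 r hr2 t.τ hx hR hP
    · obtain ⟨h4, -, -, i, h5⟩ := h.q hr2
      subst h4
      rw [Nat.card_eq_fintype_card] at h5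
      exact own h5 t.τ hx hR hP
  · push Not at hne
    exact H953.EllPsl3.psl3_elliptic F hr2 hne.1 t.τ hx hP fun V H hH hle => no_par_of_elliptic hne.2 V H hH hle

end Linear

section Symplectic

/-- `PSp_{2m}(F)` -/
theorem core_psp {F : Type} [Field F] [Fintype F] {m : ℕ} (hm : 2 ≤ m) (h2 : m = 2 → 3 ≤ Fintype.card F)
    [IsSimpleGroup (PSp m F)] (own : m = 2 → Fintype.card F = 3 → Own3 (PSp m F)) : Core (PSp m F) := by
  obtain ⟨p, hp⟩ := CharP.exists F
  have : Fact p.Prime := ⟨CharP.char_is_prime F p⟩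
  have : Finite (PSp m F) := Quotient.finite _
  intro r hr hr2 x hx hR hP
  obtain ⟨E, hF⟩ := exists_engF (ℓ := p) (by omega) (FTypC.ftyped_psp F (m := m) (by omega))
  rcases main (E := E) (dg_B m hm) hr2 (fun σ hσ h => aut_B m σ hσ r hr.out hr2 h) hx hR hP with h | h
  · obtain ⟨h3, -, c, h4, h5⟩ := h.qF hF hr2 (by omega)
    have h6 : Nat.card F = 2 := by
      rcases eq_or_ne (⟨0, by omega⟩ : Fin m) c with h6 | h6
      · refine h4 ⟨1, by omega⟩ ?_
        rw [← h6]
        intro h
        exact absurd (congrArg Fin.val h) (by norm_num)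
      · exact h4 _ h6
    rw [Nat.card_eq_fintype_card] at h6
    rcases Nat.lt_or_ge 3 m with hn | hn
    · exact star_B m hn ⟨c, h5⟩
    · rcases hn.eq_or_lt with rfl | hn
      · subst h3
        exact H826.AASmall.sp6 h6 x hx hR
      · have := h2 (by omega)
        omega
  · obtain ⟨h4, -, h5, i, h6⟩ := h.q hr2
    subst h4
    rw [Nat.card_eq_fintype_card] at h6
    exact own h5 h6 x hx hR hP

end Symplectic

section Unitary2

/-- `PSU_{2m}(q)`, `m ≥ 2` -/
theorem core_psu_even {F : Type} [Field F] [Fintype F] {q m : ℕ} (hF : Fintype.card F = q ^ 2) (hm : 2 ≤ m)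
    [IsSimpleGroup (PSU (2 * m) F q)] (own : m = 2 → q = 2 ∨ q = 3 → Own3 (PSU (2 * m) F q)) :
    Core (PSU (2 * m) F q) := by
  obtain ⟨p, hp⟩ := CharP.exists F
  have : Fact p.Prime := ⟨CharP.char_is_prime F p⟩
  have : Finite (PSU (2 * m) F q) := Quotient.finite _
  intro r hr hr2 x hx hR hP
  obtain ⟨E, hFN⟩ := exists_engF (ℓ := p) (by omega) (FTypC.ftyped_psu_even (p := p) hF hm)
  rcases main (E := E) (dg_B m hm) hr2 (fun σ hσ h => aut_B m σ hσ r hr.out hr2 h) hx hR hP with h | h
  · obtain ⟨h3, -, c, h4, h5⟩ := h.qF hFN hr2 (by omega)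
    have hq2 : ¬ q ^ 2 = 2 := by
      intro h6
      have h7 : q < 2 := by
        by_contra hcon
        have := Nat.pow_le_pow_left (not_lt.1 hcon) 2
        omega
      interval_cases q <;> omega
    rcases Nat.lt_or_ge 3 m with hn | hn
    · exact star_B m hn ⟨c, h5⟩
    · rcases hn.eq_or_lt with rfl | hn
      · have hc := mid_B3 h5
        exact hq2 (h4 0 (by rw [hc]; decide))
      · obtain rfl : m = 2 := by omega
        by_cases hc : c = 0
        · have h6 : q = 2 := h4 1 (by rw [hc]; decide)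
          subst h3
          exact own rfl (Or.inl h6) x hx hR hP
        · exact absurd (h4 0 (Ne.symm hc)) hq2
  · obtain ⟨h4, -, h1, i, h2⟩ := h.q hr2
    subst h1 h4
    have h5 : q ^ 2 = 3 ∨ q = 3 := by
      fin_cases i
      · exact Or.inl h2
      · exact Or.inr h2
    refine own rfl (Or.inr (h5.resolve_left fun h6 => ?_)) x hx hR hP
    have h7 : q < 2 := by
      by_contra hcon
      have h8 := Nat.pow_le_pow_left (not_lt.1 hcon) 2
      omega
    interval_cases q <;> omega

end Unitary2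

section Plus

/-- orthogonal groups of plus type -/
theorem core_plus {F : Type} [Field F] [Fintype F] {m : ℕ} (hm : 4 ≤ m)
    [IsSimpleGroup (POmega F (quadFormPlus m F))] : Core (POmega F (quadFormPlus m F)) := by
  obtain ⟨p, hp⟩ := CharP.exists F
  have : Fact p.Prime := ⟨CharP.char_is_prime F p⟩
  have : Finite (POmega F (quadFormPlus m F)) := Quotient.finite _
  obtain ⟨n, rfl⟩ : ∃ n, m = n + 2 := ⟨m - 2, by omega⟩
  intro r hr hr2 x hx hR hP
  have H := FTypO.ftyped_plus' (F := F) (p := p) (m := n) (by omega)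
  rcases Nat.lt_or_ge 2 n with hn | hn
  · obtain ⟨E, hF⟩ := exists_engF (ℓ := p) (by omega) H
    rcases main (E := E) (dg_D n (by omega)) hr2 (fun σ hσ h => aut_D n hn σ hσ r hr.out hr2 h) hx hR hP with h | h
    · obtain ⟨-, -, c, h4, h5⟩ := h.qF hF hr2 (by omega)
      exact star_D n hn ⟨c, h5⟩
    · obtain ⟨-, -, h1, -⟩ := h.q hr2
      omega
  · obtain rfl : n = 2 := by omega
    obtain ⟨E, hF, htri⟩ := H289.Tri.exists_engF_tri H
    have hxr : x ^ r = 1 := by rw [← hx]; exact pow_orderOf_eq_one _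
    obtain ⟨t, ht, h1⟩ := E.exists_t x
    have hθ := h1 r hxr
    have hσ : ∀ i, t.σ i = i := by
      by_cases h3 : r = 3
      · subst h3
        subst ht
        exact htri t hP hxr hθ
      · intro i
        rw [aut_D4 t.σ (E.sigma_M t) r hr.out hr2 h3 (E.sigma_pow hθ)]
        rfl
    rcases eng_sigma (dg_D 2 (by norm_num)) hr2 hx hR hP ht hθ hσ
      (fun h5 hall i y => pf_pan pfu E h5 i (hall i) y) with h | h
    · obtain ⟨h3, -, c, h4, h5⟩ := h.qF hF hr2 (by norm_num)
      have h6 : Nat.card F = 2 := by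
        rcases eq_or_ne (0 : Fin 4) c with h6 | h6
        · exact h4 1 (by rw [← h6]; decide)
        · exact h4 0 h6
      subst h3 ht
      obtain ⟨a, ha⟩ := inner_of_two (fun _ => h6) hσ
      rw [Nat.card_eq_fintype_card] at h6
      rw [ha] at hR hx
      refine H826.AASmall.o8 h6 (a := a) ?_ hR
      have hc : center (POmega F (quadFormPlus 4 F)) = ⊥ := by
        rcases (inferInstance : (center (POmega F (quadFormPlus 4 F))).Normal).eq_bot_or_eq_top with h7 | h7
        · exact h7
        · have h8 : MulAut.conj a = 1 := by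
            ext k
            have h9 : k ∈ center (POmega F (quadFormPlus 4 F)) := h7 ▸ mem_top k
            rw [MulAut.conj_apply, mem_center_iff.1 h9 a, mul_inv_cancel_right]
            rfl
          rw [h8, orderOf_one] at hx
          exact absurd hx (by norm_num)
      rw [← hx]
      exact (orderOf_injective MulAut.conj (conj_injective hc) a).symm
    · obtain ⟨-, -, h1, -⟩ := h.q hr2
      omega

end Plus

end Cfsg.Agent.H460.Fam
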