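import Cfsg.Agent.FixBN.ThinOpp
import Cfsg.Agent.FixOdd.Smith
import Cfsg.Agent.H460.OppTrace

/-!
# The action on a residue which is opposite its image

`V` is a residue of type `K` in a residue of type `J`, `θ V` is opposite `V` there. The permutation
`f = proj_V ∘ θ` of `V` controls products of conjugates of `θ`: for every `l` in the stabiliser of
`V` there is a `g` with the same action on `V` as `l` such that `θ g θ g⁻¹` stabilises `V` and acts
on `V` as `f l f l⁻¹` (`exists_mul`), and a `g` such that `θ g θ⁻¹ g⁻¹` acts on `V` as `f l f⁻¹ l⁻¹`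
(`exists_comm`).
-/

set_option autoImplicit false
set_option linter.unusedSectionVars false

open scoped Pointwise

namespace Cfsg.Agent.H460.OppPanel

open Cfsg.Agent.Tits.Core Cfsg.Agent.Tits.Core.Bldg Cfsg.Agent.Tits.Exchange Cfsg.Agent.Tits
open Cfsg.Agent.FixBN (Sys eq_of_isMinR par_transfer)
open Cfsg.Agent.FixBN.Cox (Par Ad)
open Cfsg.Agent.FixOdd (Tw)

variable {I : Type*} {M : CoxeterMatrix I} {W : Type*} [Group W] {cs : CoxeterSystem M W} {C : Type*}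

variable {Δ : Bldg cs C} {G : Type*} [Group G] [MulAction G C] {p : ℕ} (S : Sys Δ G p) (t : Tw Δ G)
variable [F : OppRes.Cox cs]

theorem ad_inv {φ : W ≃* W} {σ : I → I} {J K : Set I} {b : W} (h : Ad cs φ σ J K K b) : b⁻¹ = b := by
  have h1 : wJ cs K * b = wJ cs J := h.long'
  have h2 := h.long
  have h3 : b = wJ cs J * (wJ cs K)⁻¹ := by rw [← h2]; group
  have h4 : b⁻¹ = (wJ cs J)⁻¹ * wJ cs K := by rw [← h1]; group
  rw [h4, F.wJ_inv J]
  rw [h3, F.wJ_inv K]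

/-- `Res K y` is mapped to an opposite residue. -/
def OppV (t : Tw Δ G) (b : W) (K : Set I) (y : C) : Prop :=
  ∃ c ∈ Δ.Res K y, ∃ d ∈ Δ.Res K y, Δ.δ c (t.θ d) = b

variable {t} {J K : Set I} {b : W} {y : C}

theorem exists_e (hA : Ad cs t.φ t.σ J K K b) (hy : OppV t b K y) {c : C} (hc : c ∈ Δ.Res K y) :
    ∃ e ∈ Δ.Res K y, Δ.δ e (t.θ c) = b := by
  obtain ⟨c0, hc0, d0, hd0, h0⟩ := hy
  have h1 : t.θ c ∈ Δ.Res K (t.θ d0) :=
    t.θ_mem_Res hA.st' (Δ.mem_Res_trans (Δ.mem_Res_symm hd0) hc)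
  obtain ⟨e, he, he'⟩ := par_transfer hA.par.symm (x := t.θ d0) (y := c0) (a := t.θ c)
    (by rw [Δ.symm c0, h0]) h1
  refine ⟨e, Δ.mem_Res_trans hc0 he, ?_⟩
  rw [Δ.symm (t.θ c) e, he', inv_inv]

theorem eq_e (hA : Ad cs t.φ t.σ J K K b) {c e e' : C} (he : e ∈ Δ.Res K y) (he' : e' ∈ Δ.Res K y)
    (h : Δ.δ e c = b) (h' : Δ.δ e' c = b) : e = e' := by
  refine eq_of_isMinR (Δ := Δ) (T := K) (x := c) (v := b⁻¹) ?_ ?_ ?_ ?_
  · exact (isMinR_inv_iff cs).2 hA.par.minL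
  · rw [Δ.symm e' c, h']
  · rw [Δ.symm e c, h]
  · exact Δ.mem_Res_trans (Δ.mem_Res_symm he') he

/-- The map `proj_V ∘ θ`. -/
noncomputable def f0 (hA : Ad cs t.φ t.σ J K K b) (hy : OppV t b K y) (c : Δ.Res K y) : Δ.Res K y :=
  ⟨(exists_e hA hy c.2).choose, (exists_e hA hy c.2).choose_spec.1⟩

theorem f0_spec (hA : Ad cs t.φ t.σ J K K b) (hy : OppV t b K y) (c : Δ.Res K y) :
    Δ.δ (f0 hA hy c : C) (t.θ c) = b := (exists_e hA hy c.2).choose_spec.2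

theorem f0_injective (hA : Ad cs t.φ t.σ J K K b) (hy : OppV t b K y) :
    Function.Injective (f0 hA hy) := by
  intro c c' h
  have h1 := f0_spec hA hy c
  have h2 := f0_spec hA hy c'
  rw [← h] at h2
  have h3 : t.θ c' ∈ Δ.Res K (t.θ c) :=
    t.θ_mem_Res hA.st' (Δ.mem_Res_trans (Δ.mem_Res_symm c.2) c'.2)
  have h4 := eq_of_isMinR hA.par.minR h1 h2 h3
  exact Subtype.ext (t.θ.injective h4).symm

/-- The permutation `proj_V ∘ θ` of `V`. -/
noncomputable def f (hA : Ad cs t.φ t.σ J K K b) (hy : OppV t b K y) [Finite C] :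
    Equiv.Perm (Δ.Res K y) :=
  Equiv.ofBijective (f0 hA hy) (Finite.injective_iff_bijective.1 (f0_injective hA hy))

theorem f_spec (hA : Ad cs t.φ t.σ J K K b) (hy : OppV t b K y) [Finite C] (c : Δ.Res K y) :
    Δ.δ (f hA hy c : C) (t.θ c) = b := f0_spec hA hy c

theorem f_eq (hA : Ad cs t.φ t.σ J K K b) (hy : OppV t b K y) [Finite C] {c e : Δ.Res K y}
    (h : Δ.δ (e : C) (t.θ c) = b) : f hA hy c = e :=
  Subtype.ext (eq_e hA (f hA hy c).2 e.2 (f_spec hA hy c) h)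

/-- `f c = c` if and only if `c` is not mapped to a chamber opposite... -/
theorem f_eq_self_iff (hA : Ad cs t.φ t.σ J K K b) (hy : OppV t b K y) [Finite C] (c : Δ.Res K y) :
    f hA hy c = c ↔ Δ.δ (c : C) (t.θ c) = b := by
  constructor
  · intro h
    have := f_spec hA hy c
    rwa [h] at this
  · exact fun h => f_eq hA hy h

include S in
/-- Lifting the action on `V` to an element with given action on opposite residues. -/
theorem exists_lift (hth : Δ.Thick) (hA : Ad cs t.φ t.σ J K K b) {l : G} {c1 c2 z1 z2 : C}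
    (h1 : Δ.δ c1 z1 = b) (h2 : Δ.δ c2 z2 = b) (hl : l • c1 = c2) :
    ∃ g : G, (∀ c ∈ Δ.Res K c1, g • c = l • c) ∧ g • z1 = z2 := by
  have h3 : Δ.δ c2 (l • z1) = b := by rw [← hl, S.iso, h1]
  obtain ⟨u, hu, huz⟩ := FixBN.Thin.exists_UR_move S hth hA h3 h2
  refine ⟨u * l, fun c hc => ?_, by rw [mul_smul, huz]⟩
  rw [mul_smul]
  have h4 : l • c ∈ Δ.Res K c2 := by rw [← hl]; exact S.smul_mem_Res hc
  exact S.fix _ u (S.mem_UR.1 hu _ h4)

/-- The permutation of a set of chambers induced by `l`. -/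
noncomputable def act {V : Set C} (l : G) (hl : ∀ c, l • c ∈ V ↔ c ∈ V) : Equiv.Perm V :=
  (MulAction.toPerm l : Equiv.Perm C).subtypePerm fun x => hl x

theorem act_apply {V : Set C} {l : G} (hl : ∀ c, l • c ∈ V ↔ c ∈ V) (c : V) :
    (act l hl c : C) = l • (c : C) := rfl

theorem act_inv_apply {V : Set C} {l : G} (hl : ∀ c, l • c ∈ V ↔ c ∈ V) (c : V) :
    ((act l hl)⁻¹ c : C) = l⁻¹ • (c : C) := by
  have h : act l hl ((act l hl)⁻¹ c) = c := (act l hl).apply_symm_apply c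
  have h1 := congrArg Subtype.val h
  rw [act_apply] at h1
  rw [← h1, inv_smul_smul]

theorem mul_power {X : Type*} {V : Set X} (z : Equiv.Perm X) (w : Equiv.Perm V)
    (h : ∀ c : V, z c = w c) {n : ℕ} (hn : z ^ n = 1) : w ^ n = 1 := by
  have h1 : ∀ (n : ℕ) (c : V), (z ^ n) c = (w ^ n) c := by
    intro n
    induction n with
    | zero => intro c; rfl
    | succ n ih =>
      intro c
      rw [pow_succ, pow_succ, Equiv.Perm.mul_apply, Equiv.Perm.mul_apply, h, ih]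
  ext c
  rw [← h1, hn]
  rfl

include S in
/-- **Products.** -/
theorem exists_mul (hth : Δ.Thick) (hA : Ad cs t.φ t.σ J K K b) (hy : OppV t b K y) [Finite C]
    (l : G) (hl : ∀ c, l • c ∈ Δ.Res K y ↔ c ∈ Δ.Res K y) :
    ∃ g : G, ∀ c : Δ.Res K y, (t.θ * MulAction.toPerm g * t.θ * (MulAction.toPerm g)⁻¹ : Equiv.Perm C) c =
      (f hA hy * act l hl * f hA hy * (act l hl)⁻¹ : Equiv.Perm (Δ.Res K y)) c := by
  have hbi := ad_inv hA
  have hbφ : t.φ b = b := hA.fix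
  set c1 : Δ.Res K y := ⟨y, Δ.self_mem_Res K y⟩ with hc1
  set c2 : Δ.Res K y := act l hl c1 with hc2
  set z1 : C := t.θ ((f hA hy)⁻¹ c1 : Δ.Res K y) with hz1
  set z2 : C := t.θ.symm (f hA hy c2 : Δ.Res K y) with hz2
  have h1 : Δ.δ (c1 : C) z1 = b := by
    have h := f_spec hA hy ((f hA hy)⁻¹ c1)
    have h' : f hA hy ((f hA hy)⁻¹ c1) = c1 := (f hA hy).apply_symm_apply c1
    rwa [h'] at h
  have h2 : Δ.δ (c2 : C) z2 = b := by
    have h := f_spec hA hy c2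
    have h3 : t.φ (Δ.δ z2 (c2 : C)) = b := by
      rw [← t.δ_θ, hz2, Equiv.apply_symm_apply]
      exact h
    have h4 : Δ.δ z2 (c2 : C) = b := t.φ.injective (by rw [h3, hbφ])
    rw [Δ.symm z2 c2, h4, hbi]
  obtain ⟨g, hg, hgz⟩ := exists_lift S hth hA (l := l) h1 h2 (act_apply hl c1).symm
  have hRes : Δ.Res K (c1 : C) = Δ.Res K y := rfl
  rw [hRes] at hg
  refine ⟨g, fun c => ?_⟩
  -- `g⁻¹ c`
  have hginv : ∀ c ∈ Δ.Res K y, g⁻¹ • c = l⁻¹ • c := by
    intro c hc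
    have h3 : l⁻¹ • c ∈ Δ.Res K y := by rw [← hl, smul_inv_smul]; exact hc
    rw [inv_smul_eq_iff, hg _ h3, smul_inv_smul]
  set c' : Δ.Res K y := (act l hl)⁻¹ c with hc'
  have hc'' : (c' : C) = g⁻¹ • (c : C) := by rw [hginv c c.2, hc', act_inv_apply]
  change t.θ (g • t.θ (g⁻¹ • (c : C))) = (f hA hy (act l hl (f hA hy ((act l hl)⁻¹ c))) : Δ.Res K y)
  rw [← hc'', ← hc']
  -- `e = f c'`
  set e := f hA hy c' with he
  have he1 : Δ.δ (e : C) (t.θ c') = b := f_spec hA hy c'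
  have he2 : Δ.δ (g • (e : C)) (g • t.θ c') = b := by rw [S.iso, he1]
  have hge : (act l hl e : C) = g • (e : C) := by rw [act_apply, hg e e.2]
  -- `θ (g θ c')` is in `V`
  have h5 : t.θ c' ∈ Δ.Res K z1 := by
    refine t.θ_mem_Res hA.st' ?_
    exact Δ.mem_Res_trans (Δ.mem_Res_symm ((f hA hy)⁻¹ c1).2) c'.2
  have h6 : g • t.θ c' ∈ Δ.Res K z2 := by
    rw [← hgz]
    exact S.smul_mem_Res h5
  have h7 : t.θ (g • t.θ c') ∈ Δ.Res K y := by
    have h8 := t.θ_mem_Res hA.st' h6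
    rw [hz2, Equiv.apply_symm_apply] at h8
    exact Δ.mem_Res_trans (f hA hy c2).2 h8
  have h8 : Δ.δ (t.θ (g • t.θ c')) (t.θ (act l hl e : Δ.Res K y)) = b := by
    rw [t.δ_θ, hge, Δ.symm (g • (e : C)), he2, hbi, hbφ]
  exact congrArg Subtype.val
    (f_eq hA hy (c := act l hl e) (e := ⟨t.θ (g • t.θ c'), h7⟩) h8).symm

include S in
/-- **Commutators.** -/
theorem exists_comm (hth : Δ.Thick) (hA : Ad cs t.φ t.σ J K K b) (hy : OppV t b K y) [Finite C]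
    (l : G) (hl : ∀ c, l • c ∈ Δ.Res K y ↔ c ∈ Δ.Res K y) :
    ∃ g : G, ∀ c : Δ.Res K y, (t.θ * MulAction.toPerm g * t.θ⁻¹ * (MulAction.toPerm g)⁻¹ : Equiv.Perm C) c =
      (f hA hy * act l hl * (f hA hy)⁻¹ * (act l hl)⁻¹ : Equiv.Perm (Δ.Res K y)) c := by
  have hbi := ad_inv hA
  have hbφ : t.φ b = b := hA.fix
  have hspec : ∀ c : Δ.Res K y, Δ.δ (c : C) (t.θ.symm (f hA hy c : Δ.Res K y)) = b := by
    intro c
    have h := f_spec hA hy c
    have h3 : t.φ (Δ.δ (t.θ.symm (f hA hy c : Δ.Res K y)) (c : C)) = b := by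
      rw [← t.δ_θ, Equiv.apply_symm_apply]
      exact h
    have h4 : Δ.δ (t.θ.symm (f hA hy c : Δ.Res K y)) (c : C) = b := t.φ.injective (by rw [h3, hbφ])
    rw [Δ.symm _ (c : C), h4, hbi]
  set c1 : Δ.Res K y := ⟨y, Δ.self_mem_Res K y⟩ with hc1
  obtain ⟨g, hg, hgz⟩ := exists_lift S hth hA (l := l) (hspec c1) (hspec (act l hl c1))
    (act_apply hl c1).symm
  have hRes : Δ.Res K (c1 : C) = Δ.Res K y := rfl
  rw [hRes] at hg
  refine ⟨g, fun c => ?_⟩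
  have hginv : ∀ c ∈ Δ.Res K y, g⁻¹ • c = l⁻¹ • c := by
    intro c hc
    have h3 : l⁻¹ • c ∈ Δ.Res K y := by rw [← hl, smul_inv_smul]; exact hc
    rw [inv_smul_eq_iff, hg _ h3, smul_inv_smul]
  set c' : Δ.Res K y := (act l hl)⁻¹ c with hc'
  have hc'' : (c' : C) = g⁻¹ • (c : C) := by rw [hginv c c.2, hc', act_inv_apply]
  change t.θ (g • t.θ⁻¹ (g⁻¹ • (c : C))) =
    (f hA hy (act l hl ((f hA hy)⁻¹ ((act l hl)⁻¹ c))) : Δ.Res K y)
  rw [← hc'', ← hc']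
  set e := (f hA hy)⁻¹ c' with he
  have hfe : f hA hy e = c' := (f hA hy).apply_symm_apply c'
  have he1 : Δ.δ (e : C) (t.θ⁻¹ c') = b := by
    have := hspec e
    rw [hfe] at this
    exact this
  have hge : (act l hl e : C) = g • (e : C) := by rw [act_apply, hg e e.2]
  -- the unique chamber opposite in the image
  have hst : ∀ c ∈ Δ.Res K y, ∀ d ∈ Δ.Res K y, t.θ.symm d ∈ Δ.Res K (t.θ.symm c) := by
    intro c hc d hd
    rw [mem_Res]
    have h3 : t.φ (Δ.δ (t.θ.symm c) (t.θ.symm d)) ∈ WJ cs K := by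
      rw [← t.δ_θ, Equiv.apply_symm_apply, Equiv.apply_symm_apply]
      exact Δ.δ_mem_of_mem_Res hc hd
    have h4 : ∀ n : ℕ, (t.φ : W → W)^[n] (t.φ (Δ.δ (t.θ.symm c) (t.θ.symm d))) ∈ WJ cs K := by
      intro n
      induction n with
      | zero => exact h3
      | succ n ih => rw [Function.iterate_succ_apply']; exact t.φ_mem hA.st' ih
    -- `θ` has finite order
    obtain ⟨n, hn, hθn⟩ : ∃ n : ℕ, 0 < n ∧ t.θ ^ n = 1 :=
      ⟨orderOf t.θ, orderOf_pos _, pow_orderOf_eq_one _⟩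
    have h5 := FixOdd.Tw.δ_pow (t := t) n (t.θ.symm c) (t.θ.symm d)
    rw [hθn] at h5
    obtain ⟨m, rfl⟩ := Nat.exists_eq_succ_of_ne_zero hn.ne'
    rw [Function.iterate_succ_apply] at h5
    have h6 := h4 m
    rw [← h5] at h6
    exact h6
  have h5 : t.θ⁻¹ c' ∈ Δ.Res K (t.θ.symm (f hA hy c1 : Δ.Res K y)) := hst _ (f hA hy c1).2 _ c'.2
  have h6 : g • t.θ⁻¹ c' ∈ Δ.Res K (t.θ.symm (f hA hy (act l hl c1) : Δ.Res K y)) := by
    rw [← hgz]
    exact S.smul_mem_Res h5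
  have h7 : t.θ (g • t.θ⁻¹ c') ∈ Δ.Res K y := by
    have h8 := t.θ_mem_Res hA.st' h6
    rw [Equiv.apply_symm_apply] at h8
    exact Δ.mem_Res_trans (f hA hy (act l hl c1)).2 h8
  have h8 : Δ.δ (t.θ (g • t.θ⁻¹ c')) (t.θ (act l hl e : Δ.Res K y)) = b := by
    rw [t.δ_θ, hge, Δ.symm (g • (e : C)), S.iso, he1, hbi, hbφ]
  exact congrArg Subtype.val
    (f_eq hA hy (c := act l hl e) (e := ⟨t.θ (g • t.θ⁻¹ c'), h7⟩) h8).symm

end Cfsg.Agent.H460.OppPanel
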