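import Cfsg.Agent.FixBN.FieldRGD

/-!
# Groups with a typed root group datum (helper460, AA-engine)

* `LNode P U s Q` : the node `s` is a node over a field (`FieldNode`, `Q = |F|`) or of unitary type (`UNode`, `Q = q ^ 3`);
  any characteristic;
* `HasTyped p K M Q` : `K` has a root group datum of characteristic `p` and type `M` with such nodes, the panels of type
  `i` have `Q i + 1` chambers.
-/

set_option autoImplicit false

namespace Cfsg.Agent.H460.Typed

open CoxeterSystem Cfsg.Agent.ChevalleyStructure.CoxeterGeom Cfsg.Agent.Tits.Roots Cfsg.Agent.Tits.Core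
  Cfsg.Agent.Tits.RootComb Cfsg.Agent.Nodes.Comb Cfsg.Agent.Nodes.Reps Cfsg.Agent.Nodes.BNOf Cfsg.Agent.Nodes.BNOf.RGD
  Cfsg.Agent.Schreier.BNSch Cfsg.Agent.FixBN Cfsg.Agent.FixBN.U3Model Cfsg.Agent.FixBN.UNode

/-- The node `s` is of type `L₂(Q)` or `U₃(q)`, `Q = q ^ 3`. -/
def LNode {K : Type*} [Group K] (P : Cfsg.BNPair K) (U : Subgroup K) (s : K) (Q : ℕ) : Prop :=
  ∃ V : Subgroup K, Node P U s V ∧
    ((∃ (F : Type) (_ : Field F) (_ : Finite F), Nat.card F = Q ∧ Nonempty (FieldNode P U s V F)) ∨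
      (∃ (F : Type) (_ : Field F) (_ : Finite F) (σ : F →+* F) (_ : Inv2 σ) (q : ℕ),
        (∃ x, σ x ≠ x) ∧ Nat.card F = q ^ 2 ∧ Q = q ^ 3 ∧ Nonempty (UNode P U s V σ)))

/-- `K` has a root group datum of characteristic `p` and Coxeter matrix `M`; the panels of type `i` have `Q i + 1`
chambers and are of type `L₂` or `U₃`. -/
def HasTyped (p : ℕ) (K : Type*) [Group K] {l : ℕ} (M : CoxeterMatrix (Fin l)) (Q : Fin l → ℕ) : Prop :=
  ∃ (A : Fin l → Fin l → ℤ) (h : IsCartan M A) (T : Subgroup K) (n : Fin l → K)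
    (X : (Fin l → ℤ) → Subgroup K) (_ : Finite M.Group) (R : RGD M.toCoxeterSystem h p T n X)
    (hgen : RGD.B M.toCoxeterSystem h T X ⊔ NN M.toCoxeterSystem R.nsys = ⊤), Group.IsSolvable T ∧
      ∀ i, LNode (R.bnPair hgen) (RGD.Sup X (RGD.Pos M.toCoxeterSystem h)) (n i) (Q i)

end Cfsg.Agent.H460.Typed
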